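import Cfsg.Agent.Lib.H89.Normal2
import Cfsg.Agent.Lib.H87.Grow
import Cfsg.Agent.Lib.H87.Inv
import Cfsg.Agent.Lib.H13.Cores

/-!
Subgroups meeting the support of a normal subsystem in a non-centric subgroup (S5251).
-/

set_option autoImplicit false
open Cfsg Cfsg.FusionSystem H86.FusBasic H86.FusSat H86.FusCentric H89.Normal H89.Normal2

namespace H89.NonCentric

variable {Ω : Type*} [Group Ω] {S : Subgroup Ω}

/-- The inner automorphisms under an isomorphism. -/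
theorem map_inn {P Q : Subgroup Ω} (e : P ≃* Q) :
    (Inn P).map (MulAut.congr e).toMonoidHom = Inn Q := by
  ext β
  simp only [Subgroup.mem_map]
  constructor
  · rintro ⟨_, ⟨g, rfl⟩, rfl⟩
    refine ⟨e g, ?_⟩
    ext x
    simp [MulAut.congr, MulAut.conj_apply]
  · rintro ⟨g, rfl⟩
    refine ⟨MulAut.conj (e.symm g), ⟨_, rfl⟩, ?_⟩
    ext x
    simp [MulAut.congr, MulAut.conj_apply]

theorem map_core {F : FusionSystem S} {p : ℕ} {P Q : Subgroup Ω} {e : P ≃* Q} (he : IsIso F e) :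
    ((pCore p (F.autGroup P)).map (F.autGroup P).subtype).map (MulAut.congr e).toMonoidHom =
      (pCore p (F.autGroup Q)).map (F.autGroup Q).subtype := by
  have h1 := H13.Cores.map_pCore_equiv (p := p) (autCongr he)
  rw [← h1, Subgroup.map_map, Subgroup.map_map]
  rfl

/-- Radical subgroups are transported by isomorphisms of the system. -/
theorem isRadical_iso {F : FusionSystem S} {p : ℕ} {P Q : Subgroup Ω} {e : P ≃* Q} (he : IsIso F e)
    (h : F.IsRadical p P) : F.IsRadical p Q :=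
  ⟨he.le_right, by rw [← map_core he, h.2, map_inn]⟩

theorem isRadical_conj {F : FusionSystem S} {p : ℕ} {P Q : Subgroup Ω} (hPQ : F.IsConj P Q)
    (h : F.IsRadical p P) : F.IsRadical p Q := by
  obtain ⟨e, he⟩ := (isConj_iff F).1 hPQ
  exact isRadical_iso he h

/-- `P ≤ S`, `T` strongly closed with `C_T(P ∩ T) ≰ P`: some element of `T` normalizes `P`, lies outside `P` and induces on
`P` an element of `O_p(Aut_F(P))`. -/
theorem exists_core_elt [Finite S] {p : ℕ} [hp : Fact p.Prime] (hS : IsPGroup p S)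
    {F : FusionSystem S} {T P : Subgroup Ω} (hT : F.StronglyClosed T) (hP : P ≤ S)
    (hQ : ¬ centralizerIn T (P ⊓ T) ≤ P) :
    ∃ q ∈ T, ∃ hq : q ∈ Subgroup.normalizer (P : Set Ω), q ∉ P ∧
      conjAut P hq ∈ (pCore p (F.autGroup P)).map (F.autGroup P).subtype := by
  have hTS := hT.1
  set Q := centralizerIn T (P ⊓ T) with hQdef
  have hQS : Q ≤ S := inf_le_left.trans hTS
  have hPQ : ∀ x ∈ P, ∀ t ∈ Q, x * t * x⁻¹ ∈ Q := by
    intro x hx t ht
    rw [hQdef, mem_centralizerIn] at ht ⊢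
    refine ⟨H87.Grow.StronglyClosed.conj_mem hT (hP hx) ht.1, fun y hy => ?_⟩
    have h1 : x⁻¹ * y * x ∈ P ⊓ T :=
      ⟨P.mul_mem (P.mul_mem (P.inv_mem hx) hy.1) hx,
        H87.Grow.StronglyClosed.conj_mem' hT (hP hx) hy.2⟩
    have h2 := ht.2 _ h1
    calc y * (x * t * x⁻¹) = x * ((x⁻¹ * y * x) * t) * x⁻¹ := by group
      _ = x * (t * (x⁻¹ * y * x)) * x⁻¹ := by rw [h2]
      _ = (x * t * x⁻¹) * y := by group
  have hfS : Finite ↥(P ⊔ Q) := finite_of_le (sup_le hP hQS)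
  have hlt : P < P ⊔ Q := lt_of_le_not_ge le_sup_left fun h => hQ (le_sup_right.trans h)
  have hlt2 := lt_inf_normalizer (hS.to_le (sup_le hP hQS)) hlt
  obtain ⟨y, ⟨hy, hyN⟩, hyP⟩ := SetLike.exists_of_lt hlt2
  obtain ⟨x, hx, q, hq, rfl⟩ := (H87.Grow.mem_sup_of_conj hPQ).1 hy
  have hqN : q ∈ Subgroup.normalizer (P : Set Ω) := by
    have h1 : x⁻¹ * (x * q) ∈ Subgroup.normalizer (P : Set Ω) :=
      Subgroup.mul_mem _ (Subgroup.inv_mem _ (Subgroup.le_normalizer hx)) hyN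
    rwa [inv_mul_cancel_left] at h1
  have hqP : q ∉ P := fun h => hyP (P.mul_mem hx h)
  have hqT : q ∈ T := hq.1
  refine ⟨q, hqT, hqN, hqP, ?_⟩
  have hfP : Finite P := finite_of_le hP
  have hfA : Finite (MulAut P) := finite_mulAut P
  have hinv : ∀ α ∈ F.autGroup P, ∀ x : P, (x : Ω) ∈ T → ((α x : P) : Ω) ∈ T := by
    intro α hα x hx
    exact stronglyClosed_apply_mem hT ((H86.FusBasic.mem_autGroup F hP).1 hα) hx
  let B : Subgroup (F.autGroup P) :=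
    { carrier := {β | (∀ x : P, (x : Ω) ∈ T → (β : MulAut P) x = x) ∧
        ∀ x : P, (x : Ω)⁻¹ * ((β : MulAut P) x : P) ∈ T}
      mul_mem' := by
        rintro ⟨α, ha⟩ ⟨β, hb⟩ ⟨ha1, ha2⟩ ⟨hb1, hb2⟩
        refine ⟨fun x hx => ?_, fun x => ?_⟩
        · show α (β x) = x
          rw [show β x = x from hb1 x hx, show α x = x from ha1 x hx]
        · have key : (x : Ω)⁻¹ * ((α * β) x : P) =
              ((x : Ω)⁻¹ * (α x : P)) * (α (x⁻¹ * β x) : P) := by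
            rw [map_mul, map_inv, MulAut.mul_apply]
            simp [mul_assoc]
          show (x : Ω)⁻¹ * ((α * β) x : P) ∈ T
          rw [key]
          exact T.mul_mem (ha2 x) (hinv α ha _ (hb2 x))
      one_mem' := ⟨fun x _ => rfl, fun x => by simp⟩
      inv_mem' := by
        rintro ⟨α, ha⟩ ⟨ha1, ha2⟩
        have ha' := Subgroup.inv_mem _ ha
        refine ⟨fun x hx => ?_, fun x => ?_⟩
        · show α⁻¹ x = x
          rw [MulAut.inv_apply]
          have : α x = x := ha1 x hx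
          conv_lhs => rw [← this]
          exact α.symm_apply_apply x
        · have key : (x : Ω)⁻¹ * (α⁻¹ x : P) =
              (((α⁻¹ (x⁻¹ * α x) : P) : Ω))⁻¹ := by
            rw [map_mul, map_inv, MulAut.inv_apply_self]
            simp
          show (x : Ω)⁻¹ * (α⁻¹ x : P) ∈ T
          rw [key]
          exact T.inv_mem (hinv _ ha' _ (ha2 x)) }
  have hBn : B.Normal := by
    constructor
    rintro ⟨β, hb⟩ ⟨hb1, hb2⟩ ⟨α, ha⟩
    have ha' := Subgroup.inv_mem _ ha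
    refine ⟨fun x hx => ?_, fun x => ?_⟩
    · show α (β (α⁻¹ x)) = x
      rw [show β (α⁻¹ x) = α⁻¹ x from hb1 _ (hinv _ ha' x hx)]
      exact MulAut.apply_inv_self _ _ _
    · have key : (x : Ω)⁻¹ * ((α * β * α⁻¹) x : P) =
          (α ((α⁻¹ x)⁻¹ * β (α⁻¹ x)) : P) := by
        rw [map_mul, map_inv, MulAut.apply_inv_self, MulAut.mul_apply, MulAut.mul_apply]
        simp
      show (x : Ω)⁻¹ * ((α * β * α⁻¹) x : P) ∈ T
      rw [key]
      exact hinv α ha _ (hb2 _)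
  have hBp : IsPGroup p B := by
    refine isPGroup_of_coprime ?_
    rintro ⟨⟨β, hb⟩, hb1, hb2⟩ hord
    have hord' : (orderOf β).Coprime p := by
      have h0 := Subgroup.orderOf_coe (⟨⟨β, hb⟩, ⟨hb1, hb2⟩⟩ : B)
      have h1 := Subgroup.orderOf_coe (⟨β, hb⟩ : F.autGroup P)
      rw [← h0, ← h1] at hord
      exact hord
    have hPp : IsPGroup p P := hS.to_le hP
    have h2 : β = 1 := by
      ext x
      rw [MulAut.one_apply]
      congr 1
      apply coprime_fix hPp hord'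
      exact hb1 _ (hb2 x)
    subst h2
    rfl
  have hle := H1.Cores.le_pCore hBn hBp
  refine ⟨⟨conjAut P hqN, ?_⟩, hle ?_, rfl⟩
  · exact autInducedBy_le_autGroup F hP (conjAut_mem_autInducedBy hqN (hTS hqT))
  · refine ⟨fun x hx => ?_, fun x => ?_⟩
    · apply Subtype.ext
      show q * (x : Ω) * q⁻¹ = x
      have h1 := (mem_centralizerIn.1 hq).2 _ ⟨x.2, hx⟩
      rw [← h1, mul_assoc, mul_inv_cancel, mul_one]
    · show (x : Ω)⁻¹ * (q * (x : Ω) * q⁻¹) ∈ T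
      have h1 := T.mul_mem (H87.Grow.StronglyClosed.conj_mem' hT (hP x.2) hqT) (T.inv_mem hqT)
      have h2 : (x : Ω)⁻¹ * (q * (x : Ω) * q⁻¹) = (x : Ω)⁻¹ * q * x * q⁻¹ := by group
      rw [h2]
      exact h1

/-- S5251 -/
theorem noncentral_not_radical [Finite S] {p : ℕ} [Fact p.Prime] (hS : IsPGroup p S)
    (F : FusionSystem S) (hF : F.IsSaturated p) {T : Subgroup Ω} (E : FusionSystem T)
    (hE : E.IsNormalIn F p) (P : Subgroup Ω) (hP : F.IsCentric P) (hPT : ¬ E.IsCentric (P ⊓ T)) :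
    (∃ φ ∈ F.Hom P, ∃ x ∈ S ⊓ Subgroup.normalizer (φ.range : Set Ω), x ∉ φ.range ∧
      ∃ α ∈ ((pCore p ↥(F.autGroup φ.range)).map (F.autGroup φ.range).subtype :
        Subgroup (MulAut ↥φ.range)), ∀ y : ↥φ.range, ((α y : ↥φ.range) : Ω) = x * (y : Ω) * x⁻¹) ∧
    ¬ F.IsRadical p P := by
  have hT : F.StronglyClosed T := hE.1.2.2.2.1
  have hsub : E.IsSubsystemOf F := hE.1.2.2.1
  have hTS := hT.1
  have hPS := hP.1
  -- an `E`-conjugate which does not contain its centralizer in `T`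
  have h1 : ∃ P₁, E.IsConj (P ⊓ T) P₁ ∧ ¬ centralizerIn T P₁ ≤ P₁ := by
    by_contra hcon
    exact hPT ⟨inf_le_right, fun Q hQ => by
      by_contra h
      exact hcon ⟨Q, hQ, h⟩⟩
  obtain ⟨P₁, hc₁, hP₁⟩ := h1
  have hc₁F : F.IsConj (P ⊓ T) P₁ := by
    obtain ⟨φ, hφ, h⟩ := hc₁
    exact ⟨φ, hsub _ hφ, h⟩
  have hP₁T : P₁ ≤ T := isConj_le_right hc₁
  obtain ⟨P', hP'c, hP'n⟩ := exists_fullyNormalized F (inf_le_left.trans hPS : P ⊓ T ≤ S)
  obtain ⟨e₀, he₀⟩ := (isConj_iff F).1 hP'c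
  obtain ⟨e₁, he₁⟩ := (isConj_iff F).1 (isConj_trans (isConj_symm hc₁F) hP'c)
  obtain ⟨χ₁, hχ₁, ψ₁, hψ₁, hψ₁x, hψ₁N⟩ := exists_normalizer_map_of_fullyNormalized hS hF hP'n he₁
  obtain ⟨χ₀, hχ₀, ψ₀, hψ₀, hψ₀x, hψ₀N⟩ := exists_normalizer_map_of_fullyNormalized hS hF hP'n he₀
  -- the element of `C_T(P')` outside `P'`
  obtain ⟨c, hc, hcP⟩ := SetLike.not_le_iff_exists.1 hP₁
  have hcN : c ∈ normalizerIn S P₁ := centralizerIn_le_normalizerIn S P₁ ⟨hTS hc.1, hc.2⟩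
  have hc'T : ψ₁ ⟨c, hcN⟩ ∈ T := by
    have := H87.Basic.mem_of_stronglyClosed hT (H87.Base.isMap_of_mem hψ₁) hcN hc.1
    rwa [H87.Base.extFun_apply ψ₁ hcN] at this
  have hP'C : ¬ centralizerIn T P' ≤ P' := by
    intro hle
    have h2 : ψ₁ ⟨c, hcN⟩ ∈ centralizerIn T P' := by
      refine mem_centralizerIn.2 ⟨hc'T, fun y hy => ?_⟩
      obtain ⟨x, hx⟩ : ∃ x : P₁, χ₁ (e₁ x) = ⟨y, hy⟩ :=
        ⟨e₁.symm (χ₁⁻¹ ⟨y, hy⟩), by rw [MulEquiv.apply_symm_apply, MulAut.apply_inv_self]⟩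
      have h3 := hψ₁x x
      rw [hx] at h3
      have h4 : ψ₁ ⟨x, le_normalizerIn he₁.le_left x.2⟩ = y := h3
      rw [← h4, ← map_mul, ← map_mul]
      congr 1
      exact Subtype.ext ((mem_centralizerIn.1 hc).2 _ x.2)
    obtain ⟨x, hx⟩ : ∃ x : P₁, χ₁ (e₁ x) = ⟨_, hle h2⟩ :=
      ⟨e₁.symm (χ₁⁻¹ ⟨_, hle h2⟩), by rw [MulEquiv.apply_symm_apply, MulAut.apply_inv_self]⟩
    have h3 := hψ₁x x
    rw [hx] at h3
    have h4 := F.injective_of_mem hψ₁ h3
    have h5 : (x : Ω) = c := congrArg Subtype.val h4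
    exact hcP (h5 ▸ x.2)
  -- `P` normalizes `P ⊓ T`
  have hPN : P ≤ normalizerIn S (P ⊓ T) := by
    intro x hx
    refine mem_normalizerIn.2 ⟨hPS hx, fun y => ⟨fun hy => ?_, fun hy => ?_⟩⟩
    · exact ⟨P.mul_mem (P.mul_mem hx hy.1) (P.inv_mem hx),
        H87.Grow.StronglyClosed.conj_mem hT (hPS hx) hy.2⟩
    · have h3 : y = x⁻¹ * (x * y * x⁻¹) * x := by group
      rw [h3]
      exact ⟨P.mul_mem (P.mul_mem (P.inv_mem hx) hy.1) hx,
        H87.Grow.StronglyClosed.conj_mem' hT (hPS hx) hy.2⟩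
  set φ : P →* Ω := ψ₀.comp (Subgroup.inclusion hPN) with hφdef
  have hφ : φ ∈ F.Hom P := restrict_mem F hψ₀ hPN
  have hconj : F.IsConj P φ.range := ⟨φ, hφ, rfl⟩
  have hinf : φ.range ⊓ T = P' := by
    apply le_antisymm
    · rintro _ ⟨⟨x, rfl⟩, hx⟩
      have hxT : (x : Ω) ∈ T := by
        obtain ⟨e, he, hex⟩ := exists_iso_of_mem F hφ
        have h3 := stronglyClosed_apply_mem hT he.symm (x := e x) (by rw [hex]; exact hx)
        have h4 : ((e.symm (e x) : P) : Ω) ∈ T := h3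
        rwa [MulEquiv.symm_apply_apply] at h4
      have h4 := hψ₀x ⟨x, x.2, hxT⟩
      show ψ₀ ⟨x, hPN x.2⟩ ∈ P'
      have h5 : ψ₀ ⟨x, hPN x.2⟩ = χ₀ (e₀ ⟨x, x.2, hxT⟩) := h4
      rw [h5]
      exact Subtype.coe_prop _
    · intro y hy
      obtain ⟨x, hx⟩ : ∃ x : ↥(P ⊓ T), χ₀ (e₀ x) = ⟨y, hy⟩ :=
        ⟨e₀.symm (χ₀⁻¹ ⟨y, hy⟩), by rw [MulEquiv.apply_symm_apply, MulAut.apply_inv_self]⟩
      have h3 := hψ₀x x
      rw [hx] at h3
      refine ⟨⟨⟨x, x.2.1⟩, h3⟩, ?_⟩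
      have h4 : ψ₀ ⟨x, le_normalizerIn he₀.le_left x.2⟩ = y := h3
      rw [← h4]
      have := H87.Basic.mem_of_stronglyClosed hT (H87.Base.isMap_of_mem hψ₀)
        (le_normalizerIn he₀.le_left x.2) x.2.2
      rwa [H87.Base.extFun_apply ψ₀ (le_normalizerIn he₀.le_left x.2)] at this
  have hnot : ¬ centralizerIn T (φ.range ⊓ T) ≤ φ.range := by
    rw [hinf]
    intro hle
    apply hP'C
    intro y hy
    rw [← hinf]
    exact ⟨hle hy, hy.1⟩
  have hφS : φ.range ≤ S := isConj_le_right hconj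
  obtain ⟨q, hqT, hqN, hqP, hq⟩ := exists_core_elt (p := p) hS hT hφS hnot
  refine ⟨⟨φ, hφ, q, ⟨hTS hqT, hqN⟩, hqP, _, hq, fun y => rfl⟩, fun hr => ?_⟩
  have hr' := isRadical_conj hconj hr
  have hc' := isCentric_conj hconj hP
  rw [hr'.2] at hq
  obtain ⟨z, hz⟩ := hq
  apply hqP
  have h5 : (z : Ω)⁻¹ * q ∈ centralizerIn S φ.range := by
    refine mem_centralizerIn.2 ⟨S.mul_mem (S.inv_mem (hφS z.2)) (hTS hqT), fun y hy => ?_⟩
    have h6 := DFunLike.congr_fun hz (⟨y, hy⟩ : φ.range)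
    have h7 : (z : Ω) * y * (z : Ω)⁻¹ = q * y * q⁻¹ := congrArg Subtype.val h6
    calc y * ((z : Ω)⁻¹ * q) = (z : Ω)⁻¹ * ((z : Ω) * y * (z : Ω)⁻¹) * q := by group
      _ = (z : Ω)⁻¹ * (q * y * q⁻¹) * q := by rw [h7]
      _ = (z : Ω)⁻¹ * q * y := by group
  have h8 := IsCentric.centralizerIn_le hc' h5
  have h9 : q = (z : Ω) * ((z : Ω)⁻¹ * q) := by group
  rw [h9]
  exact Subgroup.mul_mem _ z.2 h8

end H89.NonCentric
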