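import Cfsg.Agent.Lib.H89.Meta2
import Cfsg.Agent.Lib.H89.Normal2
import Cfsg.Agent.Lib.H87.Grow

/-!
S5235: strongly closed metacyclic 2-subgroups.
-/

set_option autoImplicit false
open scoped commutatorElement
open Cfsg Cfsg.FusionSystem H86.FusBasic H86.FusSat H86.FusAlperin H89.Normal H89.Normal2

namespace H89.Meta2Fus

variable {Ω : Type*} [Group Ω] {S : Subgroup Ω}

/-- An element of `N_S(R)` inducing on the centric radical `R` an automorphism in a normal `p`-subgroup of `Aut_F(R)` is in `R`. -/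
theorem mem_of_radical {p : ℕ} [Fact p.Prime]
    {F : FusionSystem S} {P : Subgroup Ω} (hPc : F.IsCentric P) (hPr : F.IsRadical p P)
    (B : Subgroup (MulAut P)) (hB : B ≤ F.autGroup P) (hBn : ∀ α ∈ F.autGroup P, ∀ β ∈ B, α * β * α⁻¹ ∈ B)
    (hBp : IsPGroup p B) {g : Ω} (hg : g ∈ S) (hgN : g ∈ Subgroup.normalizer (P : Set Ω))
    (hgB : conjAut P hgN ∈ B) : g ∈ P := by
  have hBInn : B ≤ Inn P := by
    rw [← hPr.2]
    have h1 : (B.subgroupOf (F.autGroup P)).Normal := by
      constructor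
      intro β hβ α
      exact hBn α α.2 β hβ
    have h2 : IsPGroup p (B.subgroupOf (F.autGroup P)) :=
      hBp.of_equiv (Subgroup.subgroupOfEquivOfLe hB).symm
    have h3 : B.subgroupOf (F.autGroup P) ≤ pCore p (F.autGroup P) := le_sSup ⟨h1, h2⟩
    intro β hβ
    exact ⟨⟨β, hB hβ⟩, h3 hβ, rfl⟩
  have hC : centralizerIn S P ≤ P := hPc.2 P (isConj_refl F hPc.1)
  obtain ⟨x, hx⟩ := hBInn hgB
  have h2 : (x : Ω)⁻¹ * g ∈ centralizerIn S P := by
    refine ⟨S.mul_mem (S.inv_mem (hPc.1 x.2)) hg, ?_⟩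
    refine Subgroup.mem_centralizer_iff.2 fun y hy => ?_
    have h3 := congrArg (fun α : MulAut P => ((α ⟨y, hy⟩ : P) : Ω)) hx
    have h4 : (x : Ω) * y * (x : Ω)⁻¹ = g * y * g⁻¹ := h3
    calc y * ((x : Ω)⁻¹ * g) = (x : Ω)⁻¹ * ((x : Ω) * y * (x : Ω)⁻¹) * g := by group
      _ = (x : Ω)⁻¹ * (g * y * g⁻¹) * g := by rw [h4]
      _ = (x : Ω)⁻¹ * g * y := by group
  have h3 := P.mul_mem x.2 (hC h2)
  simpa [mul_assoc] using h3

/-- An odd-order automorphism of an abelian 2-group acting trivially modulo squares is trivial. -/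
theorem eq_one_mod_squares {D : Type*} [Group D] [Finite D] (hD : IsPGroup 2 D)
    (hab : ∀ x y : D, x * y = y * x) {α : MulAut D} (hα : (orderOf α).Coprime 2)
    (h : ∀ x : D, ∃ z : D, x⁻¹ * α x = z * z) : α = 1 := by
  have := Fact.mk Nat.prime_two
  obtain ⟨m, hm⟩ := hD.exists_card_eq
  have key : ∀ i, ∀ x : D, (∃ y : D, x = y ^ 2 ^ (m - i)) → α x = x := by
    intro i
    induction i with
    | zero =>
      rintro x ⟨y, rfl⟩
      rw [Nat.sub_zero, ← hm, pow_card_eq_one', map_one]
    | succ i ih =>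
      rintro x ⟨y, rfl⟩
      apply coprime_fix hD hα
      apply ih
      obtain ⟨z, hz⟩ := h y
      by_cases hi : i < m
      · refine ⟨z, ?_⟩
        have h1 : m - i = (m - (i + 1)) + 1 := by omega
        have hcy : Commute y⁻¹ (α y) := hab _ _
        rw [map_pow, ← inv_pow, ← hcy.mul_pow, hz, h1, pow_succ', pow_mul, ← sq]
      · have h1 : m - (i + 1) = m - i := by omega
        rw [h1, map_pow, ← inv_pow]
        have hcy : Commute y⁻¹ (α y) := hab _ _
        exact ⟨y⁻¹ * α y, (hcy.mul_pow _).symm⟩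
  ext x
  rw [MulAut.one_apply]
  refine key m x ⟨x, ?_⟩
  rw [Nat.sub_self, pow_zero, pow_one]

/-- Facts on homocyclic groups of rank two. -/
theorem homocyclic_facts {X : Type*} [Group X] {n : ℕ}
    (e : X ≃* Multiplicative (ZMod (2 ^ n)) × Multiplicative (ZMod (2 ^ n))) :
    (∀ x y : X, x * y = y * x) ∧ Nat.card X = 2 ^ n * 2 ^ n ∧
      (2 ≤ n → ∀ x : X, x * x = 1 → ∃ z : X, x = z * z) := by
  refine ⟨fun x y => ?_, ?_, fun hn x hx => ?_⟩
  · apply e.injective
    rw [map_mul, map_mul, mul_comm]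
  · rw [Nat.card_congr e.toEquiv, Nat.card_prod]
    have : Nat.card (Multiplicative (ZMod (2 ^ n))) = 2 ^ n := Nat.card_zmod _
    rw [this]
  · have key : ∀ a : ZMod (2 ^ n), a + a = 0 → ∃ b : ZMod (2 ^ n), a = b + b := by
      intro a ha
      have : NeZero (2 ^ n) := ⟨(pow_pos two_pos n).ne'⟩
      have h1 : ((a.val + a.val : ℕ) : ZMod (2 ^ n)) = 0 := by
        push_cast
        rw [ZMod.natCast_zmod_val, ha]
      rw [ZMod.natCast_eq_zero_iff] at h1
      have h2 : 2 ∣ a.val := by
        obtain ⟨k, hk⟩ := h1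
        obtain ⟨m, rfl⟩ := Nat.exists_eq_add_of_le hn
        have h4m : 2 ^ (2 + m) = 4 * 2 ^ m := by rw [pow_add]; norm_num
        have hk' : a.val + a.val = 4 * 2 ^ m * k := hk.trans (by rw [h4m])
        refine ⟨2 ^ m * k, ?_⟩
        have : 2 * a.val = 2 * (2 * (2 ^ m * k)) := by
          calc 2 * a.val = a.val + a.val := by ring
            _ = 4 * 2 ^ m * k := hk'
            _ = _ := by ring
        omega
      obtain ⟨b, hb⟩ := h2
      refine ⟨(b : ZMod (2 ^ n)), ?_⟩
      have h3 : ((a.val : ℕ) : ZMod (2 ^ n)) = a := ZMod.natCast_zmod_val a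
      rw [← h3, hb]
      push_cast
      ring
    have h1 : e x * e x = 1 := by rw [← map_mul, hx, map_one]
    obtain ⟨b1, hb1⟩ := key (e x).1.toAdd (congrArg (fun q => q.1.toAdd) h1)
    obtain ⟨b2, hb2⟩ := key (e x).2.toAdd (congrArg (fun q => q.2.toAdd) h1)
    refine ⟨e.symm (Multiplicative.ofAdd b1, Multiplicative.ofAdd b2), ?_⟩
    apply e.injective
    rw [map_mul, MulEquiv.apply_symm_apply]
    ext
    · exact hb1
    · exact hb2

/-- S5235 -/
theorem isNormal_of_metacyclic_two [Finite S] (hS : IsPGroup 2 S)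
    {F : FusionSystem S} (hF : F.IsSaturated 2) {P : Subgroup Ω} (hP : F.StronglyClosed P)
    (hm : IsMetacyclic P) (hd : ¬ ∃ m : ℕ, Nonempty (P ≃* DihedralGroup m))
    (hq : ¬ ∃ m : ℕ, Nonempty (P ≃* QuaternionGroup m)) (hsd : ¬ IsQuasiDihedral P) : F.IsNormal P := by
  have h2f := Fact.mk Nat.prime_two
  rw [isNormal_iff_stronglyClosed_le_radical hS hF]
  refine ⟨hP, fun R hRc hRr => ?_⟩
  have hPS := hP.1
  have hRS := hRc.1
  have hfP : Finite P := finite_of_le hPS
  have hfR : Finite R := finite_of_le hRS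
  have hfA : Finite (MulAut R) := finite_mulAut R
  have hPp : IsPGroup 2 P := hS.to_le hPS
  by_contra hPR
  have hPN : ∀ s ∈ S, ∀ x ∈ P, s * x * s⁻¹ ∈ P := fun s hs x hx => H87.Grow.StronglyClosed.conj_mem hP hs hx
  have hPN' : S ≤ Subgroup.normalizer (P : Set Ω) := by
    intro s hs
    rw [Subgroup.mem_normalizer_iff]
    intro x
    refine ⟨hPN s hs x, fun h => ?_⟩
    have h1 := hPN s⁻¹ (S.inv_mem hs) _ h
    have h2 : s⁻¹ * (s * x * s⁻¹) * s⁻¹⁻¹ = x := by group
    rwa [h2] at h1
  have hinv : ∀ α ∈ F.autGroup R, ∀ x : R, (x : Ω) ∈ P → ((α x : R) : Ω) ∈ P := by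
    intro α hα x hx
    exact stronglyClosed_apply_mem hP ((H86.FusBasic.mem_autGroup F hRS).1 hα) hx
  -- it is enough that `P` has maximal class
  have hmax : 8 ≤ Nat.card P → (commutator P).index ≠ 4 := by
    intro h8 hidx
    have hc4 : Nat.card P ≠ 4 := by omega
    rcases H76.MaxClass.trichotomy hPp hidx hc4 with ⟨k, hk⟩ | ⟨k, hk, a, b, ha, hb, hab, -, -⟩ | ⟨k, hk⟩
    · exact hd ⟨_, hk⟩
    · exact hsd ⟨k + 3, by omega, by rw [hk], a, b, ha, hb, hab⟩
    · exact hq ⟨_, hk⟩
  have hsec := H89.Meta2.secRank_of_metacyclic hm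
  obtain ⟨m, hcP⟩ := hPp.exists_card_eq
  -- the element `β`
  obtain ⟨β, hβF, hβP, hβo, hβ1⟩ : ∃ β ∈ F.autGroup R, (∀ x : R, (x : Ω)⁻¹ * (β x : R) ∈ P) ∧
      (orderOf β).Coprime 2 ∧ β ≠ 1 := by
    by_contra hcon
    apply hPR
    refine le_of_radical_chain hS hRc hRr hPS (hRS.trans hPN') (fun _ => ⊥) 0 rfl ?_ ?_ P hinv ?_ ?_
    · intro i _ α _ x hx
      rw [Subgroup.mem_bot] at hx ⊢
      have : x = 1 := Subtype.ext hx
      rw [this, map_one]
      rfl
    · intro i hi
      exact absurd hi (Nat.not_lt_zero i)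
    · intro g hg _ x hx
      have h1 := H87.Grow.StronglyClosed.conj_mem' hP (hRS hx) hg
      have h2 : x⁻¹ * (g * x * g⁻¹) = (x⁻¹ * g * x) * g⁻¹ := by group
      rw [h2]
      exact P.mul_mem h1 (P.inv_mem hg)
    · intro β hβ hβo hβP _
      by_contra hβ1
      exact hcon ⟨β, hβ, hβP, hβo, hβ1⟩
  set D := P ⊓ R with hDdef
  have hDP : D ≤ P := inf_le_left
  have hDR : D ≤ R := inf_le_right
  have hfD : Finite D := finite_of_le (hDP.trans hPS)
  have hDp : IsPGroup 2 D := hS.to_le (hDP.trans hPS)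
  have hmD : IsMetacyclic D := H76.TwoGen.metacyclic_of_injective (Subgroup.inclusion hDP)
    (Subgroup.inclusion_injective hDP) hm
  -- restriction to `D`
  have hres : ∀ α ∈ F.autGroup R, ∃ γ : MulAut D, (∀ x : D, ((γ x : D) : Ω) = ((α ⟨x, hDR x.2⟩ : R) : Ω)) ∧
      orderOf γ ∣ orderOf α := by
    intro α hα
    have hmap : (D.subgroupOf R).map α.toMonoidHom = D.subgroupOf R := by
      apply le_antisymm
      · rintro _ ⟨x, hx, rfl⟩
        exact ⟨hinv α hα x hx.1, (α x).2⟩
      · intro x hx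
        refine ⟨α⁻¹ x, ⟨hinv _ (Subgroup.inv_mem _ hα) x hx.1, (α⁻¹ x).2⟩, MulAut.apply_inv_self _ _ _⟩
    let e := Subgroup.subgroupOfEquivOfLe hDR
    let γ' : MulAut (D.subgroupOf R) := (α.subgroupMap _).trans (MulEquiv.subgroupCongr hmap)
    let γ : MulAut D := MulAut.congr e γ'
    have hγ : ∀ x : D, ((γ x : D) : Ω) = ((α ⟨x, hDR x.2⟩ : R) : Ω) := fun x => rfl
    refine ⟨γ, hγ, ?_⟩
    apply orderOf_dvd_of_pow_eq_one
    have hpw : ∀ (n : ℕ) (x : D), (((γ ^ n) x : D) : Ω) = (((α ^ n) ⟨x, hDR x.2⟩ : R) : Ω) := by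
      intro n
      induction n with
      | zero => intro x; rfl
      | succ n ih =>
        intro x
        rw [pow_succ', pow_succ', MulAut.mul_apply, MulAut.mul_apply, hγ]
        congr 2
        exact Subtype.ext (ih x)
    ext x
    rw [hpw, pow_orderOf_eq_one]
    rfl
  have hnt : ¬ IsPGroup 2 (MulAut D) := by
    intro hA
    obtain ⟨γ, hγ, hγo⟩ := hres β hβF
    have hγc : (orderOf γ).Coprime 2 := Nat.Coprime.coprime_dvd_left hγo hβo
    obtain ⟨k, hk⟩ := (IsPGroup.iff_orderOf.1 hA) γ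
    rw [hk] at hγc
    have hk0 : k = 0 := by
      by_contra h
      have : 2 ∣ 2 ^ k := dvd_pow_self 2 h
      have h3 := Nat.dvd_gcd this (dvd_refl 2)
      rw [hγc.gcd_eq_one] at h3
      norm_num at h3
    rw [hk0, pow_zero, orderOf_eq_one_iff] at hk
    apply hβ1
    ext x
    rw [MulAut.one_apply]
    congr 1
    apply coprime_fix (hS.to_le hRS) hβo
    have hxD : ((x⁻¹ * β x : R) : Ω) ∈ D := ⟨hβP x, (x⁻¹ * β x : R).2⟩
    apply Subtype.ext
    have h3 := hγ ⟨_, hxD⟩
    rw [hk] at h3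
    exact h3.symm
  rcases Cfsg.Agent.S1896.result hDp hmD hnt with ⟨⟨e⟩⟩ | ⟨n, ⟨e⟩⟩
  · -- `D ≅ Q₈`
    have hcD : Nat.card D = 8 := by
      rw [Nat.card_congr e.toEquiv, Nat.card_eq_fintype_card, QuaternionGroup.card]
    have hcD' : Nat.card (D.subgroupOf P) = 8 := by
      rw [← hcD]
      exact Nat.card_congr (Subgroup.subgroupOfEquivOfLe hDP).toEquiv
    apply hmax (by rw [← hcD']; exact Subgroup.card_le_card_group _)
    refine H76.SecRank2.index_commutator_of_contains m P hcP hsec (D.subgroupOf P) ?_ (by rw [hcD'])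
    apply H89.Meta2.index_comm_of_order_eight hcD'
    intro hcomm
    have h3 : ∀ x y : QuaternionGroup 2, x * y = y * x := by
      intro x y
      have e' := (Subgroup.subgroupOfEquivOfLe hDP).trans e
      have := congrArg e' (hcomm (e'.symm x) (e'.symm y))
      simpa using this
    have h4 := h3 (QuaternionGroup.a 1) (QuaternionGroup.xa 0)
    revert h4
    decide
  · obtain ⟨hab, hcD, hsq⟩ := homocyclic_facts e
    have habΩ : ∀ x ∈ D, ∀ y ∈ D, x * y = y * x := fun x hx y hy =>
      congrArg Subtype.val (hab ⟨x, hx⟩ ⟨y, hy⟩)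
    -- the elements acting trivially on `D / D²` are in `R`
    have key : ∀ g ∈ P, ∀ hgN : g ∈ Subgroup.normalizer (R : Set Ω),
        (∀ x ∈ D, ∃ z ∈ D, x⁻¹ * (g * x * g⁻¹) = z * z) → g ∈ R := by
      intro g hg hgN hgz
      let B : Subgroup (MulAut R) :=
        { carrier := {α | α ∈ F.autGroup R ∧ (∀ x : R, (x : Ω)⁻¹ * (α x : R) ∈ P) ∧
            ∀ x : R, (x : Ω) ∈ P → ∃ z : R, (z : Ω) ∈ P ∧ x⁻¹ * α x = z * z}
          mul_mem' := by
            rintro α β ⟨ha, ha1, ha2⟩ ⟨hb, hb1, hb2⟩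
            have key : ∀ x : R, x⁻¹ * ((α * β) x) = (x⁻¹ * (α x)) * α (x⁻¹ * β x) := by
              intro x
              rw [map_mul, map_inv, MulAut.mul_apply]
              group
            refine ⟨Subgroup.mul_mem _ ha hb, fun x => ?_, fun x hx => ?_⟩
            · have h1 : ((x⁻¹ * ((α * β) x) : R) : Ω) ∈ P := by
                rw [key]
                exact P.mul_mem (ha1 x) (hinv α ha _ (hb1 x))
              exact h1
            · obtain ⟨z, hz, hz'⟩ := ha2 x hx
              obtain ⟨w, hw, hw'⟩ := hb2 x hx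
              have hαw := hinv α ha w hw
              refine ⟨z * α w, P.mul_mem hz hαw, ?_⟩
              rw [key, hz', hw', map_mul]
              have e3 : z * α w = α w * z := Subtype.ext (habΩ z ⟨hz, z.2⟩ (α w : R) ⟨hαw, (α w).2⟩)
              calc z * z * (α w * α w) = z * (z * α w) * α w := by group
                _ = z * (α w * z) * α w := by rw [e3]
                _ = _ := by group
          one_mem' := ⟨Subgroup.one_mem _, fun x => by simp, fun x hx => ⟨1, P.one_mem, by simp⟩⟩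
          inv_mem' := by
            rintro α ⟨ha, ha1, ha2⟩
            have key : ∀ x : R, x⁻¹ * (α⁻¹ x) = (α⁻¹ (x⁻¹ * α x))⁻¹ := by
              intro x
              rw [map_mul, map_inv, MulAut.inv_apply_self]
              group
            have ha' := Subgroup.inv_mem _ ha
            refine ⟨ha', fun x => ?_, fun x hx => ?_⟩
            · have h1 : ((x⁻¹ * (α⁻¹ x) : R) : Ω) ∈ P := by
                rw [key]
                exact P.inv_mem (hinv _ ha' _ (ha1 x))
              exact h1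
            · obtain ⟨z, hz, hz'⟩ := ha2 x hx
              have hαz := hinv _ ha' z hz
              refine ⟨(α⁻¹ z)⁻¹, P.inv_mem hαz, ?_⟩
              rw [key, hz', map_mul, mul_inv_rev] }
      refine mem_of_radical hRc hRr B (fun β hβ => hβ.1) ?_ ?_ (hPS hg) hgN ?_
      · rintro α hα β ⟨hb, hb1, hb2⟩
        have hα' := Subgroup.inv_mem _ hα
        have key : ∀ x : R, x⁻¹ * ((α * β * α⁻¹) x) = α ((α⁻¹ x)⁻¹ * β (α⁻¹ x)) := by
          intro x
          rw [map_mul, map_inv, MulAut.apply_inv_self, MulAut.mul_apply, MulAut.mul_apply]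
        refine ⟨Subgroup.mul_mem _ (Subgroup.mul_mem _ hα hb) hα', fun x => ?_, fun x hx => ?_⟩
        · have h1 : ((x⁻¹ * ((α * β * α⁻¹) x) : R) : Ω) ∈ P := by
            rw [key]
            exact hinv α hα _ (hb1 _)
          exact h1
        · obtain ⟨z, hz, hz'⟩ := hb2 _ (hinv _ hα' x hx)
          exact ⟨α z, hinv α hα z hz, by rw [key, hz', map_mul]⟩
      · refine isPGroup_of_coprime ?_
        rintro ⟨γ, hb, hb1, hb2⟩ hord
        have hord' : (orderOf γ).Coprime 2 := by
          have h0 := Subgroup.orderOf_coe (⟨γ, ⟨hb, hb1, hb2⟩⟩ : B)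
          rw [← h0] at hord
          exact hord
        obtain ⟨δ, hδ, hδo⟩ := hres γ hb
        have hδ1 : δ = 1 := by
          refine eq_one_mod_squares hDp hab (Nat.Coprime.coprime_dvd_left hδo hord') fun x => ?_
          obtain ⟨z, hz, hz'⟩ := hb2 ⟨x, hDR x.2⟩ (hDP x.2)
          refine ⟨⟨z, hz, z.2⟩, Subtype.ext ?_⟩
          have h3 : (x : Ω)⁻¹ * ((γ ⟨x, hDR x.2⟩ : R) : Ω) = (z : Ω) * z := congrArg Subtype.val hz'
          rw [← hδ] at h3
          exact h3
        apply Subtype.ext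
        show γ = 1
        ext x
        rw [MulAut.one_apply]
        congr 1
        apply coprime_fix (hS.to_le hRS) hord'
        have hxD : ((x⁻¹ * γ x : R) : Ω) ∈ D := ⟨hb1 x, (x⁻¹ * γ x : R).2⟩
        apply Subtype.ext
        have h3 := hδ ⟨_, hxD⟩
        rw [hδ1] at h3
        exact h3.symm
      · refine ⟨autInducedBy_le_autGroup F hRS (conjAut_mem_autInducedBy hgN (hPS hg)), fun x => ?_, fun x hx => ?_⟩
        · show (x : Ω)⁻¹ * (g * (x : Ω) * g⁻¹) ∈ P
          have h1 := H87.Grow.StronglyClosed.conj_mem' hP (hRS x.2) hg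
          have h2 : (x : Ω)⁻¹ * (g * x * g⁻¹) = ((x : Ω)⁻¹ * g * x) * g⁻¹ := by group
          rw [h2]
          exact P.mul_mem h1 (P.inv_mem hg)
        · obtain ⟨z, hz, hz'⟩ := hgz x ⟨hx, x.2⟩
          exact ⟨⟨z, hDR hz⟩, hDP hz, Subtype.ext hz'⟩
    -- an element of `N_P(R)` outside `R` whose square is in `R`
    obtain ⟨h, hhP, hhN, hhR⟩ : ∃ h ∈ P, h ∈ Subgroup.normalizer (R : Set Ω) ∧ h ∉ R := by
      have hlt : R < R ⊔ P := lt_of_le_not_ge le_sup_left fun h => hPR (le_sup_right.trans h)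
      have hfin : Finite ↥(R ⊔ P) := finite_of_le (sup_le hRS hPS)
      have hlt2 := H86.FusCentric.lt_inf_normalizer (hS.to_le (sup_le hRS hPS)) hlt
      obtain ⟨y, ⟨hy, hyN⟩, hyR⟩ := SetLike.exists_of_lt hlt2
      obtain ⟨x, hx, q, hq', rfl⟩ := (H87.Grow.mem_sup_of_conj (fun x hx t ht => hPN x (hRS hx) t ht)).1 hy
      refine ⟨q, hq', ?_, fun h => hyR (R.mul_mem hx h)⟩
      have h1 : x⁻¹ * (x * q) ∈ Subgroup.normalizer (R : Set Ω) :=
        Subgroup.mul_mem _ (Subgroup.inv_mem _ (Subgroup.le_normalizer hx)) hyN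
      rwa [inv_mul_cancel_left] at h1
    obtain ⟨g, hgP, hgN, hgR, hg2⟩ : ∃ g ∈ P, g ∈ Subgroup.normalizer (R : Set Ω) ∧ g ∉ R ∧ g * g ∈ R := by
      have hex : ∃ k, h ^ 2 ^ k ∈ R := by
        obtain ⟨k, hk⟩ := hPp ⟨h, hhP⟩
        refine ⟨k, ?_⟩
        have : h ^ 2 ^ k = 1 := congrArg Subtype.val hk
        rw [this]
        exact R.one_mem
      classical
      have hk := Nat.find_spec hex
      have hk' : ∀ j < Nat.find hex, h ^ 2 ^ j ∉ R := fun j hj => Nat.find_min hex hj
      have hk0 : Nat.find hex ≠ 0 := by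
        intro h0
        rw [h0, pow_zero, pow_one] at hk
        exact hhR hk
      refine ⟨h ^ 2 ^ (Nat.find hex - 1), P.pow_mem hhP _, Subgroup.pow_mem _ hhN _, hk' _ (by omega), ?_⟩
      rw [← pow_add]
      have : 2 ^ (Nat.find hex - 1) + 2 ^ (Nat.find hex - 1) = 2 ^ Nat.find hex := by
        rw [← two_mul, ← pow_succ', Nat.sub_add_cancel (Nat.pos_of_ne_zero hk0)]
      rw [this]
      exact hk
    have hg2D : g * g ∈ D := ⟨P.mul_mem hgP hgP, hg2⟩
    have hgD : ∀ x ∈ D, g * x * g⁻¹ ∈ D := fun x hx =>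
      ⟨P.mul_mem (P.mul_mem hgP hx.1) (P.inv_mem hgP), (Subgroup.mem_normalizer_iff.1 hgN x).1 hx.2⟩
    have hgnD : g ∉ D := fun h => hgR h.2
    -- the subgroup `D⟨g⟩`
    set M := D ⊔ Subgroup.zpowers g with hM
    have hMP : M ≤ P := sup_le hDP (by rwa [Subgroup.zpowers_le])
    have hgM : g ∈ M := (le_sup_right : Subgroup.zpowers g ≤ M) (Subgroup.mem_zpowers g)
    have hDM : D ≤ M := le_sup_left
    have hMmem : ∀ y ∈ M, y ∈ D ∨ y * g ∈ D := by
      intro y hy
      rw [hM, Subgroup.sup_eq_closure] at hy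
      induction hy using Subgroup.closure_induction with
      | mem y hy =>
        rcases hy with hy | hy
        · exact Or.inl hy
        · obtain ⟨i, rfl⟩ := Subgroup.mem_zpowers_iff.1 hy
          rcases Int.even_or_odd i with ⟨j, hj⟩ | ⟨j, hj⟩
          · left
            rw [hj, zpow_add, ← (Commute.refl g).mul_zpow]
            exact D.zpow_mem hg2D j
          · right
            have : g ^ i * g = (g * g) ^ (j + 1) := by
              rw [hj, (Commute.refl g).mul_zpow, ← zpow_add, ← zpow_add_one]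
              congr 1; ring
            rw [this]
            exact D.zpow_mem hg2D _
      | one => exact Or.inl D.one_mem
      | mul a b _ _ ha hb =>
        have hgi : ∀ x ∈ D, g⁻¹ * x * g ∈ D := by
          intro x hx
          have h1 := hgD _ (D.mul_mem (D.mul_mem (D.inv_mem hg2D) hx) hg2D)
          have h2 : g * ((g * g)⁻¹ * x * (g * g)) * g⁻¹ = g⁻¹ * x * g := by group
          rwa [h2] at h1
        rcases ha with ha | ha <;> rcases hb with hb | hb
        · exact Or.inl (D.mul_mem ha hb)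
        · right
          rw [mul_assoc]
          exact D.mul_mem ha hb
        · right
          have : a * b * g = (a * g) * (g⁻¹ * b * g) := by group
          rw [this]
          exact D.mul_mem ha (hgi b hb)
        · left
          have : a * b = (a * g) * (g⁻¹ * (b * g) * g) * (g * g)⁻¹ := by group
          rw [this]
          exact D.mul_mem (D.mul_mem ha (hgi _ hb)) (D.inv_mem hg2D)
      | inv a _ ha =>
        rcases ha with ha | ha
        · exact Or.inl (D.inv_mem ha)
        · right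
          have : a⁻¹ * g = g * (a * g)⁻¹ * g⁻¹ * (g * g) := by group
          rw [this]
          exact D.mul_mem (hgD _ (D.inv_mem ha)) hg2D
    have hfM : Finite M := finite_of_le (hMP.trans hPS)
    have hidx : (D.subgroupOf M).index = 2 := by
      rw [Subgroup.index_eq_two_iff]
      refine ⟨⟨g, hgM⟩, fun b => ?_⟩
      rcases hMmem b b.2 with hb | hb
      · right
        refine ⟨hb, fun h1 => hgnD ?_⟩
        have h2 : (b : Ω) * g ∈ D := h1
        have := D.mul_mem (D.inv_mem hb) h2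
        rwa [inv_mul_cancel_left] at this
      · left
        refine ⟨hb, fun h1 => hgnD ?_⟩
        have h2 : (b : Ω) ∈ D := h1
        have := D.mul_mem (D.inv_mem h2) hb
        rwa [inv_mul_cancel_left] at this
    have hmM : IsMetacyclic M := H76.TwoGen.metacyclic_of_injective (Subgroup.inclusion hMP)
      (Subgroup.inclusion_injective hMP) hm
    have hMp : IsPGroup 2 M := hS.to_le (hMP.trans hPS)
    rcases Nat.lt_or_ge n 2 with hn | hn
    · -- `D` is a four-group
      interval_cases n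
      · -- trivial
        apply hnt
        have hsub : Subsingleton D := by
          rw [← Finite.card_le_one_iff_subsingleton, hcD]
          norm_num
        have : Subsingleton (MulAut D) := ⟨fun a b => by ext x; exact congrArg Subtype.val (Subsingleton.elim _ _)⟩
        intro γ
        exact ⟨0, Subsingleton.elim _ _⟩
      · have hcM : Nat.card M = 8 := by
          have h1 := Subgroup.card_mul_index (D.subgroupOf M)
          rw [hidx, Nat.card_congr (Subgroup.subgroupOfEquivOfLe hDM).toEquiv, hcD] at h1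
          rw [← h1]; norm_num
        have hcM' : Nat.card (M.subgroupOf P) = 8 := by
          rw [← hcM]
          exact Nat.card_congr (Subgroup.subgroupOfEquivOfLe hMP).toEquiv
        refine hmax (by rw [← hcM']; exact Subgroup.card_le_card_group _) ?_
        refine H76.SecRank2.index_commutator_of_contains m P hcP hsec (M.subgroupOf P) ?_ (by rw [hcM'])
        apply H89.Meta2.index_comm_of_order_eight hcM'
        intro hcomm
        apply hgR
        apply key g hgP hgN
        intro x hx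
        refine ⟨1, D.one_mem, ?_⟩
        have h1 : g * x = x * g := congrArg (fun y : M.subgroupOf P => ((y : P) : Ω))
          (hcomm ⟨⟨g, hgP⟩, hgM⟩ ⟨⟨x, hDP hx⟩, hDM hx⟩)
        rw [h1]; group
    · apply hgR
      apply key g hgP hgN
      intro x hx
      obtain ⟨z, hz, hz'⟩ := H89.Meta2.metacyclic_index_two hMp hmM hidx
        (fun x hx y hy => Subtype.ext (habΩ x hx y hy)) (by
          rintro ⟨x, hxM⟩ hx hxx
          obtain ⟨z, hz⟩ := hsq hn ⟨x, hx⟩
            (Subtype.ext (show x * x = 1 from congrArg Subtype.val hxx))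
          exact ⟨⟨z, hDM z.2⟩, z.2, Subtype.ext (show x = (z : Ω) * z from
            congrArg Subtype.val hz)⟩)
        ⟨g, hgM⟩ (x := ⟨x, hDM hx⟩) hx
      exact ⟨z, hz, congrArg Subtype.val hz'⟩

end H89.Meta2Fus
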