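import Cfsg.Agent.Lib.H89.Normal3
import Cfsg.Agent.Lib.H87.Inv
import Cfsg.Agent.Lib.H90.FusAb

/-!
Normal subgroups and weakly normal subsystems: `F = N_F(Q)` iff `F_Q(Q)` is weakly normal; closures of subgroups
normal in weakly normal subsystems.
-/

set_option autoImplicit false
set_option linter.unusedSectionVars false
open Cfsg Cfsg.FusionSystem H86.FusBasic H86.FusSat

namespace H89.WNormal

variable {Ω : Type*} [Group Ω] {S : Subgroup Ω} {F : FusionSystem S} {p : ℕ} [Fact p.Prime]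

theorem isMap_inner_iff {Q P : Subgroup Ω} {f : Ω → Ω} :
    H87.Base.IsMap (innerFusionSystem Q) P f ↔ P ≤ Q ∧ ∃ g ∈ Q, ∀ x ∈ P, f x = g * x * g⁻¹ := by
  constructor
  · rintro ⟨φ, ⟨hP, g, hg, hx⟩, hφ⟩
    exact ⟨hP, g, hg, fun x hx' => by rw [← hφ ⟨x, hx'⟩]; exact hx ⟨x, hx'⟩⟩
  · rintro ⟨hP, g, hg, hx⟩
    exact ⟨conjHom P g, (innerFusionSystem Q).conj_mem hP hg, fun x => (hx x x.2).symm⟩

theorem isNormal_iff_inner [Finite S] (hS : IsPGroup p S) (hF : F.IsSaturated p)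
    {Q : Subgroup Ω} (hQ : Q ≤ S) :
    F.IsNormal Q ↔ (innerFusionSystem Q).IsWeaklyNormalIn F p := by
  have hfinQ : Finite Q := finite_of_le hQ
  have hsub : (innerFusionSystem Q).IsSubsystemOf F := by
    rw [H87.Basic.isSubsystemOf_iff]
    intro P f hf
    obtain ⟨hP, g, hg, hx⟩ := isMap_inner_iff.1 hf
    exact (H87.Base.isMap_conj F (hP.trans hQ) (hQ hg)).congr fun x hx' => (hx x hx').symm
  constructor
  · intro h
    refine ⟨H90.FusAb.inner_saturated Q (hS.to_le hQ), hF, ?_⟩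
    rw [H87.Inv.isInvariantIn_iff]
    refine ⟨hsub, H89.Normal.stronglyClosed_of_isNormal h, ?_, ?_⟩
    · intro P f a hf ha
      obtain ⟨hP, g, hg, hx⟩ := isMap_inner_iff.1 hf
      refine ⟨fun y => a g * y * (a g)⁻¹, ?_, fun x hx' => ?_⟩
      · rw [isMap_inner_iff]
        refine ⟨?_, a g, ha.mem hg, fun _ _ => rfl⟩
        intro y hy
        obtain ⟨z, hz, rfl⟩ := (H87.Base.mem_img (ha.isMap.mono hP)).1 hy
        exact ha.mem (hP hz)
      · rw [hx x hx', ha.isMap.map_conj hg (hP hx')]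
    · intro P f hP hf
      obtain ⟨φ, hφ, hφf⟩ := hf
      obtain ⟨α, hα, hαx⟩ := (H89.Normal3.isNormal_iff_extend hS hF hQ).1 h P hP φ hφ
      refine ⟨_, fun x => x, H87.Base.isIso_of_mem_autGroup hQ hα, H87.Base.isMap_id _ hP,
        fun x hx => ?_⟩
      rw [← hφf ⟨x, hx⟩, ← hαx ⟨x, hx⟩, H87.Base.extFun_apply _ (hP hx)]
      rfl
  · rintro ⟨-, -, hinv⟩
    rw [H87.Inv.isInvariantIn_iff] at hinv
    obtain ⟨-, hcl, -, hfr⟩ := hinv
    rw [H89.Normal3.isNormal_iff_extend hS hF hQ]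
    intro P hP φ hφ
    obtain ⟨a, f₀, ha, hf₀, hx⟩ := hfr P _ hP (H87.Base.isMap_of_mem hφ)
    obtain ⟨-, g, hg, hgx⟩ := isMap_inner_iff.1 hf₀
    have hc : H87.Base.IsIso F Q Q (fun x => g * x * g⁻¹) := by
      refine (H87.Base.isMap_conj F hQ (hQ hg)).isIso_of (fun x hx => ?_) (fun y hy => ?_)
      · exact Q.mul_mem (Q.mul_mem hg hx) (Q.inv_mem hg)
      · exact ⟨g⁻¹ * y * g, Q.mul_mem (Q.mul_mem (Q.inv_mem hg) hy) hg, by group⟩
    have hiso := hc.comp ha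
    refine ⟨hiso.aut, hiso.aut_mem, fun x => ?_⟩
    rw [hiso.aut_apply]
    show a (g * x * g⁻¹) = φ x
    rw [← hgx x x.2, ← hx x x.2, H87.Base.extFun_coe]

variable {T : Subgroup Ω} {E : FusionSystem T}

theorem img_isNormal [Finite S] (hE : E.IsInvariantIn F) {R : Subgroup Ω} (hR : E.IsNormal R)
    {a : Ω → Ω} (ha : H87.Base.IsIso F T T a) : E.IsNormal (H87.Base.img R a) := by
  have hTS : T ≤ S := H87.Inv.le_of_isSubsystemOf hE.1
  have hfinT : Finite T := finite_of_le hTS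
  obtain ⟨hsub, hcl, hinv, hfr⟩ := H87.Inv.isInvariantIn_iff.1 hE
  rw [H87.Basic.isNormal_iff] at hR ⊢
  obtain ⟨hRT, hR⟩ := hR
  obtain ⟨b, hb, hba, hab⟩ := ha.symm
  have hle : H87.Base.img R a ≤ T := by
    intro y hy
    obtain ⟨z, hz, rfl⟩ := (H87.Base.mem_img (ha.isMap.mono hRT)).1 hy
    exact ha.mem (hRT hz)
  refine ⟨hle, fun P f hf => ?_⟩
  have hPT : P ≤ T := hf.le
  obtain ⟨g₁, hg₁, hg₁x⟩ := hinv P f b hf hb
  obtain ⟨g₂, hg₂, hg₂x, hg₂R⟩ := hR _ g₁ hg₁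
  obtain ⟨g₃, hg₃, hg₃x⟩ := hinv _ g₂ a hg₂ ha
  have hPb : H87.Base.img P b ⊔ R ≤ T := hg₂.le
  have hsubset : P ⊔ H87.Base.img R a ≤ H87.Base.img (H87.Base.img P b ⊔ R) a := by
    apply sup_le
    · intro x hx
      have h1 : a (b x) = x := hab x (hPT hx)
      rw [← h1]
      exact H87.Base.apply_mem_img (Subgroup.mem_sup_left (H87.Base.apply_mem_img hx))
    · exact H87.Base.img_mono le_sup_right
  refine ⟨g₃, hg₃.mono hsubset, fun x hx => ?_, fun x hx => ?_⟩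
  · have h1 : a (b x) = x := hab x (hPT hx)
    have hbx : b x ∈ H87.Base.img P b := H87.Base.apply_mem_img hx
    have h2 := hg₃x (b x) (Subgroup.mem_sup_left hbx)
    rw [h1, hg₂x _ hbx, hg₁x x hx, hab _ (hf.mem hx)] at h2
    exact h2
  · obtain ⟨r, hr, rfl⟩ := (H87.Base.mem_img (ha.isMap.mono hRT)).1 hx
    rw [hg₃x r (Subgroup.mem_sup_right hr)]
    exact H87.Base.apply_mem_img (hg₂R r hr)

theorem closure_isNormal [Finite S] (hS : IsPGroup p S) (hE : E.IsWeaklyNormalIn F p)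
    {R : Subgroup Ω} (hR : E.IsNormal R) :
    F.IsNormal (Subgroup.closure {x : Ω | ∃ φ ∈ F.Hom R, ∃ r : R, x = φ r}) := by
  obtain ⟨hEs, hF, hinv'⟩ := hE
  have hTS : T ≤ S := H87.Inv.le_of_isSubsystemOf hinv'.1
  have hfinT : Finite T := finite_of_le hTS
  obtain ⟨hsub, hcl, hinv, hfr⟩ := H87.Inv.isInvariantIn_iff.1 hinv'
  have hRT : R ≤ T := hR.1
  set R' := Subgroup.closure {x : Ω | ∃ φ ∈ F.Hom R, ∃ r : R, x = φ r} with hR'
  -- images of `R` under `Aut_F(T)` lie in `R'`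
  have himg : ∀ a, H87.Base.IsIso F T T a → H87.Base.img R a ≤ R' := by
    intro a ha y hy
    have ham := ha.isMap.mono hRT
    obtain ⟨z, hz, rfl⟩ := (H87.Base.mem_img ham).1 hy
    obtain ⟨φ, hφ, hφa⟩ := ham
    exact Subgroup.subset_closure ⟨φ, hφ, ⟨z, hz⟩, (hφa ⟨z, hz⟩).symm⟩
  have hgen : ∀ φ ∈ F.Hom R, ∀ r : R, ∃ a, H87.Base.IsIso F T T a ∧ φ r ∈ H87.Base.img R a := by
    intro φ hφ r
    obtain ⟨a, f₀, ha, hf₀, hx⟩ := hfr R _ hRT (H87.Base.isMap_of_mem hφ)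
    refine ⟨a, ha, ?_⟩
    have h1 := H87.Basic.mem_of_stronglyClosed (H87.Basic.IsNormal.stronglyClosed hR) hf₀ r.2 r.2
    rw [← H87.Base.extFun_coe φ r, hx r r.2]
    exact H87.Base.apply_mem_img h1
  have hR'T : R' ≤ T := by
    rw [hR', Subgroup.closure_le]
    rintro _ ⟨φ, hφ, r, rfl⟩
    exact hcl.2 R hRT φ hφ r
  -- `R'` is normal in `E`
  have hR'n : E.IsNormal R' := by
    have h1 := H87.Basic.sSup_mem_of_finite (S := T) {Q | E.IsNormal Q ∧ Q ≤ R'}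
      (fun Q hQ => hQ.1.1) ⟨H87.Basic.isNormal_bot E, bot_le⟩
      (fun Q hQ Q' hQ' => ⟨H87.Basic.IsNormal.sup hQ.1 hQ'.1, sup_le hQ.2 hQ'.2⟩)
    obtain ⟨h2, h3⟩ := h1
    have h4 : R' = sSup {Q | E.IsNormal Q ∧ Q ≤ R'} := by
      apply le_antisymm _ h3
      conv_lhs => rw [hR']
      rw [Subgroup.closure_le]
      rintro _ ⟨φ, hφ, r, rfl⟩
      obtain ⟨a, ha, hmem⟩ := hgen φ hφ r
      have h5 : H87.Base.img R a ≤ sSup {Q | E.IsNormal Q ∧ Q ≤ R'} :=
        le_sSup (show H87.Base.img R a ∈ {Q | E.IsNormal Q ∧ Q ≤ R'} from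
          ⟨img_isNormal hinv' hR ha, himg a ha⟩)
      exact h5 hmem
    rw [h4]
    exact h2
  -- `R'` is invariant under `Aut_F(T)`
  have hR'inv : ∀ a, H87.Base.IsIso F T T a → H87.Base.IsIso F R' R' a := by
    intro a ha
    have hmap : ∀ x ∈ R', a x ∈ R' := by
      have h5 : R' ≤ (R'.comap (((H87.Base.isIso_of_mem_autGroup hTS ha.aut_mem).isMap.exists_hom).choose)).map T.subtype := by
        rw [hR', Subgroup.closure_le, ← hR']
        rintro _ ⟨φ, hφ, r, rfl⟩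
        have hφT : φ r ∈ T := hcl.2 R hRT φ hφ r
        have hch := ((H87.Base.isIso_of_mem_autGroup hTS ha.aut_mem).isMap.exists_hom).choose_spec
        refine ⟨⟨φ r, hφT⟩, ?_, rfl⟩
        rw [SetLike.mem_coe, Subgroup.mem_comap, hch.2]
        have h6 : H87.Base.extFun (T.subtype.comp (MulEquiv.toMonoidHom ha.aut)) (φ r) = a (φ r) := by
          rw [H87.Base.extFun_apply _ hφT]
          exact ha.aut_apply ⟨φ r, hφT⟩
        show H87.Base.extFun (T.subtype.comp (MulEquiv.toMonoidHom ha.aut)) (φ r) ∈ R'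
        rw [h6]
        have h7 := (H87.Base.isMap_of_mem hφ).comp' ha.isMap (fun x hx => by
          rw [H87.Base.extFun_apply φ hx]; exact hcl.2 R hRT φ hφ _)
        obtain ⟨ψ, hψ, hψx⟩ := h7
        refine Subgroup.subset_closure ⟨ψ, hψ, r, ?_⟩
        rw [hψx]
        show a (φ r) = a (H87.Base.extFun φ (r : Ω))
        rw [H87.Base.extFun_coe]
      intro x hx
      have hch := ((H87.Base.isIso_of_mem_autGroup hTS ha.aut_mem).isMap.exists_hom).choose_spec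
      obtain ⟨y, hy, hyx⟩ := h5 hx
      rw [SetLike.mem_coe, Subgroup.mem_comap, hch.2] at hy
      have h6 : H87.Base.extFun (T.subtype.comp (MulEquiv.toMonoidHom ha.aut)) (y : Ω) = a y := by
        rw [H87.Base.extFun_coe]
        exact ha.aut_apply y
      rw [h6] at hy
      rw [← hyx]
      exact hy
    have hm := ha.isMap.mono hR'T
    have h5 := hm.isIso
    have hfinR' : Finite R' := finite_of_le (hR'T.trans hTS)
    have h6 : H87.Base.img R' a = R' := by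
      refine Subgroup.eq_of_le_of_card_ge ?_ h5.card_eq.le
      intro z hz
      obtain ⟨w, hw, rfl⟩ := (H87.Base.mem_img hm).1 hz
      exact hmap w hw
    rwa [h6] at h5
  rw [H89.Normal3.isNormal_iff_extend hS hF (hR'T.trans hTS)]
  intro P hP φ hφ
  obtain ⟨a, f₀, ha, hf₀, hx⟩ := hfr P _ (hP.trans hR'T) (H87.Base.isMap_of_mem hφ)
  obtain ⟨g, hg, hgf, hgR⟩ := (H87.Basic.isNormal_iff.1 hR'n).2 P f₀ hf₀
  rw [sup_eq_right.2 hP] at hg
  have hfinR' : Finite R' := finite_of_le (hR'T.trans hTS)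
  have hgF : H87.Base.IsMap F R' g := (H87.Basic.isSubsystemOf_iff.1 hsub) _ _ hg
  have hgiso : H87.Base.IsIso F R' R' g := by
    have h5 := hgF.isIso
    have h6 : H87.Base.img R' g = R' := by
      refine Subgroup.eq_of_le_of_card_ge ?_ h5.card_eq.le
      intro z hz
      obtain ⟨w, hw, rfl⟩ := (H87.Base.mem_img hgF).1 hz
      exact hgR w hw
    rwa [h6] at h5
  have hiso := hgiso.comp (hR'inv a ha)
  refine ⟨hiso.aut, hiso.aut_mem, fun x => ?_⟩
  rw [hiso.aut_apply]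
  show a (g x) = φ x
  rw [hgf x x.2, ← hx x x.2, H87.Base.extFun_coe]

end H89.WNormal
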