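import Cfsg.Agent.Lib.H89.SmallFus
import Cfsg.Prelude.Def_OddOrderLocal
import Mathlib.NumberTheory.Multiplicity

/-!
In a metacyclic `p`-group, `p` odd, the elements of order dividing `p` form a subgroup of order at most `p ^ 2`.
-/

set_option autoImplicit false
open scoped commutatorElement

namespace H89.MetaOmega

theorem lte_dvd {p : ℕ} (hp : p.Prime) (h2 : p ≠ 2) {u : ℤ} {k : ℕ} (h1 : (p : ℤ) ∣ u - 1)
    (h : (p : ℤ) ^ k ∣ u ^ p - 1) : (p : ℤ) ^ k ∣ (u - 1) * p := by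
  have hpi : Prime (p : ℤ) := Nat.prime_iff_prime_int.1 hp
  have hx : ¬ (p : ℤ) ∣ u := by
    intro hu
    have h3 : (p : ℤ) ∣ 1 := by
      have := dvd_sub hu h1
      have h4 : u - (u - 1) = 1 := by ring
      rwa [h4] at this
    exact hpi.not_dvd_one h3
  have h3 := Int.emultiplicity_pow_sub_pow hp (hp.odd_of_ne_two h2) (x := u) (y := 1) h1 hx p
  rw [one_pow] at h3
  have h4 : emultiplicity (p : ℤ) ((u - 1) * p) = emultiplicity (p : ℤ) (u ^ p - 1) := by
    rw [emultiplicity_mul hpi, h3]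
    congr 1
    exact Int.natCast_emultiplicity p p
  rw [pow_dvd_iff_le_emultiplicity, h4, ← pow_dvd_iff_le_emultiplicity]
  exact h

theorem mem_zpowers_of_pow_eq_one {Q : Type*} [Group Q] [Finite Q] [IsCyclic Q] {p : ℕ} (hp : p.Prime)
    {x y : Q} (hx : x ^ p = 1) (hx1 : x ≠ 1) (hy : y ^ p = 1) : y ∈ Subgroup.zpowers x := by
  classical
  have : Fintype Q := Fintype.ofFinite Q
  have := Fact.mk hp
  have h1 : (Finset.univ.filter fun a : Q => a ^ p = 1).card ≤ p := IsCyclic.card_pow_eq_one_le hp.pos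
  have hord : orderOf x = p := orderOf_eq_prime hx hx1
  have h2 : (Finset.univ.filter fun a : Q => a ∈ Subgroup.zpowers x) ⊆
      (Finset.univ.filter fun a : Q => a ^ p = 1) := by
    intro a ha
    rw [Finset.mem_filter] at ha ⊢
    refine ⟨ha.1, ?_⟩
    obtain ⟨k, rfl⟩ := Subgroup.mem_zpowers_iff.1 ha.2
    rw [← zpow_natCast, ← zpow_mul, mul_comm, zpow_mul, zpow_natCast, hx, one_zpow]
  have h3 : (Finset.univ.filter fun a : Q => a ∈ Subgroup.zpowers x).card = p := by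
    have h4 : Nat.card (Subgroup.zpowers x) = p := by rw [Nat.card_zpowers, hord]
    rw [← h4, Nat.card_eq_fintype_card, Fintype.card_subtype]
  have h4 := Finset.eq_of_subset_of_card_le h2 (by rw [h3]; exact h1)
  have h5 : y ∈ (Finset.univ.filter fun a : Q => a ^ p = 1) := by
    rw [Finset.mem_filter]
    exact ⟨Finset.mem_univ _, hy⟩
  rw [← h4, Finset.mem_filter] at h5
  exact h5.2

theorem card_le_of_cyclic {Q K : Type*} [Group Q] [Finite Q] [IsCyclic Q] {p : ℕ} (hp : 0 < p)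
    (g : K → Q) (hg : Function.Injective g) (h : ∀ k, g k ^ p = 1) : Nat.card K ≤ p := by
  classical
  have : Fintype Q := Fintype.ofFinite Q
  have : Finite K := Finite.of_injective g hg
  have : Fintype K := Fintype.ofFinite K
  have h1 : (Finset.univ.filter fun a : Q => a ^ p = 1).card ≤ p := IsCyclic.card_pow_eq_one_le hp
  refine le_trans ?_ h1
  rw [Nat.card_eq_fintype_card, ← Finset.card_univ]
  refine Finset.card_le_card_of_injOn g (fun k _ => ?_) (fun a _ b _ hab => hg hab)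
  rw [Finset.coe_filter]
  exact ⟨Finset.mem_univ _, h k⟩

/-- `Ω₁` of a metacyclic `p`-group, `p` odd. -/
theorem exists_omega {R : Type*} [Group R] [Finite R] {p : ℕ} [hp : Fact p.Prime] (hR : IsPGroup p R)
    (hp2 : p ≠ 2) (hm : Cfsg.IsMetacyclic R) :
    ∃ W : Subgroup R, (∀ x, x ∈ W ↔ x ^ p = 1) ∧ Nat.card W ∣ p ^ 2 := by
  obtain ⟨N, hNn, hNc, hQc⟩ := hm
  have hpp := hp.out
  obtain ⟨⟨a, haN⟩, ha⟩ := hNc.exists_generator
  have haN' : ∀ n ∈ N, ∃ i : ℤ, a ^ i = n := by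
    intro n hn
    obtain ⟨i, hi⟩ := Subgroup.mem_zpowers_iff.1 (ha ⟨n, hn⟩)
    exact ⟨i, congrArg Subtype.val hi⟩
  have hconj : ∀ x : R, ∃ u : ℤ, x * a * x⁻¹ = a ^ u := by
    intro x
    obtain ⟨i, hi⟩ := haN' _ (hNn.conj_mem a haN x)
    exact ⟨i, hi.symm⟩
  -- elements of order `p` of `N` are central
  have hcen : ∀ n ∈ N, n ^ p = 1 → ∀ x : R, x * n * x⁻¹ = n := by
    intro n hn hnp x
    obtain ⟨m, hm⟩ := hR x
    refine H89.SmallFus.comm_of_prime hnp hm ?_
    obtain ⟨i, rfl⟩ := haN' n hn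
    obtain ⟨u, hu⟩ := hconj x
    refine Subgroup.mem_zpowers_iff.2 ⟨u, ?_⟩
    rw [← conj_zpow, hu, ← zpow_mul, ← zpow_mul, mul_comm]
  -- commutators with elements of order `p`
  have hcom : ∀ x : R, x ^ p = 1 → ∀ n ∈ N, x * n * x⁻¹ * n⁻¹ ∈ N ∧ (x * n * x⁻¹ * n⁻¹) ^ p = 1 := by
    intro x hx n hn
    refine ⟨N.mul_mem (hNn.conj_mem n hn x) (N.inv_mem hn), ?_⟩
    obtain ⟨i, rfl⟩ := haN' n hn
    obtain ⟨u, hu⟩ := hconj x
    obtain ⟨k, hk⟩ := (IsPGroup.iff_orderOf.1 hR) a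
    have h1 : ∀ m : ℕ, x ^ m * a * (x ^ m)⁻¹ = a ^ (u ^ m) := by
      intro m
      induction m with
      | zero => simp
      | succ m ih =>
        have h2 : x ^ (m + 1) * a * (x ^ (m + 1))⁻¹ = x ^ m * (x * a * x⁻¹) * (x ^ m)⁻¹ := by
          rw [pow_succ]; group
        rw [h2, hu, ← conj_zpow, ih, ← zpow_mul, pow_succ]
    have h2 : (p : ℤ) ^ k ∣ u ^ p - 1 := by
      have h3 : a ^ (u ^ p - 1) = 1 := by
        rw [zpow_sub, ← h1 p, hx]; group
      have h4 := orderOf_dvd_iff_zpow_eq_one.2 h3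
      rw [hk] at h4
      exact_mod_cast h4
    have h5 : (x * a ^ i * x⁻¹ * (a ^ i)⁻¹) = a ^ (i * (u - 1)) := by
      rw [← conj_zpow, hu, ← zpow_mul, ← zpow_neg, ← zpow_add]
      congr 1; ring
    rw [h5, ← zpow_natCast, ← zpow_mul]
    rcases Nat.eq_zero_or_pos k with rfl | hk0
    · have h6 : a = 1 := by rw [← orderOf_eq_one_iff, hk, pow_zero]
      rw [h6, one_zpow]
    have h6 : (p : ℤ) ∣ u - 1 := by
      have h7 : (a ^ p ^ (k - 1)) ^ p = 1 := by
        rw [← pow_mul, ← pow_succ, Nat.sub_add_cancel hk0, ← hk, pow_orderOf_eq_one]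
      have h8 := hcen (a ^ p ^ (k - 1)) (N.pow_mem haN _) h7 x
      rw [← conj_pow, hu, ← zpow_natCast, ← zpow_natCast, ← zpow_mul] at h8
      have h9 : a ^ ((u - 1) * ((p ^ (k - 1) : ℕ) : ℤ)) = 1 := by
        rw [sub_mul, zpow_sub, h8, one_mul, mul_inv_cancel]
      have h10 := orderOf_dvd_iff_zpow_eq_one.2 h9
      rw [hk] at h10
      have h11 : ((p ^ k : ℕ) : ℤ) = (p : ℤ) * ((p ^ (k - 1) : ℕ) : ℤ) := by
        rw [← Nat.cast_mul, ← pow_succ', Nat.sub_add_cancel hk0]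
      rw [h11] at h10
      have h12 : ((p ^ (k - 1) : ℕ) : ℤ) ≠ 0 := by
        exact_mod_cast (pow_pos hpp.pos _).ne'
      exact Int.dvd_of_mul_dvd_mul_right h12 h10
    have h7 := lte_dvd hpp hp2 h6 h2
    apply orderOf_dvd_iff_zpow_eq_one.1
    rw [hk]
    have h8 : ((p ^ k : ℕ) : ℤ) = (p : ℤ) ^ k := by push_cast; rfl
    rw [h8, mul_assoc]
    exact Dvd.dvd.mul_left h7 i
  have hcomm : ∀ x y : R, x ^ p = 1 → y ^ p = 1 →
      y * x * y⁻¹ * x⁻¹ ∈ N ∧ (y * x * y⁻¹ * x⁻¹) ^ p = 1 := by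
    intro x y hx hy
    by_cases hxN : x ∈ N
    · exact hcom y hy x hxN
    have hx1 : QuotientGroup.mk' N x ≠ 1 := by
      rw [Ne, QuotientGroup.mk'_apply, QuotientGroup.eq_one_iff]
      exact hxN
    have h1 := mem_zpowers_of_pow_eq_one hpp (x := QuotientGroup.mk' N x) (y := QuotientGroup.mk' N y)
      (by rw [← map_pow, hx, map_one]) hx1 (by rw [← map_pow, hy, map_one])
    obtain ⟨j, hj⟩ := Subgroup.mem_zpowers_iff.1 h1
    rw [← map_zpow, QuotientGroup.mk'_apply, QuotientGroup.mk'_apply, QuotientGroup.eq] at hj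
    set n := (x ^ j)⁻¹ * y with hn
    have hy' : y = x ^ j * n := by rw [hn]; group
    obtain ⟨h2, h3⟩ := hcom x hx n hj
    have h4 : y * x * y⁻¹ * x⁻¹ = x ^ j * (x * n * x⁻¹ * n⁻¹)⁻¹ * (x ^ j)⁻¹ := by
      rw [hy']
      have : x ^ j * n * x * (x ^ j * n)⁻¹ * x⁻¹ = x ^ j * (n * x * n⁻¹) * ((x ^ j)⁻¹ * x⁻¹) := by group
      rw [this]
      have h5 : (x ^ j)⁻¹ * x⁻¹ = x⁻¹ * (x ^ j)⁻¹ := by
        rw [← mul_inv_rev, ← mul_inv_rev]
        congr 1
        exact ((Commute.refl x).zpow_right j).eq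
      rw [h5]; group
    have h5 : ((x * n * x⁻¹ * n⁻¹)⁻¹) ^ p = 1 := by rw [inv_pow, h3, inv_one]
    rw [h4, hcen _ (N.inv_mem h2) h5 (x ^ j)]
    exact ⟨N.inv_mem h2, h5⟩
  let W : Subgroup R :=
    { carrier := {x | x ^ p = 1}
      mul_mem' := by
        intro x y hx hy
        obtain ⟨h1, h2⟩ := hcomm x y hx hy
        have h3 : ∀ z : R, (y * x * y⁻¹ * x⁻¹) * z = z * (y * x * y⁻¹ * x⁻¹) := by
          intro z
          have := hcen _ h1 h2 z
          calc (y * x * y⁻¹ * x⁻¹) * z = (z * (y * x * y⁻¹ * x⁻¹) * z⁻¹) * z := by rw [this]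
            _ = z * (y * x * y⁻¹ * x⁻¹) := by group
        show (x * y) ^ p = 1
        rw [H38.SmallExp.mul_pow_classTwo (a := x) (b := y) (fun z _ => h3 z), show x ^ p = 1 from hx,
          show y ^ p = 1 from hy, one_mul, one_mul]
        obtain ⟨k, hk⟩ := hpp.odd_of_ne_two hp2
        have h5 : p * (p - 1) / 2 = p * k := by
          have : p * (p - 1) = p * k * 2 := by
            have : p - 1 = 2 * k := by omega
            rw [this]; ring
          rw [this]; simp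
        rw [h5, pow_mul, h2, one_pow]
      one_mem' := one_pow _
      inv_mem' := by
        intro x hx
        show x⁻¹ ^ p = 1
        rw [inv_pow, show x ^ p = 1 from hx, inv_one] }
  refine ⟨W, fun x => Iff.rfl, ?_⟩
  -- the order
  have hWp : IsPGroup p W := hR.to_subgroup W
  obtain ⟨m, hm⟩ := hWp.exists_card_eq
  let f : W →* R ⧸ N := (QuotientGroup.mk' N).comp W.subtype
  have hWm : ∀ x : W, (x : R) ^ p = 1 := fun x => x.2
  have h1 : Nat.card f.range ≤ p := by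
    refine card_le_of_cyclic hpp.pos (fun x : f.range => (x : R ⧸ N)) Subtype.val_injective ?_
    rintro ⟨_, x, rfl⟩
    show (f x) ^ p = 1
    rw [← map_pow]
    have : x ^ p = 1 := Subtype.ext (hWm x)
    rw [this, map_one]
  have h2 : Nat.card f.ker ≤ p := by
    have hker : ∀ x : f.ker, ((x : W) : R) ∈ N := by
      intro x
      have h3 : QuotientGroup.mk' N ((x : W) : R) = 1 := x.2
      rwa [QuotientGroup.mk'_apply, QuotientGroup.eq_one_iff] at h3
    refine card_le_of_cyclic hpp.pos (fun x : f.ker => (⟨((x : W) : R), hker x⟩ : N)) ?_ ?_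
    · intro x y hxy
      exact Subtype.ext (Subtype.ext (congrArg (Subtype.val : N → R) hxy))
    · intro x
      exact Subtype.ext (hWm x)
  have h3 : Nat.card W ≤ p ^ 2 := by
    have h4 := Subgroup.card_mul_index f.ker
    rw [Subgroup.index_ker] at h4
    rw [← h4, sq]
    exact Nat.mul_le_mul h2 h1
  rw [hm] at h3 ⊢
  exact pow_dvd_pow p ((Nat.pow_le_pow_iff_right hpp.one_lt).1 h3)

end H89.MetaOmega
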