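import Cfsg.Agent.Lib.H76.PG

/-!
A `p`-group acting non-centrally by conjugation on a normal subgroup `W` of exponent `p` and order dividing `p ^ 2`.
-/

set_option autoImplicit false

namespace H89.PlaneAct

variable {G : Type*} [Group G] [Finite G] {p : ℕ} [hp : Fact p.Prime]

theorem main (hG : IsPGroup p G) {W : Subgroup G} (hW : W.Normal) (hc : Nat.card W ∣ p ^ 2)
    (hx : ∀ x ∈ W, x ^ p = 1) (hnc : ∃ w ∈ W, ∃ g : G, g * w ≠ w * g) :
    Nat.card W = p ^ 2 ∧ (∀ x ∈ W, ∀ y ∈ W, x * y = y * x) ∧ ∃ z ∈ W, z ≠ 1 ∧ (∀ g : G, g * z = z * g) ∧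
      (∀ w ∈ W, (∀ g : G, g * w = w * g) → w ∈ Subgroup.zpowers z) ∧
      (∀ w ∈ W, ∀ g : G, g * w * g⁻¹ * w⁻¹ ∈ Subgroup.zpowers z) ∧
      ∀ w ∈ W, w ∉ Subgroup.zpowers z → ∀ z₀ ∈ Subgroup.zpowers z, ∃ g : G, g * w * g⁻¹ = w * z₀ := by
  have hpp := hp.out
  obtain ⟨w₀, hw₀, g₀, hg₀⟩ := hnc
  have hWb : W ≠ ⊥ := by
    rintro rfl
    rw [Subgroup.mem_bot] at hw₀
    subst hw₀
    exact hg₀ (by simp)
  obtain ⟨z, hzW, hzc, hzo⟩ := H76.PG.exists_center_of_normal hG W hWb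
  have hzc' : ∀ g : G, g * z = z * g := Subgroup.mem_center_iff.1 hzc
  have hz1 : z ≠ 1 := by
    rintro rfl
    rw [orderOf_one] at hzo
    exact hpp.one_lt.ne hzo
  have hzp : ∀ v ∈ Subgroup.zpowers z, ∀ g : G, g * v = v * g := by
    intro v hv g
    obtain ⟨i, rfl⟩ := Subgroup.mem_zpowers_iff.1 hv
    exact ((show Commute g z from hzc' g).zpow_right i).eq
  have hcz : Nat.card (Subgroup.zpowers z) = p := by rw [Nat.card_zpowers, hzo]
  have hle : Subgroup.zpowers z ≤ W := by simpa using hzW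
  have hw₀z : w₀ ∉ Subgroup.zpowers z := fun h => hg₀ (hzp w₀ h g₀)
  have hlt : Subgroup.zpowers z < W := lt_of_le_not_ge hle fun h => hw₀z (h hw₀)
  have hcard : Nat.card W = p ^ 2 := by
    obtain ⟨k, hk, hk'⟩ := (Nat.dvd_prime_pow hpp).1 hc
    have h1 : Nat.card (Subgroup.zpowers z) < Nat.card W := Set.ncard_lt_ncard hlt (Set.toFinite _)
    rw [hcz, hk'] at h1
    have h2 : 1 < k := by
      have : p ^ 1 < p ^ k := by rwa [pow_one]
      exact (Nat.pow_lt_pow_iff_right hpp.one_lt).1 this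
    have : k = 2 := by omega
    rw [hk', this]
  have hcomm : ∀ x ∈ W, ∀ y ∈ W, x * y = y * x := by
    intro x hx y hy
    have h1 : IsMulCommutative W := IsPGroup.isMulCommutative_of_card_eq_prime_sq hcard
    exact congrArg Subtype.val (h1.is_comm.comm ⟨x, hx⟩ ⟨y, hy⟩)
  -- generation
  have hgen : ∀ w ∈ W, w ∉ Subgroup.zpowers z → ∀ v ∈ W, ∃ i j : ℤ, v = z ^ i * w ^ j := by
    intro w hw hwz v hv
    have h1 : Subgroup.zpowers z ⊔ Subgroup.zpowers w = W := by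
      have hle' : Subgroup.zpowers z ⊔ Subgroup.zpowers w ≤ W := sup_le hle (by simpa using hw)
      apply Subgroup.eq_of_le_of_card_ge hle'
      have hlt' : Subgroup.zpowers z < Subgroup.zpowers z ⊔ Subgroup.zpowers w :=
        lt_of_le_not_ge le_sup_left fun h =>
          hwz (h ((le_sup_right : Subgroup.zpowers w ≤ _) (Subgroup.mem_zpowers w)))
      have h2 : Nat.card ↥(Subgroup.zpowers z ⊔ Subgroup.zpowers w) ∣ p ^ 2 :=
        hcard ▸ Subgroup.card_dvd_of_le hle'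
      obtain ⟨k, hk, hk'⟩ := (Nat.dvd_prime_pow hpp).1 h2
      have h1 : Nat.card (Subgroup.zpowers z) < Nat.card ↥(Subgroup.zpowers z ⊔ Subgroup.zpowers w) :=
        Set.ncard_lt_ncard hlt' (Set.toFinite _)
      rw [hcz, hk'] at h1
      have h2 : 1 < k := by
        have : p ^ 1 < p ^ k := by rwa [pow_one]
        exact (Nat.pow_lt_pow_iff_right hpp.one_lt).1 this
      rw [hcard, hk']
      exact Nat.pow_le_pow_right hpp.pos h2
    rw [← h1] at hv
    have hn : (Subgroup.zpowers z).Normal := ⟨fun n hn g => by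
      rw [hzp n hn g, mul_assoc, mul_inv_cancel, mul_one]; exact hn⟩
    obtain ⟨a, ha, b, hb, rfl⟩ := (Subgroup.mem_sup_of_normal_left (s := Subgroup.zpowers z)).1 hv
    obtain ⟨i, rfl⟩ := Subgroup.mem_zpowers_iff.1 ha
    obtain ⟨j, rfl⟩ := Subgroup.mem_zpowers_iff.1 hb
    exact ⟨i, j, rfl⟩
  have hcen : ∀ w ∈ W, (∀ g : G, g * w = w * g) → w ∈ Subgroup.zpowers z := by
    intro w hw hwg
    by_contra hwz
    obtain ⟨i, j, hij⟩ := hgen w hw hwz w₀ hw₀
    apply hg₀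
    rw [hij]
    exact ((show Commute g₀ (z ^ i) from hzp _ (Subgroup.zpow_mem_zpowers z i) g₀).mul_right
      ((show Commute g₀ w from hwg g₀).zpow_right j)).eq
  -- the quotient by `⟨z⟩`
  have hbr : ∀ w ∈ W, ∀ g : G, g * w * g⁻¹ * w⁻¹ ∈ Subgroup.zpowers z := by
    have hn : (Subgroup.zpowers z).Normal := ⟨fun n hn g => by
      rw [hzp n hn g, mul_assoc, mul_inv_cancel, mul_one]; exact hn⟩
    let π := QuotientGroup.mk' (Subgroup.zpowers z)
    have hWn : (W.map π).Normal := hW.map π (QuotientGroup.mk'_surjective _)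
    have hWb' : W.map π ≠ ⊥ := by
      intro h
      rw [Subgroup.map_eq_bot_iff, QuotientGroup.ker_mk'] at h
      exact not_le_of_gt hlt h
    obtain ⟨_, ⟨w₁, hw₁, rfl⟩, hw₁c, hw₁o⟩ :=
      H76.PG.exists_center_of_normal (hG.to_quotient (Subgroup.zpowers z)) (W.map π) hWb'
    have hw₁z : w₁ ∉ Subgroup.zpowers z := by
      intro h
      have : π w₁ = 1 := (QuotientGroup.eq_one_iff w₁).2 h
      rw [this, orderOf_one] at hw₁o
      exact hpp.one_lt.ne hw₁o
    have h1 : ∀ w ∈ W, ∀ g : G, π g * π w = π w * π g := by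
      intro w hw g
      obtain ⟨i, j, rfl⟩ := hgen w₁ hw₁ hw₁z w hw
      have h2 : π (z ^ i * w₁ ^ j) = π w₁ ^ j := by
        rw [map_mul, map_zpow, map_zpow]
        have : π z = 1 := (QuotientGroup.eq_one_iff z).2 (Subgroup.mem_zpowers z)
        rw [this, one_zpow, one_mul]
      rw [h2]
      exact ((show Commute (π g) (π w₁) from Subgroup.mem_center_iff.1 hw₁c (π g)).zpow_right j).eq
    intro w hw g
    rw [← QuotientGroup.eq_one_iff]
    show π (g * w * g⁻¹ * w⁻¹) = 1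
    rw [map_mul, map_mul, map_mul, h1 w hw g, map_inv, map_inv]
    group
  refine ⟨hcard, hcomm, z, hzW, hz1, hzc', hcen, hbr, ?_⟩
  intro w hw hwz z₀ hz₀
  -- the homomorphism `g ↦ [g, w]`
  let f : G →* Subgroup.zpowers z :=
    { toFun := fun g => ⟨g * w * g⁻¹ * w⁻¹, hbr w hw g⟩
      map_one' := Subtype.ext (by simp)
      map_mul' := by
        intro a b
        apply Subtype.ext
        show (a * b) * w * (a * b)⁻¹ * w⁻¹ = (a * w * a⁻¹ * w⁻¹) * (b * w * b⁻¹ * w⁻¹)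
        have h1 := hzp _ (hbr w hw b) (a * w * a⁻¹ * w⁻¹)
        have h2 := hzp _ (hbr w hw b) a
        rw [h1]
        calc (a * b) * w * (a * b)⁻¹ * w⁻¹ = (a * (b * w * b⁻¹ * w⁻¹)) * w * a⁻¹ * w⁻¹ := by group
          _ = ((b * w * b⁻¹ * w⁻¹) * a) * w * a⁻¹ * w⁻¹ := by rw [h2]
          _ = _ := by group }
  have hne : f.range ≠ ⊥ := by
    intro h
    apply hwz
    apply hcen w hw
    intro g
    have h1 : f g = 1 := by
      have : f g ∈ f.range := ⟨g, rfl⟩
      rwa [h, Subgroup.mem_bot] at this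
    have h2 : g * w * g⁻¹ * w⁻¹ = 1 := congrArg Subtype.val h1
    calc g * w = (g * w * g⁻¹ * w⁻¹) * (w * g) := by group
      _ = w * g := by rw [h2, one_mul]
  have htop : f.range = ⊤ := by
    have := Fact.mk hpp
    have hsimple : Fact (Nat.card (Subgroup.zpowers z)).Prime := ⟨by rw [hcz]; exact hpp⟩
    rcases Subgroup.eq_bot_or_eq_top_of_prime_card f.range with h | h
    · exact absurd h hne
    · exact h
  obtain ⟨g, hg⟩ : ∃ g, f g = ⟨z₀, hz₀⟩ := by
    have : (⟨z₀, hz₀⟩ : Subgroup.zpowers z) ∈ f.range := by rw [htop]; exact Subgroup.mem_top _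
    exact this
  refine ⟨g, ?_⟩
  have h3 : g * w * g⁻¹ * w⁻¹ = z₀ := congrArg Subtype.val hg
  have h4 := hzp z₀ hz₀ w
  calc g * w * g⁻¹ = (g * w * g⁻¹ * w⁻¹) * w := by group
    _ = z₀ * w := by rw [h3]
    _ = w * z₀ := h4.symm

end H89.PlaneAct
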