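import Cfsg.Agent.Lib.H89.SmallFus
import Cfsg.Agent.Lib.H89.PlaneAct
import Cfsg.Agent.Lib.H89.MetaOmega

/-!
S5234: for `p` odd a strongly closed subgroup `P` such that `{x ∈ P | x ^ p = 1}` is a subgroup of order at most
`p ^ 2` is normal.
-/

set_option autoImplicit false
open scoped commutatorElement
open Cfsg Cfsg.FusionSystem H86.FusBasic H86.FusSat H86.FusAlperin H89.Normal H89.Normal2 H89.Normal3

namespace H89.OmegaSC

variable {Ω : Type*} [Group Ω] {S : Subgroup Ω}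

theorem omegaOne_eq {p : ℕ} {P W : Subgroup Ω} (hW : ∀ x, x ∈ W ↔ x ∈ P ∧ x ^ p = 1) :
    omegaOne p P = W := by
  unfold omegaOne
  apply le_antisymm
  · rw [Subgroup.closure_le]
    exact fun x hx => (hW x).2 hx
  · intro x hx
    exact Subgroup.subset_closure ((hW x).1 hx)

theorem omega_stronglyClosed {p : ℕ} {F : FusionSystem S} {P W : Subgroup Ω} (hP : F.StronglyClosed P)
    (hW : ∀ x, x ∈ W ↔ x ∈ P ∧ x ^ p = 1) : F.StronglyClosed W := by
  have hWP : W ≤ P := fun x hx => ((hW x).1 hx).1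
  refine ⟨hWP.trans hP.1, fun R hR φ hφ x => ?_⟩
  refine (hW _).2 ⟨hP.2 R (hR.trans hWP) φ hφ x, ?_⟩
  have h1 : x ^ p = 1 := Subtype.ext ((hW x).1 (hR x.2)).2
  rw [← map_pow, h1, map_one]

/-- an automorphism of order two in `SL₂(p)` from a non-invariant line -/
theorem exists_neg {p : ℕ} [hp : Fact p.Prime] {F : FusionSystem S} {P W : Subgroup Ω} (hPS : P ≤ S)
    (hWP : W ≤ P) (hcard : Nat.card W = p ^ 2) (hcomm : ∀ x ∈ W, ∀ y ∈ W, x * y = y * x)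
    (hWx : ∀ x ∈ W, x ^ p = 1) (hWn : ∀ g ∈ P, ∀ w ∈ W, g * w * g⁻¹ ∈ W) {z : Ω} (hzW : z ∈ W) (hz1 : z ≠ 1)
    (hzP : ∀ g ∈ P, g * z = z * g)
    (htrans : ∀ w ∈ W, w ∉ Subgroup.zpowers z → ∀ z₀ ∈ Subgroup.zpowers z, ∃ g ∈ P, g * w * g⁻¹ = w * z₀)
    {κ : MulAut W} (hκ : κ ∈ F.autGroup W) (hκz : ((κ ⟨z, hzW⟩ : W) : Ω) ∉ Subgroup.zpowers z) :
    ∃ t ∈ F.autGroup W, ∀ v : W, t v = v⁻¹ := by
  have hpp := hp.out
  have hfW : Finite W := by
    apply Nat.finite_of_card_ne_zero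
    rw [hcard]
    exact (pow_pos hpp.pos 2).ne'
  have hWS := hWP.trans hPS
  have hzo : orderOf z = p := orderOf_eq_prime (hWx z hzW) hz1
  set Z : W := ⟨z, hzW⟩ with hZ
  set w : W := κ Z with hw
  set y : W := κ⁻¹ Z with hy
  have hyz : (y : Ω) ∉ Subgroup.zpowers z := by
    intro h
    apply hκz
    obtain ⟨i, hi⟩ := Subgroup.mem_zpowers_iff.1 h
    have h1 : y = Z ^ i := Subtype.ext hi.symm
    have h2 : Z = w ^ i := by
      rw [hw, ← map_zpow, ← h1, hy, MulAut.apply_inv_self]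
    -- `Z = w ^ i`, of order `p`, so `w` is a power of `Z`
    have h3 : z ∈ Subgroup.zpowers (w : Ω) := Subgroup.mem_zpowers_iff.2 ⟨i, (congrArg Subtype.val h2).symm⟩
    have hw1 : (w : Ω) ≠ 1 := by
      intro h
      have h5 : w = 1 := Subtype.ext h
      rw [h5, one_zpow] at h2
      exact hz1 (congrArg Subtype.val h2)
    have hwo : orderOf (w : Ω) = p := orderOf_eq_prime (hWx w w.2) hw1
    have h4 : Subgroup.zpowers z = Subgroup.zpowers (w : Ω) := by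
      have : Finite (Subgroup.zpowers (w : Ω)) := by
        apply Nat.finite_of_card_ne_zero
        rw [Nat.card_zpowers, hwo]
        exact hpp.ne_zero
      apply Subgroup.eq_of_le_of_card_ge
      · rwa [Subgroup.zpowers_le]
      · rw [Nat.card_zpowers, Nat.card_zpowers, hzo, hwo]
    rw [h4]
    exact Subgroup.mem_zpowers _
  obtain ⟨g, hg, hgw⟩ := htrans w w.2 hκz z (Subgroup.mem_zpowers z)
  obtain ⟨h, hh, hhy⟩ := htrans y y.2 hyz z⁻¹ (Subgroup.inv_mem _ (Subgroup.mem_zpowers z))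
  have hN : ∀ g ∈ P, g ∈ Subgroup.normalizer (W : Set Ω) := by
    intro g hg
    rw [Subgroup.mem_normalizer_iff]
    intro x
    refine ⟨hWn g hg x, fun hx => ?_⟩
    have h1 := hWn g⁻¹ (P.inv_mem hg) _ hx
    have h2 : g⁻¹ * (g * x * g⁻¹) * g⁻¹⁻¹ = x := by group
    rwa [h2] at h1
  set u : MulAut W := conjAut W (hN g hg) with hu
  set u' : MulAut W := conjAut W (hN h hh) with hu'
  have huF : u ∈ F.autGroup W :=
    autInducedBy_le_autGroup F hWS (conjAut_mem_autInducedBy (hN g hg) (hPS hg))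
  have huF' : u' ∈ F.autGroup W :=
    autInducedBy_le_autGroup F hWS (conjAut_mem_autInducedBy (hN h hh) (hPS hh))
  have hcW : ∀ a b : W, a * b = b * a := fun a b => Subtype.ext (hcomm a a.2 b b.2)
  have huz : u Z = Z := Subtype.ext (by
    show g * z * g⁻¹ = z
    rw [hzP g hg, mul_inv_cancel_right])
  have huw : u w = w * Z := Subtype.ext hgw
  have huz' : u' Z = Z := Subtype.ext (by
    show h * z * h⁻¹ = z
    rw [hzP h hh, mul_inv_cancel_right])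
  have huy' : u' y = y * Z⁻¹ := Subtype.ext hhy
  set v : MulAut W := κ * u' * κ⁻¹ with hv
  have hvF : v ∈ F.autGroup W := Subgroup.mul_mem _ (Subgroup.mul_mem _ hκ huF') (Subgroup.inv_mem _ hκ)
  have hvw : v w = w := by
    rw [hv, MulAut.mul_apply, MulAut.mul_apply, hw, MulAut.inv_apply_self, huz']
  have hvz : v Z = Z * w⁻¹ := by
    rw [hv, MulAut.mul_apply, MulAut.mul_apply, ← hy, huy', map_mul, map_inv, ← hw, hy,
      MulAut.apply_inv_self]
  set s : MulAut W := u * v * u with hs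
  have hsF : s ∈ F.autGroup W := Subgroup.mul_mem _ (Subgroup.mul_mem _ huF hvF) huF
  have hsz : s Z = w⁻¹ := by
    rw [hs, MulAut.mul_apply, MulAut.mul_apply, huz, hvz, map_mul, map_inv, huz, huw, mul_inv_rev,
      mul_inv_cancel_left]
  have hsw : s w = Z := by
    rw [hs, MulAut.mul_apply, MulAut.mul_apply, huw, map_mul v, hvw, hvz, hcW Z w⁻¹, mul_inv_cancel_left, huz]
  refine ⟨s * s, Subgroup.mul_mem _ hsF hsF, ?_⟩
  have htz : (s * s) Z = Z⁻¹ := by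
    rw [MulAut.mul_apply, hsz, map_inv, hsw]
  have htw : (s * s) w = w⁻¹ := by
    rw [MulAut.mul_apply, hsw, hsz]
  -- generation
  let K : Subgroup W :=
    { carrier := {v | (s * s) v = v⁻¹}
      mul_mem' := by
        intro a b ha hb
        show (s * s) (a * b) = (a * b)⁻¹
        rw [map_mul, show (s * s) a = a⁻¹ from ha, show (s * s) b = b⁻¹ from hb, mul_inv_rev, hcW]
      one_mem' := by
        show (s * s) 1 = 1⁻¹
        rw [map_one, inv_one]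
      inv_mem' := by
        intro a ha
        show (s * s) a⁻¹ = a⁻¹⁻¹
        rw [map_inv, show (s * s) a = a⁻¹ from ha] }
  have hKtop : K = ⊤ := by
    have hZK : Subgroup.zpowers Z ≤ K := by rw [Subgroup.zpowers_le]; exact htz
    have hwK : w ∈ K := htw
    have hwZ : w ∉ Subgroup.zpowers Z := by
      intro h
      apply hκz
      obtain ⟨i, hi⟩ := Subgroup.mem_zpowers_iff.1 h
      exact Subgroup.mem_zpowers_iff.2 ⟨i, congrArg Subtype.val hi⟩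
    have hlt : Subgroup.zpowers Z < K := lt_of_le_not_ge hZK fun h => hwZ (h hwK)
    apply Subgroup.eq_top_of_le_card
    have h1 : Nat.card (Subgroup.zpowers Z) = p := by
      rw [Nat.card_zpowers, ← Subgroup.orderOf_coe, hzo]
    have h2 : Nat.card K ∣ p ^ 2 := hcard ▸ Subgroup.card_subgroup_dvd_card K
    obtain ⟨k, hk, hk'⟩ := (Nat.dvd_prime_pow hpp).1 h2
    have h3 : Nat.card (Subgroup.zpowers Z) < Nat.card K := Set.ncard_lt_ncard hlt (Set.toFinite _)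
    rw [h1, hk'] at h3
    have h4 : 1 < k := by
      have : p ^ 1 < p ^ k := by rwa [pow_one]
      exact (Nat.pow_lt_pow_iff_right hpp.one_lt).1 this
    rw [hcard, hk']
    exact Nat.pow_le_pow_right hpp.pos h4
  intro v
  have : v ∈ K := by rw [hKtop]; exact Subgroup.mem_top _
  exact this

/-- S5234, general form. -/
theorem isNormal_of_omega_small [Finite S] {p : ℕ} [hp : Fact p.Prime] (hS : IsPGroup p S)
    {F : FusionSystem S} (hF : F.IsSaturated p) (hp2 : p ≠ 2) {P W : Subgroup Ω} (hP : F.StronglyClosed P)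
    (hW : ∀ x, x ∈ W ↔ x ∈ P ∧ x ^ p = 1) (hcard : Nat.card W ∣ p ^ 2) : F.IsNormal P := by
  have hpp := hp.out
  have hPS := hP.1
  have hWP : W ≤ P := fun x hx => ((hW x).1 hx).1
  have hWS := hWP.trans hPS
  have hfP : Finite P := finite_of_le hPS
  have hWsc := omega_stronglyClosed hP hW
  have hWn : ∀ g ∈ S, ∀ w ∈ W, g * w * g⁻¹ ∈ W := fun g hg w hw =>
    H87.Grow.StronglyClosed.conj_mem hWsc hg hw
  have hbot : F.StronglyClosed ⊥ := stronglyClosed_of_isNormal (H87.Basic.isNormal_bot F)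
  rw [H89.SmallFus.isNormal_iff_omega_chain hS hF hp2 hP, omegaOne_eq hW]
  by_cases hcen : ∃ w ∈ W, ∃ g ∈ P, g * w ≠ w * g
  swap
  · -- central case
    refine ⟨1, ![⊥, W], rfl, rfl, ?_, ?_, ?_⟩
    · intro i j hij
      fin_cases i <;> fin_cases j <;> simp_all
    · intro i
      fin_cases i
      · exact hbot
      · exact hWsc
    · intro i
      fin_cases i
      show ⁅W, P⁆ ≤ ⊥
      rw [le_bot_iff, Subgroup.commutator_eq_bot_iff_le_centralizer]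
      intro w hw
      refine Subgroup.mem_centralizer_iff.2 fun g hg => ?_
      by_contra hne
      exact hcen ⟨w, hw, g, hg, hne⟩
  have hPp : IsPGroup p P := hS.to_le hPS
  -- translate to the group `P`
  have hW'n : (W.subgroupOf P).Normal := ⟨fun n hn g => hWn g (hPS g.2) n hn⟩
  have hc' : Nat.card (W.subgroupOf P) = Nat.card W :=
    Nat.card_congr (Subgroup.subgroupOfEquivOfLe hWP).toEquiv
  obtain ⟨hcd, hcm, z, hzW, hz1, hzP, hzc, hbr, htr⟩ := H89.PlaneAct.main hPp hW'n (by rw [hc']; exact hcard)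
    (fun x hx => Subtype.ext ((hW x).1 hx).2) (by
      obtain ⟨w, hw, g, hg, hne⟩ := hcen
      exact ⟨⟨w, hWP hw⟩, hw, ⟨g, hg⟩, fun h => hne (congrArg Subtype.val h)⟩)
  have hzz : ∀ x : P, x ∈ Subgroup.zpowers z ↔ (x : Ω) ∈ Subgroup.zpowers (z : Ω) := by
    intro x
    constructor
    · intro h
      obtain ⟨i, rfl⟩ := Subgroup.mem_zpowers_iff.1 h
      exact Subgroup.mem_zpowers_iff.2 ⟨i, rfl⟩
    · intro h
      obtain ⟨i, hi⟩ := Subgroup.mem_zpowers_iff.1 h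
      exact Subgroup.mem_zpowers_iff.2 ⟨i, Subtype.ext hi⟩
  have hZle : Subgroup.zpowers (z : Ω) ≤ W := by
    rw [Subgroup.zpowers_le]
    exact hzW
  rw [hc'] at hcd
  by_cases hZsc : F.StronglyClosed (Subgroup.zpowers (z : Ω))
  · refine ⟨2, ![⊥, Subgroup.zpowers (z : Ω), W], rfl, rfl, ?_, ?_, ?_⟩
    · rw [Fin.monotone_iff_le_succ]
      intro i
      fin_cases i
      · exact bot_le
      · exact hZle
    · intro i
      fin_cases i
      · exact hbot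
      · exact hZsc
      · exact hWsc
    · intro i
      fin_cases i
      · show ⁅Subgroup.zpowers (z : Ω), P⁆ ≤ ⊥
        rw [le_bot_iff, Subgroup.commutator_eq_bot_iff_le_centralizer, Subgroup.zpowers_le]
        refine Subgroup.mem_centralizer_iff.2 fun g hg => ?_
        exact congrArg Subtype.val (hzP ⟨g, hg⟩)
      · show ⁅W, P⁆ ≤ Subgroup.zpowers (z : Ω)
        rw [Subgroup.commutator_le]
        intro w hw g hg
        have h1 := (hzz _).1 (hbr ⟨w, hWP hw⟩ hw ⟨g, hg⟩)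
        have h2 : ⁅w, g⁆ = (g * w * g⁻¹ * w⁻¹)⁻¹ := by rw [commutatorElement_def]; group
        rw [h2]
        exact Subgroup.inv_mem _ h1
  -- the remaining case is impossible
  exfalso
  have hWnorm : F.IsNormal W := by
    refine isNormal_of_abelian hS hF hWsc fun x hx y hy => ?_
    exact congrArg Subtype.val (hcm ⟨x, hWP hx⟩ hx ⟨y, hWP hy⟩ hy)
  have hzWΩ : (z : Ω) ∈ W := hzW
  obtain ⟨κ, hκ, hκz⟩ : ∃ κ ∈ F.autGroup W, ((κ ⟨(z : Ω), hzWΩ⟩ : W) : Ω) ∉ Subgroup.zpowers (z : Ω) := by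
    by_contra hcon
    apply hZsc
    refine ⟨hZle.trans hWS, fun R hR φ hφ x => ?_⟩
    obtain ⟨ψ, hψ, hψφ, κ, hκ, hκx⟩ := isNormal_extend hWnorm hφ
    have h1 : ((κ ⟨(z : Ω), hzWΩ⟩ : W) : Ω) ∈ Subgroup.zpowers (z : Ω) := by
      by_contra h
      exact hcon ⟨κ, hκ, h⟩
    obtain ⟨i, hi⟩ := Subgroup.mem_zpowers_iff.1 (hR x.2)
    have h2 : φ x = ((κ ⟨x, hZle (hR x.2)⟩ : W) : Ω) := by
      rw [← hψφ, ← hκx]
      rfl
    have h3 : (⟨x, hZle (hR x.2)⟩ : W) = (⟨(z : Ω), hzWΩ⟩ : W) ^ i := Subtype.ext hi.symm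
    rw [h2, h3, map_zpow]
    exact Subgroup.zpow_mem _ h1 i
  obtain ⟨t, ht, htv⟩ := exists_neg (F := F) hPS hWP hcd
    (fun x hx y hy => congrArg Subtype.val (hcm ⟨x, hWP hx⟩ hx ⟨y, hWP hy⟩ hy))
    (fun x hx => ((hW x).1 hx).2) (fun g hg w hw => hWn g (hPS hg) w hw) hzWΩ
    (fun h => hz1 (Subtype.ext h)) (fun g hg => congrArg Subtype.val (hzP ⟨g, hg⟩))
    (by
      intro w hw hwz z₀ hz₀
      have hz₀P : z₀ ∈ P := hWP (hZle hz₀)
      obtain ⟨g, hg⟩ := htr ⟨w, hWP hw⟩ hw (fun h => hwz ((hzz _).1 h)) ⟨z₀, hz₀P⟩ ((hzz _).2 hz₀)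
      exact ⟨g, g.2, congrArg Subtype.val hg⟩) hκ hκz
  -- extend `t` to `S`
  have hWN : ∀ s ∈ S, s ∈ Subgroup.normalizer (W : Set Ω) := le_normalizer_of_isNormal hWnorm
  have hWfn : F.IsFullyNormalized W := by
    refine ⟨hWS, fun R hR => ?_⟩
    have h1 : normalizerIn S W = S := inf_eq_left.2 fun s hs => hWN s hs
    rw [h1]
    exact Nat.card_le_card_of_injective _ (Subgroup.inclusion_injective (normalizerIn_le S R))
  obtain ⟨ψ, hψ, hψx⟩ := receptive_extend' (receptive_of_fullyNormalized hS hF hWfn)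
    ((H86.FusBasic.mem_autGroup F hWS).1 ht) hWS le_rfl hWN (by
      intro g hg
      have h1 : MulAut.congr (t : W ≃* W) (conjAut W (hWN g hg)) = conjAut W (hWN g hg) := by
        ext v
        show (((t : W ≃* W) (conjAut W (hWN g hg) ((t : W ≃* W).symm v)) : W) : Ω) = _
        have h2 : (t : W ≃* W).symm v = v⁻¹ := by
          rw [MulEquiv.symm_apply_eq]
          exact ((htv v⁻¹).trans (inv_inv v)).symm
        have h3 : (t : W ≃* W) (conjAut W (hWN g hg) v⁻¹) = (conjAut W (hWN g hg) v⁻¹)⁻¹ := htv _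
        rw [h2, h3, map_inv, inv_inv]
      rw [h1]
      exact conjAut_mem_autInducedBy (hWN g hg) hg)
  have hψW : ∀ v (hv : v ∈ W), ψ ⟨v, hWS hv⟩ = v⁻¹ := by
    intro v hv
    rw [hψx ⟨v, hv⟩]
    exact congrArg Subtype.val (htv ⟨v, hv⟩)
  have hψP : ∀ x (hx : x ∈ P), ψ ⟨x, hPS hx⟩ ∈ P := by
    intro x hx
    have := H87.Basic.mem_of_stronglyClosed hP (H87.Base.isMap_of_mem hψ) (hPS hx) hx
    rwa [H87.Base.extFun_apply ψ (hPS hx)] at this
  -- `x⁻¹ ψ(x)` centralizes `W`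
  have hcentr : ∀ x (hx : x ∈ P), ∀ v ∈ W, (x⁻¹ * ψ ⟨x, hPS hx⟩) * v = v * (x⁻¹ * ψ ⟨x, hPS hx⟩) := by
    intro x hx v hv
    have hv' := W.inv_mem hv
    have hxv := hWn x (hPS hx) v⁻¹ hv'
    have h1 : ψ ⟨x * v⁻¹ * x⁻¹, hWS hxv⟩ = ψ ⟨x, hPS hx⟩ * v * (ψ ⟨x, hPS hx⟩)⁻¹ := by
      have h2 : (⟨x * v⁻¹ * x⁻¹, hWS hxv⟩ : S) = ⟨x, hPS hx⟩ * ⟨v⁻¹, hWS hv'⟩ * ⟨x, hPS hx⟩⁻¹ := rfl
      rw [h2, map_mul, map_mul, map_inv, hψW v⁻¹ hv', inv_inv]
    rw [hψW _ hxv] at h1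
    have h3 : ψ ⟨x, hPS hx⟩ * v = x * v * x⁻¹ * ψ ⟨x, hPS hx⟩ := by
      calc ψ ⟨x, hPS hx⟩ * v = (ψ ⟨x, hPS hx⟩ * v * (ψ ⟨x, hPS hx⟩)⁻¹) * ψ ⟨x, hPS hx⟩ := by group
        _ = (x * v⁻¹ * x⁻¹)⁻¹ * ψ ⟨x, hPS hx⟩ := by rw [h1]
        _ = x * v * x⁻¹ * ψ ⟨x, hPS hx⟩ := by group
    calc (x⁻¹ * ψ ⟨x, hPS hx⟩) * v = x⁻¹ * (ψ ⟨x, hPS hx⟩ * v) := by group
      _ = x⁻¹ * (x * v * x⁻¹ * ψ ⟨x, hPS hx⟩) := by rw [h3]
      _ = _ := by group
  -- no fixed points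
  have hnofix : ∀ x (hx : x ∈ P), ψ ⟨x, hPS hx⟩ = x → x = 1 := by
    intro x hx hfx
    by_contra hx1
    obtain ⟨k, hk⟩ := (IsPGroup.iff_orderOf.1 hPp) ⟨x, hx⟩
    rw [Subgroup.orderOf_mk] at hk
    have hk0 : k ≠ 0 := by
      rintro rfl
      rw [pow_zero, orderOf_eq_one_iff] at hk
      exact hx1 hk
    set y := x ^ p ^ (k - 1) with hy
    have hyp : y ^ p = 1 := by
      rw [hy, ← pow_mul, ← pow_succ, Nat.sub_add_cancel (Nat.pos_of_ne_zero hk0), ← hk, pow_orderOf_eq_one]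
    have hyP : y ∈ P := P.pow_mem hx _
    have hyW : y ∈ W := (hW y).2 ⟨hyP, hyp⟩
    have hy1 : y ≠ 1 := by
      intro h
      have h1 := orderOf_dvd_of_pow_eq_one h
      rw [hk] at h1
      have h2 := (Nat.pow_dvd_pow_iff_le_right hpp.one_lt).1 h1
      omega
    have h1 := hψW y hyW
    have h2 : ψ ⟨y, hWS hyW⟩ = y := by
      have h3 : (⟨y, hWS hyW⟩ : S) = ⟨x, hPS hx⟩ ^ p ^ (k - 1) := rfl
      rw [h3, map_pow, hfx]
    rw [h2] at h1
    have h4 : y ^ 2 = 1 := by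
      rw [sq]
      exact mul_eq_one_iff_eq_inv.2 h1
    have h5 : orderOf y = p := orderOf_eq_prime hyp hy1
    have h6 := orderOf_dvd_of_pow_eq_one h4
    rw [h5] at h6
    exact hp2 ((Nat.prime_dvd_prime_iff_eq hpp Nat.prime_two).1 h6)
  let f : P → P := fun x => ⟨(x : Ω)⁻¹ * ψ ⟨x, hPS x.2⟩, P.mul_mem (P.inv_mem x.2) (hψP x x.2)⟩
  have hfi : Function.Injective f := by
    intro x y hxy
    have h1 : (x : Ω)⁻¹ * ψ ⟨x, hPS x.2⟩ = (y : Ω)⁻¹ * ψ ⟨y, hPS y.2⟩ := congrArg Subtype.val hxy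
    have h2 : ψ ⟨(y : Ω) * (x : Ω)⁻¹, hPS (P.mul_mem y.2 (P.inv_mem x.2))⟩ = (y : Ω) * (x : Ω)⁻¹ := by
      have h3 : (⟨(y : Ω) * (x : Ω)⁻¹, hPS (P.mul_mem y.2 (P.inv_mem x.2))⟩ : S) =
        ⟨y, hPS y.2⟩ * ⟨x, hPS x.2⟩⁻¹ := rfl
      rw [h3, map_mul, map_inv, mul_inv_eq_iff_eq_mul]
      calc ψ ⟨y, hPS y.2⟩ = y * ((y : Ω)⁻¹ * ψ ⟨y, hPS y.2⟩) := by group
        _ = y * ((x : Ω)⁻¹ * ψ ⟨x, hPS x.2⟩) := by rw [h1]
        _ = _ := by group
    have h3 := hnofix _ (P.mul_mem y.2 (P.inv_mem x.2)) h2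
    exact Subtype.ext (mul_inv_eq_one.1 h3).symm
  obtain ⟨w, hw, g, hg, hne⟩ := hcen
  obtain ⟨x, hx⟩ := (Finite.injective_iff_surjective.1 hfi) ⟨g, hg⟩
  apply hne
  have h1 := hcentr x x.2 w hw
  have h2 : (x : Ω)⁻¹ * ψ ⟨x, hPS x.2⟩ = g := congrArg Subtype.val hx
  rwa [h2] at h1

/-- S5234 -/
theorem isNormal_of_metacyclic [Finite S] {p : ℕ} [hp : Fact p.Prime] (hS : IsPGroup p S)
    {F : FusionSystem S} (hF : F.IsSaturated p) (hp2 : p ≠ 2) {P : Subgroup Ω} (hP : F.StronglyClosed P)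
    (hm : IsMetacyclic P) : F.IsNormal P := by
  have hfP : Finite P := finite_of_le hP.1
  obtain ⟨W, hW, hc⟩ := H89.MetaOmega.exists_omega (hS.to_le hP.1) hp2 hm
  refine isNormal_of_omega_small hS hF hp2 hP (W := W.map P.subtype) ?_ ?_
  · intro x
    constructor
    · rintro ⟨y, hy, rfl⟩
      exact ⟨y.2, congrArg Subtype.val ((hW y).1 hy)⟩
    · rintro ⟨hx, hx'⟩
      exact ⟨⟨x, hx⟩, (hW _).2 (Subtype.ext hx'), rfl⟩
  · rwa [Subgroup.card_map_of_injective P.subtype_injective]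

end H89.OmegaSC
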