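import Cfsg.Agent.Lib.H89.NonCentric
import Cfsg.Agent.Lib.H89.Meta2Fus
import Cfsg.Agent.Lib.H88.Focal

/-! S5265: `p`-groups whose centre has index at most `p ^ 2`: group theory. -/

set_option autoImplicit false
set_option linter.unusedSectionVars false
open scoped commutatorElement
open Cfsg Cfsg.FusionSystem H86.FusBasic H86.FusSat H86.FusAlperin H89.Normal H89.Normal2

namespace H89.CenIdx

variable {Ω : Type*} [Group Ω] {S : Subgroup Ω} {F : FusionSystem S} {p : ℕ}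

/-- `Z` is central in `S` with `S / Z` of order `p ^ 2`, and the commutators of `S` are the powers of `z₀`. -/
structure Dat (S Z : Subgroup Ω) (z₀ : Ω) (p : ℕ) : Prop where
  ZS : Z ≤ S
  cen : ∀ s ∈ S, ∀ z ∈ Z, s * z = z * s
  z0Z : z₀ ∈ Z
  z01 : z₀ ≠ 1
  z0p : z₀ ^ p = 1
  pw : ∀ x ∈ S, x ^ p ∈ Z
  comm : ∀ x ∈ S, ∀ y ∈ S, ∃ n : ℤ, x * y * x⁻¹ * y⁻¹ = z₀ ^ n
  dec : ∀ x ∈ S, ∀ y ∈ S, x * y ≠ y * x → ∀ s ∈ S, ∃ i j : ℤ, ∃ c ∈ Z, s = x ^ i * y ^ j * c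
  zc : ∀ x ∈ S, (∀ s ∈ S, s * x = x * s) → x ∈ Z
  nc : ∃ x ∈ S, ∃ y ∈ S, x * y ≠ y * x

/-- `P` is an abelian subgroup of index `p` of `S` containing `Z`. -/
structure Mx (S Z P : Subgroup Ω) : Prop where
  PS : P ≤ S
  ZP : Z ≤ P
  ab : ∀ x ∈ P, ∀ y ∈ P, x * y = y * x
  cyc : ∀ g ∈ S, g ∉ P → ∀ s ∈ S, ∃ n : ℤ, s * g ^ n ∈ P
  cn : ∀ g ∈ S, g ∉ P → ∀ x ∈ P, g * x = x * g → x ∈ Z
  ex : ∃ g ∈ S, g ∉ P
  mv : ∃ x ∈ P, x ∉ Z

theorem zpow_gen {z : Ω} [hp : Fact p.Prime] (hz : z ^ p = 1) {u : Ω} {n : ℤ} (hu : u = z ^ n) (hu1 : u ≠ 1) :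
    ∃ m : ℤ, z = u ^ m := by
  have h1 : ¬ (p : ℤ) ∣ n := by
    rintro ⟨k, rfl⟩
    apply hu1
    rw [hu, zpow_mul, zpow_natCast, hz, one_zpow]
  have h2 : IsCoprime (p : ℤ) n := (Prime.coprime_iff_not_dvd (Nat.prime_iff_prime_int.1 hp.1)).2 h1
  obtain ⟨a, b, hab⟩ := h2
  refine ⟨b, ?_⟩
  rw [hu, ← zpow_mul]
  have h3 : n * b = 1 - (p : ℤ) * a := by linarith
  rw [h3, zpow_sub, zpow_mul, zpow_natCast, hz, one_zpow]
  simp

section
variable {Z : Subgroup Ω} {z₀ : Ω}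

theorem Dat.comm_mul (h : Dat S Z z₀ p) {x y d : Ω} (hx : x ∈ S) (hy : y ∈ S) (hd : d ∈ S) :
    (x * y) * d * (x * y)⁻¹ * d⁻¹ = (x * d * x⁻¹ * d⁻¹) * (y * d * y⁻¹ * d⁻¹) := by
  obtain ⟨n, hn⟩ := h.comm y hy d hd
  have h0 : y * d * y⁻¹ * d⁻¹ ∈ Z := by rw [hn]; exact Z.zpow_mem h.z0Z n
  have h1 := h.cen x hx _ h0
  have h2 : x * d * x⁻¹ * d⁻¹ ∈ S := S.mul_mem (S.mul_mem (S.mul_mem hx hd) (S.inv_mem hx)) (S.inv_mem hd)
  calc (x * y) * d * (x * y)⁻¹ * d⁻¹ = x * (y * d * y⁻¹ * d⁻¹) * (d * x⁻¹ * d⁻¹) := by group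
    _ = (y * d * y⁻¹ * d⁻¹) * x * (d * x⁻¹ * d⁻¹) := by rw [h1]
    _ = (y * d * y⁻¹ * d⁻¹) * (x * d * x⁻¹ * d⁻¹) := by group
    _ = _ := (h.cen _ h2 _ h0).symm

theorem Dat.comm_zpow (h : Dat S Z z₀ p) {x d : Ω} (hx : x ∈ S) (hd : d ∈ S) (n : ℤ) :
    x ^ n * d * (x ^ n)⁻¹ * d⁻¹ = (x * d * x⁻¹ * d⁻¹) ^ n := by
  have hnat : ∀ n : ℕ, x ^ n * d * (x ^ n)⁻¹ * d⁻¹ = (x * d * x⁻¹ * d⁻¹) ^ n := by
    intro n
    induction n with
    | zero => simp
    | succ n ih => rw [pow_succ, h.comm_mul (S.pow_mem hx n) hx hd, ih, pow_succ]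
  rcases Int.eq_nat_or_neg n with ⟨m, rfl | rfl⟩
  · rw [zpow_natCast, zpow_natCast, hnat]
  · have h1 := h.comm_mul (S.inv_mem (S.pow_mem hx m)) (S.pow_mem hx m) hd
    rw [inv_mul_cancel] at h1
    have h2 : (1 : Ω) = ((x ^ m)⁻¹ * d * (x ^ m)⁻¹⁻¹ * d⁻¹) * (x ^ m * d * (x ^ m)⁻¹ * d⁻¹) := by
      rw [← h1]; group
    rw [hnat] at h2
    rw [zpow_neg, zpow_natCast, zpow_neg, zpow_natCast]
    exact eq_inv_of_mul_eq_one_left h2.symm

theorem Dat.comm_ne (h : Dat S Z z₀ p) [hp : Fact p.Prime] {x y : Ω} (hx : x ∈ S) (hy : y ∈ S) (hxy : x * y ≠ y * x)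
    {j : ℤ} (hj : x * y ^ j = y ^ j * x) : y ^ j ∈ Z := by
  obtain ⟨n, hn⟩ := h.comm y hy x hx
  have h1 := h.comm_zpow hy hx j
  have h2 : y ^ j * x * (y ^ j)⁻¹ * x⁻¹ = 1 := by rw [← hj]; group
  rw [h2, hn, ← zpow_mul] at h1
  have h3 : ¬ (p : ℤ) ∣ n := by
    rintro ⟨k, rfl⟩
    rw [zpow_mul, zpow_natCast, h.z0p, one_zpow] at hn
    apply hxy
    have : y * x = (y * x * y⁻¹ * x⁻¹) * (x * y) := by group
    rw [this, hn, one_mul]
  have h4 : orderOf z₀ = p := orderOf_eq_prime h.z0p h.z01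
  have h5 : (p : ℤ) ∣ n * j := by
    have := orderOf_dvd_iff_zpow_eq_one.2 h1.symm
    rwa [h4] at this
  rcases (Nat.prime_iff_prime_int.1 hp.1).dvd_mul.1 h5 with h6 | ⟨k, rfl⟩
  · exact absurd h6 h3
  · rw [zpow_mul, zpow_natCast]
    exact Z.zpow_mem (h.pw y hy) k

/-- A proper subgroup of `S` containing its centralizer is an abelian subgroup of index `p`. -/
theorem Dat.mx (h : Dat S Z z₀ p) [hp : Fact p.Prime] {P : Subgroup Ω} (hPS : P ≤ S) (hne : P ≠ S)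
    (hc : ∀ g ∈ S, (∀ x ∈ P, g * x = x * g) → g ∈ P) : Mx S Z P := by
  have hZP : Z ≤ P := fun z hz => hc z (h.ZS hz) fun x hx => (h.cen x (hPS hx) z hz).symm
  have hab : ∀ x ∈ P, ∀ y ∈ P, x * y = y * x := by
    intro x hx y hy
    by_contra hxy
    apply hne
    apply le_antisymm hPS
    intro s hs
    obtain ⟨i, j, c, hcZ, rfl⟩ := h.dec x (hPS hx) y (hPS hy) hxy s hs
    exact P.mul_mem (P.mul_mem (P.zpow_mem hx i) (P.zpow_mem hy j)) (hZP hcZ)
  obtain ⟨g₀, hg₀, hg₀P⟩ : ∃ g ∈ S, g ∉ P := by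
    by_contra hcon
    push Not at hcon
    exact hne (le_antisymm hPS hcon)
  have key : ∀ g ∈ S, g ∉ P → ∀ x ∈ P, g * x = x * g → x ∈ Z := by
    intro g hg hgP x hx hgx
    by_contra hxZ
    -- `x` does not commute with some `y`
    by_cases hcen : ∀ s ∈ S, x * s = s * x
    · -- then `x` commutes with everything, pick noncommuting elements
      obtain ⟨y, hy, hgy⟩ : ∃ y ∈ P, g * y ≠ y * g := by
        by_contra hcon
        push Not at hcon
        exact hgP (hc g hg hcon)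
      obtain ⟨i, j, c, hcZ, hx'⟩ := h.dec g hg y (hPS hy) hgy x (hPS hx)
      have h1 := hcen y (hPS hy)
      have h2 := hcen g hg
      have h3 : y * g ^ i = g ^ i * y := by
        have e1 : Commute y (y ^ j) := (Commute.refl y).zpow_right j
        have e2 : Commute y c := h.cen y (hPS hy) c hcZ
        have e3 : Commute y x := h1.symm
        have e4 : g ^ i = x * c⁻¹ * (y ^ j)⁻¹ := by rw [hx']; group
        rw [e4]
        exact (e3.mul_right e2.inv_right).mul_right e1.inv_right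
      have h4 : g * y ^ j = y ^ j * g := by
        have e1 : Commute g (g ^ i) := (Commute.refl g).zpow_right i
        have e2 : Commute g c := h.cen g hg c hcZ
        have e3 : Commute g x := h2.symm
        have e4 : y ^ j = (g ^ i)⁻¹ * x * c⁻¹ := by rw [hx']; group
        rw [e4]
        exact ((e1.inv_right).mul_right e3).mul_right e2.inv_right
      have h5 := h.comm_ne (hPS hy) hg (fun h => hgy h.symm) h3
      have h6 := h.comm_ne hg (hPS hy) hgy h4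
      apply hxZ
      rw [hx']
      exact Z.mul_mem (Z.mul_mem h5 h6) hcZ
    · push Not at hcen
      obtain ⟨y, hy, hxy⟩ := hcen
      obtain ⟨i, j, c, hcZ, hg'⟩ := h.dec x (hPS hx) y hy hxy g hg
      have h4 : x * y ^ j = y ^ j * x := by
        have e1 : Commute x (x ^ i) := (Commute.refl x).zpow_right i
        have e2 : Commute x c := h.cen x (hPS hx) c hcZ
        have e3 : Commute x g := hgx.symm
        have e4 : y ^ j = (x ^ i)⁻¹ * g * c⁻¹ := by rw [hg']; group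
        rw [e4]
        exact ((e1.inv_right).mul_right e3).mul_right e2.inv_right
      have h6 := h.comm_ne (hPS hx) hy hxy h4
      apply hgP
      rw [hg']
      exact P.mul_mem (P.mul_mem (P.zpow_mem hx i) (hZP h6)) (hZP hcZ)
  obtain ⟨x₀, hx₀, hx₀Z⟩ : ∃ x ∈ P, x ∉ Z := by
    by_contra hcon
    push Not at hcon
    exact hg₀P (hc g₀ hg₀ fun x hx => h.cen g₀ hg₀ x (hcon x hx))
  refine ⟨hPS, hZP, hab, ?_, key, ⟨g₀, hg₀, hg₀P⟩, ⟨x₀, hx₀, hx₀Z⟩⟩
  intro g hg hgP s hs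
  have h1 : x₀ * g ≠ g * x₀ := fun h2 => hx₀Z (key g hg hgP x₀ hx₀ h2.symm)
  obtain ⟨i, j, c, hcZ, rfl⟩ := h.dec x₀ (hPS hx₀) g hg h1 s hs
  refine ⟨-j, ?_⟩
  have h2 := h.cen _ (S.zpow_mem hg (-j)) c hcZ
  rw [mul_assoc, ← h2, ← mul_assoc, mul_assoc (x₀ ^ i), ← zpow_add, add_neg_cancel, zpow_zero, mul_one]
  exact P.mul_mem (P.zpow_mem hx₀ i) (hZP hcZ)

end

/-- In a finite `p`-group, a subgroup of index dividing `p ^ 2`... -/
theorem exists_dat [Finite S] [hp : Fact p.Prime] (hS : IsPGroup p S)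
    (hZ : (Subgroup.center S).index ≤ p ^ 2) (hna : ∃ x y : S, x * y ≠ y * x) :
    (Subgroup.center S).index = p ^ 2 ∧ ∃ z₀, Dat S ((Subgroup.center S).map S.subtype) z₀ p := by
  have hfS : Finite S := inferInstance
  set C := Subgroup.center S with hC
  have hcenS : ∀ (c : S), c ∈ C → ∀ s : S, s * c = c * s := fun c hc s => (Subgroup.mem_center_iff.1 hc s)
  -- the index
  have hnc : ¬ IsCyclic (S ⧸ C) := by
    intro hcyc
    obtain ⟨x, y, hxy⟩ := hna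
    apply hxy
    have := (QuotientGroup.mk' C).isMulCommutative_of_isCyclic_of_ker_le_center (by
      rw [QuotientGroup.ker_mk'])
    exact this.is_comm.comm x y
  have hQp : IsPGroup p (S ⧸ C) := hS.to_quotient C
  obtain ⟨k, hk⟩ := hQp.exists_card_eq
  have hidx : C.index = p ^ k := by rw [Subgroup.index, hk]
  have hk2 : k = 2 := by
    have h1 : k ≤ 2 := by
      rw [hidx] at hZ
      exact (Nat.pow_le_pow_iff_right hp.1.one_lt).1 hZ
    interval_cases k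
    · exfalso
      apply hnc
      have : Nat.card (S ⧸ C) = 1 := by simpa using hk
      have := (Nat.card_eq_one_iff_unique.1 this).1
      infer_instance
    · exfalso
      apply hnc
      exact isCyclic_of_prime_card (p := p) (by simpa using hk)
    · rfl
  subst hk2
  -- quotient is abelian of exponent `p`
  have hcardQ : Nat.card (S ⧸ C) = p ^ 2 := hk
  let _ : CommGroup (S ⧸ C) := { (inferInstance : Group (S ⧸ C)) with
    mul_comm := (IsPGroup.isMulCommutative_of_card_eq_prime_sq hk).is_comm.comm }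
  have hQab : ∀ a b : S ⧸ C, a * b = b * a := fun a b => mul_comm a b
  have hQp' : ∀ a : S ⧸ C, a ^ p = 1 := by
    intro a
    have h1 : orderOf a ∣ p ^ 2 := by rw [← hcardQ]; exact orderOf_dvd_natCard a
    obtain ⟨j, hj, hja⟩ := (Nat.dvd_prime_pow hp.1).1 h1
    interval_cases j
    · have h2 : a = 1 := orderOf_eq_one_iff.1 (by simpa using hja)
      rw [h2, one_pow]
    · exact orderOf_dvd_iff_pow_eq_one.1 (by rw [hja, pow_one])
    · exfalso
      exact hnc (isCyclic_of_orderOf_eq_card a (by rw [hja, hcardQ]))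
  have hpw : ∀ x : S, x ^ p ∈ C := by
    intro x
    rw [← QuotientGroup.eq_one_iff]
    exact hQp' (x : S ⧸ C)
  have hcm : ∀ x y : S, x * y * x⁻¹ * y⁻¹ ∈ C := by
    intro x y
    rw [← QuotientGroup.eq_one_iff]
    have : ((x * y * x⁻¹ * y⁻¹ : S) : S ⧸ C) = (x : S ⧸ C) * (y : S ⧸ C) * (x : S ⧸ C)⁻¹ * (y : S ⧸ C)⁻¹ := rfl
    rw [this, hQab x y]; group
  have hbil : ∀ x y d : S, (x * y) * d * (x * y)⁻¹ * d⁻¹ = (x * d * x⁻¹ * d⁻¹) * (y * d * y⁻¹ * d⁻¹) := by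
    intro x y d
    have h1 := hcenS _ (hcm y d) x
    have h2 := hcenS _ (hcm y d) (x * d * x⁻¹ * d⁻¹)
    calc (x * y) * d * (x * y)⁻¹ * d⁻¹ = x * (y * d * y⁻¹ * d⁻¹) * (d * x⁻¹ * d⁻¹) := by group
      _ = (y * d * y⁻¹ * d⁻¹) * x * (d * x⁻¹ * d⁻¹) := by rw [h1]
      _ = (y * d * y⁻¹ * d⁻¹) * (x * d * x⁻¹ * d⁻¹) := by group
      _ = _ := h2.symm
  -- `f d x = [x, d]` is a homomorphism
  let f : S → (S →* S) := fun d =>
    { toFun := fun x => x * d * x⁻¹ * d⁻¹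
      map_one' := by group
      map_mul' := fun x y => hbil x y d }
  have hf : ∀ x d, f d x = x * d * x⁻¹ * d⁻¹ := fun x d => rfl
  have hfinv : ∀ x d, f x d = (f d x)⁻¹ := by
    intro x d
    rw [hf, hf]; group
  have hfc : ∀ x d, x ∈ C → f d x = 1 := by
    intro x d hx
    rw [hf, ← hcenS x hx d]; group
  have hdec : ∀ x y : S, x * y ≠ y * x → ∀ s : S, ∃ i j : ℤ, ∃ c ∈ C, s = x ^ i * y ^ j * c := by
    intro x y hxy s
    have h1 : (x : S ⧸ C) ≠ 1 := by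
      rw [Ne, QuotientGroup.eq_one_iff]
      intro hx
      exact hxy (hcenS x hx y).symm
    have h2 : (y : S ⧸ C) ∉ Subgroup.zpowers (x : S ⧸ C) := by
      rintro ⟨n, hn⟩
      have h3 : (x ^ n)⁻¹ * y ∈ C := by
        rw [← QuotientGroup.eq]
        exact hn
      apply hxy
      have h4 : Commute x ((x ^ n)⁻¹ * y) := hcenS _ h3 x
      have h5 : Commute x (x ^ n) := (Commute.refl x).zpow_right n
      have h6 : Commute x (x ^ n * ((x ^ n)⁻¹ * y)) := h5.mul_right h4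
      rw [mul_inv_cancel_left] at h6
      exact h6
    have h3 : Nat.card (Subgroup.zpowers (x : S ⧸ C)) = p := by
      rw [Nat.card_zpowers]
      exact orderOf_eq_prime (hQp' _) h1
    have h4 : Subgroup.zpowers (x : S ⧸ C) ⊔ Subgroup.zpowers (y : S ⧸ C) = ⊤ := by
      apply Subgroup.eq_top_of_card_eq
      have h5 : Subgroup.zpowers (x : S ⧸ C) < Subgroup.zpowers (x : S ⧸ C) ⊔ Subgroup.zpowers (y : S ⧸ C) := by
        refine lt_of_le_of_ne le_sup_left fun h => h2 ?_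
        rw [h]
        exact (le_sup_right : Subgroup.zpowers (y : S ⧸ C) ≤ _) (Subgroup.mem_zpowers _)
      have h6 : Nat.card (Subgroup.zpowers (x : S ⧸ C) ⊔ Subgroup.zpowers (y : S ⧸ C) : Subgroup (S ⧸ C)) ∣ p ^ 2 := by
        rw [← hcardQ]; exact Subgroup.card_subgroup_dvd_card _
      have h7 : p < Nat.card (Subgroup.zpowers (x : S ⧸ C) ⊔ Subgroup.zpowers (y : S ⧸ C) : Subgroup (S ⧸ C)) := by
        have h8 := Set.Finite.card_lt_card (Set.toFinite _) (SetLike.coe_ssubset_coe.2 h5)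
        rw [← h3]
        exact h8
      obtain ⟨j, hj, hj'⟩ := (Nat.dvd_prime_pow hp.1).1 h6
      rw [hj'] at h7 ⊢
      interval_cases j
      · simp at h7; have := hp.1.pos; omega
      · simp at h7
      · exact hcardQ.symm
    have h5 : (s : S ⧸ C) ∈ Subgroup.zpowers (x : S ⧸ C) ⊔ Subgroup.zpowers (y : S ⧸ C) := by
      rw [h4]; exact Subgroup.mem_top _
    obtain ⟨_, ⟨i, rfl⟩, _, ⟨j, rfl⟩, hij⟩ := Subgroup.mem_sup.1 h5
    refine ⟨i, j, (x ^ i * y ^ j)⁻¹ * s, ?_, by group⟩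
    rw [← QuotientGroup.eq]
    exact hij
  obtain ⟨x, y, hxy⟩ := hna
  set w := f y x with hw
  have hwC : w ∈ C := hcm x y
  have hw1 : w ≠ 1 := by
    intro h
    apply hxy
    have : x * y = (x * y * x⁻¹ * y⁻¹) * (y * x) := by group
    rw [this, ← hf, ← hw, h, one_mul]
  have hwp : w ^ p = 1 := by
    rw [hw, ← map_pow]
    exact hfc _ _ (hpw x)
  have hcw : ∀ s t : S, ∃ n : ℤ, f t s = w ^ n := by
    intro s t
    obtain ⟨i, j, c, hc, rfl⟩ := hdec x y hxy s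
    obtain ⟨k, l, d, hd, rfl⟩ := hdec x y hxy t
    have hyy : f y y = 1 := by rw [hf]; group
    have hxx : f x x = 1 := by rw [hf]; group
    have hyx : f x y = w⁻¹ := hfinv x y
    have hx : f x (x ^ k * y ^ l * d) = w⁻¹ ^ l := by
      rw [map_mul, map_mul, map_zpow, map_zpow, hxx, one_zpow, one_mul, hyx, hfc d x hd, mul_one]
    have hy : f y (x ^ k * y ^ l * d) = w ^ k := by
      rw [map_mul, map_mul, map_zpow, map_zpow, hyy, one_zpow, mul_one, hfc d y hd, mul_one]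
    refine ⟨l * i + -k * j, ?_⟩
    rw [map_mul, map_mul, map_zpow, map_zpow, hfc c _ hc, mul_one, hfinv (x ^ k * y ^ l * d) x,
      hfinv (x ^ k * y ^ l * d) y, hx, hy, zpow_add, zpow_mul, zpow_mul]
    congr 1
    · simp only [inv_zpow, inv_inv]
    · rw [zpow_neg, inv_zpow]
  refine ⟨hidx, (w : Ω), ?_⟩
  have hmem : ∀ (u : Ω), u ∈ C.map S.subtype ↔ ∃ h : u ∈ S, (⟨u, h⟩ : S) ∈ C := by
    intro u
    constructor
    · rintro ⟨v, hv, rfl⟩
      exact ⟨v.2, hv⟩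
    · rintro ⟨h, hu⟩
      exact ⟨⟨u, h⟩, hu, rfl⟩
  refine ⟨Subgroup.map_subtype_le C, ?_, ⟨w, hwC, rfl⟩, fun h => hw1 (Subtype.ext h), ?_, ?_, ?_, ?_, ?_,
    ⟨x, x.2, y, y.2, fun h => hxy (Subtype.ext h)⟩⟩
  · rintro s hs _ ⟨z, hz, rfl⟩
    exact congrArg Subtype.val (hcenS z hz ⟨s, hs⟩)
  · exact congrArg Subtype.val hwp
  · intro x hx
    exact ⟨⟨x, hx⟩ ^ p, hpw _, rfl⟩
  · intro x hx y hy
    obtain ⟨n, hn⟩ := hcw ⟨x, hx⟩ ⟨y, hy⟩
    exact ⟨n, congrArg Subtype.val hn⟩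
  · intro x hx y hy hxy s hs
    obtain ⟨i, j, c, hc, hs'⟩ := hdec ⟨x, hx⟩ ⟨y, hy⟩ (fun h => hxy (congrArg Subtype.val h)) ⟨s, hs⟩
    exact ⟨i, j, c, ⟨c, hc, rfl⟩, congrArg Subtype.val hs'⟩
  · intro x hx hs
    refine ⟨⟨x, hx⟩, ?_, rfl⟩
    show _ ∈ Subgroup.center S
    rw [Subgroup.mem_center_iff]
    exact fun s => Subtype.ext (hs s s.2)

end H89.CenIdx
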