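import Cfsg.Agent.Lib.H89.CenIdx

/-! S5265: the structure of an essential subgroup. -/

set_option autoImplicit false
set_option linter.unusedSectionVars false
open scoped commutatorElement
open Cfsg Cfsg.FusionSystem H86.FusBasic H86.FusSat H86.FusAlperin H89.Normal H89.Normal2

namespace H89.CenIdx

variable {Ω : Type*} [Group Ω] {S : Subgroup Ω} {F : FusionSystem S} {p : ℕ} {P Z : Subgroup Ω} {z₀ : Ω}

theorem nrm (hD : Dat S Z z₀ p) (hM : Mx S Z P) {g : Ω} (hg : g ∈ S) : g ∈ Subgroup.normalizer (P : Set Ω) := by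
  have key : ∀ g ∈ S, ∀ x ∈ P, g * x * g⁻¹ ∈ P := by
    intro g hg x hx
    obtain ⟨n, hn⟩ := hD.comm g hg x (hM.PS hx)
    have : g * x * g⁻¹ = (g * x * g⁻¹ * x⁻¹) * x := by group
    rw [this, hn]
    exact P.mul_mem (P.zpow_mem (hM.ZP hD.z0Z) n) hx
  rw [Subgroup.mem_normalizer_iff]
  intro x
  refine ⟨key g hg x, fun hx => ?_⟩
  have := key g⁻¹ (S.inv_mem hg) _ hx
  have h2 : g⁻¹ * (g * x * g⁻¹) * g⁻¹⁻¹ = x := by group
  rwa [h2] at this

/-- `z₀` as an element of `P`. -/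
def zP (hD : Dat S Z z₀ p) (hM : Mx S Z P) : P := ⟨z₀, hM.ZP hD.z0Z⟩

theorem zP_p (hD : Dat S Z z₀ p) (hM : Mx S Z P) : zP hD hM ^ p = 1 := Subtype.ext hD.z0p

theorem zP_1 (hD : Dat S Z z₀ p) (hM : Mx S Z P) : zP hD hM ≠ 1 := fun h => hD.z01 (congrArg Subtype.val h)

theorem cj_apply (hD : Dat S Z z₀ p) (hM : Mx S Z P) {g : Ω} (hg : g ∈ S) (x : P) :
    ∃ n : ℤ, conjAut P (nrm hD hM hg) x = zP hD hM ^ n * x := by
  obtain ⟨n, hn⟩ := hD.comm g hg x (hM.PS x.2)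
  refine ⟨n, Subtype.ext ?_⟩
  show g * x * g⁻¹ = z₀ ^ n * x
  rw [← hn]; group

theorem cj_fix (hD : Dat S Z z₀ p) (hM : Mx S Z P) {g : Ω} (hg : g ∈ S) {x : P} (hx : (x : Ω) ∈ Z) :
    conjAut P (nrm hD hM hg) x = x := by
  apply Subtype.ext
  show g * x * g⁻¹ = x
  rw [hD.cen g hg _ hx]; group

theorem cj_z (hD : Dat S Z z₀ p) (hM : Mx S Z P) {g : Ω} (hg : g ∈ S) :
    conjAut P (nrm hD hM hg) (zP hD hM) = zP hD hM := cj_fix hD hM hg hD.z0Z

theorem cj_one (hD : Dat S Z z₀ p) (hM : Mx S Z P) {g : Ω} (hg : g ∈ S) (hgP : g ∈ P) :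
    conjAut P (nrm hD hM hg) = 1 := by
  ext x
  show g * x * g⁻¹ = x
  rw [hM.ab g hgP x x.2]; group

theorem cj_mul (hD : Dat S Z z₀ p) (hM : Mx S Z P) {g k : Ω} (hg : g ∈ S) (hk : k ∈ S) :
    conjAut P (nrm hD hM (S.mul_mem hg hk)) = conjAut P (nrm hD hM hg) * conjAut P (nrm hD hM hk) := by
  ext x
  show g * k * x * (g * k)⁻¹ = g * (k * x * k⁻¹) * g⁻¹
  group

theorem cj_zpow (hD : Dat S Z z₀ p) (hM : Mx S Z P) {g : Ω} (hg : g ∈ S) (n : ℤ) :
    conjAut P (nrm hD hM (S.zpow_mem hg n)) = conjAut P (nrm hD hM hg) ^ n := by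
  unfold conjAut
  rw [← map_zpow]
  rfl

theorem cj_gen (hD : Dat S Z z₀ p) (hM : Mx S Z P) {g : Ω} (hg : g ∈ S) (hgP : g ∉ P) {s : Ω} (hs : s ∈ S) :
    ∃ n : ℤ, conjAut P (nrm hD hM hs) = conjAut P (nrm hD hM hg) ^ n := by
  obtain ⟨n, hn⟩ := hM.cyc g hg hgP s hs
  refine ⟨-n, ?_⟩
  have h1 := cj_one hD hM (S.mul_mem hs (S.zpow_mem hg n)) hn
  rw [cj_mul hD hM hs (S.zpow_mem hg n), cj_zpow hD hM hg n] at h1
  rw [zpow_neg]
  exact eq_inv_of_mul_eq_one_left h1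

theorem cj_p (hD : Dat S Z z₀ p) (hM : Mx S Z P) {g : Ω} (hg : g ∈ S) :
    conjAut P (nrm hD hM hg) ^ p = 1 := by
  rw [← zpow_natCast, ← cj_zpow hD hM hg (p : ℤ)]
  refine cj_one hD hM (S.zpow_mem hg _) ?_
  rw [zpow_natCast]
  exact hM.ZP (hD.pw g hg)

section
variable [Finite S] [hp : Fact p.Prime] (hS : IsPGroup p S) (hF : F.IsSaturated p)
  (hD : Dat S Z z₀ p) (hM : Mx S Z P)

include hS hF in
/-- If `c_g` fixes `h z₀` then `h` normalizes `⟨c_g⟩`. -/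
theorem powA (hPn : F.IsFullyNormalized P) {h : MulAut P} (hh : h ∈ F.autGroup P) {g : Ω} (hg : g ∈ S)
    (hgP : g ∉ P) (hfix : conjAut P (nrm hD hM hg) (h (zP hD hM)) = h (zP hD hM)) :
    ∃ n : ℤ, h * conjAut P (nrm hD hM hg) * h⁻¹ = conjAut P (nrm hD hM hg) ^ n := by
  have hPS := hM.PS
  have hfP : Finite P := finite_of_le hPS
  have hfM : Finite (MulAut P) := finite_mulAut P
  have hPp : IsPGroup p P := hS.of_injective (Subgroup.inclusion hPS) (Subgroup.inclusion_injective hPS)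
  set a := conjAut P (nrm hD hM hg) with ha
  set z := zP hD hM with hz
  set w := h z with hw
  set b := h * a * h⁻¹ with hb
  have hcm : ∀ x y : P, x * y = y * x := fun x y => Subtype.ext (hM.ab x x.2 y y.2)
  have haF : a ∈ F.autGroup P := autInducedBy_le_autGroup F hPS (conjAut_mem_autInducedBy _ hg)
  have hbF : b ∈ F.autGroup P := Subgroup.mul_mem _ (Subgroup.mul_mem _ hh haF) (Subgroup.inv_mem _ hh)
  have haz : a z = z := cj_z hD hM hg
  -- the chain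
  let Pr : MulAut P → Prop := fun α => α w = w ∧ (∃ j : ℤ, α z = w ^ j * z) ∧ ∀ x, ∃ i j : ℤ, α x = z ^ i * w ^ j * x
  have hPa : Pr a := by
    refine ⟨hfix, ⟨0, by rw [haz]; simp⟩, fun x => ?_⟩
    obtain ⟨i, hi⟩ := cj_apply hD hM hg x
    exact ⟨i, 0, by rw [ha, hi]; simp [hz]⟩
  have hbx : ∀ x, ∃ j : ℤ, b x = w ^ j * x := by
    intro x
    obtain ⟨j, hj⟩ := cj_apply hD hM hg (h⁻¹ x)
    refine ⟨j, ?_⟩
    rw [hb, MulAut.mul_apply, MulAut.mul_apply, ha, hj, map_mul, map_zpow, MulAut.apply_inv_self]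
  have hPb : Pr b := by
    refine ⟨?_, hbx z, fun x => ?_⟩
    · rw [hb, MulAut.mul_apply, MulAut.mul_apply, hw, MulAut.inv_apply_self, haz]
    · obtain ⟨j, hj⟩ := hbx x
      exact ⟨0, j, by rw [hj]; simp⟩
  have hPmul : ∀ α β, Pr α → Pr β → Pr (α * β) := by
    rintro α β ⟨h1, ⟨j, h2⟩, h3⟩ ⟨h4, ⟨l, h5⟩, h6⟩
    refine ⟨by rw [MulAut.mul_apply, h4, h1], ⟨l + j, ?_⟩, fun x => ?_⟩
    · rw [MulAut.mul_apply, h5, map_mul, map_zpow, h1, h2, ← mul_assoc, ← zpow_add]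
    · obtain ⟨m, n, h7⟩ := h6 x
      obtain ⟨i, k, h8⟩ := h3 x
      refine ⟨m + i, j * m + n + k, ?_⟩
      have e : ∀ u v : P, Commute u v := hcm
      rw [MulAut.mul_apply, h7, map_mul, map_mul, map_zpow, map_zpow, h1, h2, h8, (e (w ^ j) z).mul_zpow]
      rw [← zpow_mul, zpow_add, zpow_add, zpow_add]
      calc w ^ (j * m) * z ^ m * w ^ n * (z ^ i * w ^ k * x)
          = w ^ (j * m) * z ^ m * (w ^ n * z ^ i) * w ^ k * x := by simp only [mul_assoc]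
        _ = z ^ m * w ^ (j * m) * (z ^ i * w ^ n) * w ^ k * x := by
            rw [(e (w ^ n) (z ^ i)).eq, (e (w ^ (j * m)) (z ^ m)).eq]
        _ = z ^ m * (w ^ (j * m) * z ^ i) * w ^ n * w ^ k * x := by simp only [mul_assoc]
        _ = z ^ m * (z ^ i * w ^ (j * m)) * w ^ n * w ^ k * x := by rw [(e (w ^ (j * m)) (z ^ i)).eq]
        _ = _ := by simp only [mul_assoc]
  have hPone : Pr 1 := ⟨rfl, ⟨0, by simp⟩, fun x => ⟨0, 0, by simp⟩⟩
  have hPpow : ∀ α, Pr α → ∀ n : ℕ, Pr (α ^ n) := by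
    intro α hα n
    induction n with
    | zero => rw [pow_zero]; exact hPone
    | succ n ih => rw [pow_succ]; exact hPmul _ _ ih hα
  have hPinv : ∀ α, Pr α → Pr α⁻¹ := by
    intro α hα
    have h1 : α⁻¹ = α ^ (orderOf α - 1) := by
      apply inv_eq_of_mul_eq_one_left
      rw [← pow_succ, Nat.sub_add_cancel (orderOf_pos α), pow_orderOf_eq_one]
    rw [h1]
    exact hPpow α hα _
  let A : Subgroup (MulAut P) :=
    { carrier := {α | α ∈ F.autGroup P ∧ Pr α}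
      mul_mem' := fun h1 h2 => ⟨Subgroup.mul_mem _ h1.1 h2.1, hPmul _ _ h1.2 h2.2⟩
      one_mem' := ⟨Subgroup.one_mem _, hPone⟩
      inv_mem' := fun h1 => ⟨Subgroup.inv_mem _ h1.1, hPinv _ h1.2⟩ }
  have hAp : IsPGroup p A := by
    apply isPGroup_of_coprime
    rintro ⟨α, hαF, h1, ⟨j, h2⟩, h3⟩ hc
    replace hc : (orderOf α).Coprime p := by
      rw [← Subgroup.orderOf_coe] at hc
      exact hc
    apply Subtype.ext
    show α = 1
    have h4 : α z = z := by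
      apply coprime_fix hPp hc
      rw [h2]
      have : z⁻¹ * (w ^ j * z) = w ^ j := by rw [hcm (w ^ j) z, inv_mul_cancel_left]
      rw [this, map_zpow, h1]
    ext x
    rw [MulAut.one_apply]
    congr 1
    apply coprime_fix hPp hc
    obtain ⟨i, k, h5⟩ := h3 x
    rw [h5]
    have : x⁻¹ * (z ^ i * w ^ k * x) = z ^ i * w ^ k := by rw [hcm (z ^ i * w ^ k) x, inv_mul_cancel_left]
    rw [this, map_mul, map_zpow, map_zpow, h4, h1]
  obtain ⟨k, hk, hkA⟩ := fullyAutomized_conj_le (fullyNormalized_spec hS hF hPn).2 (A := A) (fun α hα => (show α ∈ F.autGroup P ∧ Pr α from hα).1) hAp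
  have hka := hkA a ⟨haF, hPa⟩
  have hkb := hkA b ⟨hbF, hPb⟩
  obtain ⟨s, hsN, hsS, hs⟩ := mem_autInducedBy'.1 hka
  obtain ⟨t, htN, htS, ht⟩ := mem_autInducedBy'.1 hkb
  have hsP : s ∉ P := by
    intro hsP
    have h1 : conjAut P hsN = 1 := cj_one hD hM hsS hsP
    rw [h1] at hs
    have h2 : a = 1 := by
      have : a = k⁻¹ * (k * a * k⁻¹) * k := by group
      rw [this, hs]; group
    obtain ⟨x, hx, hxZ⟩ := hM.mv
    apply hxZ
    apply hM.cn g hg hgP x hx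
    have h3 : a ⟨x, hx⟩ = ⟨x, hx⟩ := by rw [h2]; rfl
    have h4 : g * x * g⁻¹ = x := congrArg Subtype.val h3
    calc g * x = g * x * g⁻¹ * g := by group
      _ = x * g := by rw [h4]
  obtain ⟨n, hn⟩ := cj_gen hD hM hsS hsP htS
  refine ⟨n, ?_⟩
  have h5 : k * b * k⁻¹ = (k * a * k⁻¹) ^ n := by
    rw [hs, ht]
    exact hn
  have h6 : (k * a * k⁻¹) ^ n = k * a ^ n * k⁻¹ := by
    rw [conj_zpow]
  rw [h6] at h5
  exact mul_left_cancel (mul_right_cancel h5)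

include hS hF in
/-- Some `h ∈ Aut_F(P)` moves `z₀` to an element not commuting with `g`. -/
theorem exists_mv (hPn : F.IsFullyNormalized P) (hPc : F.IsCentric P) (hPr : F.IsRadical p P) {g : Ω}
    (hg : g ∈ S) (hgP : g ∉ P) :
    ∃ h ∈ F.autGroup P, conjAut P (nrm hD hM hg) (h (zP hD hM)) ≠ h (zP hD hM) := by
  by_contra hcon
  push Not at hcon
  apply hgP
  have haF : conjAut P (nrm hD hM hg) ∈ F.autGroup P :=
    autInducedBy_le_autGroup F hM.PS (conjAut_mem_autInducedBy _ hg)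
  refine Meta2Fus.mem_of_radical hPc hPr (Subgroup.zpowers (conjAut P (nrm hD hM hg))) ?_ ?_ ?_ hg (nrm hD hM hg)
    (Subgroup.mem_zpowers _)
  · rw [Subgroup.zpowers_le]
    exact haF
  · rintro α hα _ ⟨n, rfl⟩
    obtain ⟨m, hm⟩ := powA hS hF hD hM hPn hα hg hgP (hcon α hα)
    refine ⟨m * n, ?_⟩
    show _ ^ (m * n) = α * _ ^ n * α⁻¹
    rw [← conj_zpow, hm, zpow_mul]
  · rintro ⟨_, n, rfl⟩
    refine ⟨1, Subtype.ext ?_⟩
    show (_ ^ n) ^ p ^ 1 = 1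
    rw [pow_one, ← zpow_natCast, ← zpow_mul, mul_comm, zpow_mul, zpow_natCast, cj_p hD hM hg, one_zpow]

end

end H89.CenIdx
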