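import Cfsg.Agent.Lib.H89.CenIdx2

/-! S5265: the structure of an essential subgroup. -/

set_option autoImplicit false
set_option linter.unusedSectionVars false
open scoped commutatorElement
open Cfsg Cfsg.FusionSystem H86.FusBasic H86.FusSat H86.FusAlperin H89.Normal H89.Normal2

namespace H89.CenIdx

variable {Ω : Type*} [Group Ω] {S : Subgroup Ω} {F : FusionSystem S} {p : ℕ} {P Z : Subgroup Ω} {z₀ : Ω}

/-- `P = ⟨z₀, v⟩ × C` with `C ≤ Z`, everything invariant under `Aut_F(P)`. -/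
structure Ess (F : FusionSystem S) (P Z C : Subgroup Ω) (z₀ v : Ω) (p : ℕ) : Prop where
  CZ : C ≤ Z
  vP : v ∈ P
  vp : v ^ p = 1
  vZ : v ∉ Z
  inv : ∀ α ∈ F.autGroup P, ∀ x : P, (x : Ω) ∈ C → ((α x : P) : Ω) ∈ C
  dec : ∀ x ∈ P, ∃ c ∈ C, ∃ i j : ℤ, x = c * (z₀ ^ i * v ^ j)
  indep : ∀ c ∈ C, ∀ i j : ℤ, c = z₀ ^ i * v ^ j → c = 1
  vinv : ∀ α ∈ F.autGroup P, ∀ x : P, (∃ i j : ℤ, (x : Ω) = z₀ ^ i * v ^ j) →
    ∃ i j : ℤ, ((α x : P) : Ω) = z₀ ^ i * v ^ j
  ext : ∀ α ∈ F.autGroup P, ∃ ψ ∈ F.autGroup S, ∀ (c : P) (s : S), (c : Ω) ∈ C → (s : Ω) = c →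
    ((ψ s : S) : Ω) = ((α c : P) : Ω)
  neg : ∃ ψ ∈ F.autGroup S, (∀ s : S, (s : Ω) = z₀ → ((ψ s : S) : Ω) = z₀⁻¹) ∧
    (∀ s : S, (s : Ω) ∈ C → ψ s = s)

section
variable [Finite S] [hp : Fact p.Prime] (hS : IsPGroup p S) (hF : F.IsSaturated p)
  (hD : Dat S Z z₀ p) (hM : Mx S Z P)

include hS hF hD hM in
theorem exists_ess (hPn : F.IsFullyNormalized P) (hPc : F.IsCentric P) (hPr : F.IsRadical p P) :
    ∃ (C : Subgroup Ω) (v : Ω), Ess F P Z C z₀ v p := by
  have hPS := hM.PS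
  have hfP : Finite P := finite_of_le hPS
  have hfM : Finite (MulAut P) := finite_mulAut P
  have hcm : ∀ x y : P, x * y = y * x := fun x y => Subtype.ext (hM.ab x x.2 y y.2)
  have e2 : ∀ u v : P, Commute u v := hcm
  obtain ⟨g₀, hg₀, hg₀P⟩ := hM.ex
  obtain ⟨h, hh, hmv⟩ := exists_mv hS hF hD hM hPn hPc hPr hg₀ hg₀P
  set z := zP hD hM with hz
  have hzp : z ^ p = 1 := zP_p hD hM
  have hz1 : z ≠ 1 := zP_1 hD hM
  have hcjF : ∀ g (hg : g ∈ S), conjAut P (nrm hD hM hg) ∈ F.autGroup P := fun g hg =>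
    autInducedBy_le_autGroup F hPS (conjAut_mem_autInducedBy _ hg)
  -- `g₀` moves `h⁻¹ z`
  have hmv' : conjAut P (nrm hD hM hg₀) (h⁻¹ z) ≠ h⁻¹ z := by
    intro hfix
    obtain ⟨n, hn⟩ := powA hS hF hD hM hPn (Subgroup.inv_mem _ hh) hg₀ hg₀P hfix
    apply hmv
    rw [inv_inv] at hn
    have h1 : conjAut P (nrm hD hM hg₀) = h * conjAut P (nrm hD hM hg₀) ^ n * h⁻¹ := by
      rw [← hn]; group
    rw [h1, MulAut.mul_apply, MulAut.mul_apply, MulAut.inv_apply_self]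
    have h2 : (conjAut P (nrm hD hM hg₀) ^ n) z = z := by
      rw [← cj_zpow hD hM hg₀ n]
      exact cj_z hD hM (S.zpow_mem hg₀ n)
    rw [h2]
  set z' := h z with hz'
  set z'' := h⁻¹ z with hz''
  have hex : ∀ d : P, conjAut P (nrm hD hM hg₀) d ≠ d → ∀ m : ℤ, ∃ (g : Ω) (hg : g ∈ S),
      conjAut P (nrm hD hM hg) d = z ^ m * d := by
    intro d hd m
    obtain ⟨n, hn⟩ := cj_apply hD hM hg₀ d
    rw [← hz] at hn
    have h1 : z ^ n ≠ 1 := by
      intro h1
      rw [h1, one_mul] at hn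
      exact hd hn
    obtain ⟨k, hk⟩ := zpow_gen hzp rfl h1
    refine ⟨g₀ ^ (k * m), S.zpow_mem hg₀ _, ?_⟩
    rw [cj_zpow hD hM hg₀]
    have h2 : ∀ j : ℕ, (conjAut P (nrm hD hM hg₀) ^ j) d = (z ^ n) ^ j * d := by
      intro j
      induction j with
      | zero => simp
      | succ j ih =>
        rw [pow_succ', MulAut.mul_apply, ih, map_mul, map_pow, map_zpow, hn, cj_z hD hM hg₀, ← hz, pow_succ, mul_assoc]
    have h3 : ∀ j : ℤ, (conjAut P (nrm hD hM hg₀) ^ j) d = (z ^ n) ^ j * d := by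
      intro j
      rcases Int.eq_nat_or_neg j with ⟨i, rfl | rfl⟩
      · rw [zpow_natCast, zpow_natCast, h2]
      · apply (conjAut P (nrm hD hM hg₀) ^ i).injective
        rw [zpow_neg, zpow_natCast, MulAut.apply_inv_self, zpow_neg, zpow_natCast, map_mul, h2]
        have h4 : (conjAut P (nrm hD hM hg₀) ^ i) ((z ^ n) ^ i)⁻¹ = ((z ^ n) ^ i)⁻¹ := by
          rw [map_inv, map_pow, map_zpow]
          have : (conjAut P (nrm hD hM hg₀) ^ i) z = z := by
            rw [← zpow_natCast, ← cj_zpow hD hM hg₀]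
            exact cj_z hD hM (S.zpow_mem hg₀ _)
          rw [this]
        rw [h4, inv_mul_cancel_left]
    rw [h3, zpow_mul, ← hk]
  obtain ⟨g, hg, hgz'⟩ := hex z' hmv 1
  obtain ⟨g₁, hg₁, hg₁z''⟩ := hex z'' hmv' (-1)
  rw [zpow_one] at hgz'
  rw [zpow_neg_one] at hg₁z''
  set a := conjAut P (nrm hD hM hg) with ha
  set a₁ := conjAut P (nrm hD hM hg₁) with ha₁
  set b := h * a₁ * h⁻¹ with hb
  have haF : a ∈ F.autGroup P := hcjF g hg
  have ha₁F : a₁ ∈ F.autGroup P := hcjF g₁ hg₁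
  have hbF : b ∈ F.autGroup P := Subgroup.mul_mem _ (Subgroup.mul_mem _ hh ha₁F) (Subgroup.inv_mem _ hh)
  have hcz : ∀ x (hx : x ∈ S), conjAut P (nrm hD hM hx) z = z := fun x hx => cj_z hD hM hx
  have haz : a z = z := hcz g hg
  have haz' : a z' = z * z' := hgz'
  have hbz' : b z' = z' := by
    rw [hb, MulAut.mul_apply, MulAut.mul_apply, hz', MulAut.inv_apply_self, hcz g₁ hg₁]
  have hbz : b z = z'⁻¹ * z := by
    rw [hb, MulAut.mul_apply, MulAut.mul_apply, ← hz'', hg₁z'', map_mul, map_inv, hz'', MulAut.apply_inv_self]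
  have hconj : ∀ x (hx : x ∈ S) (d : P), ∃ i : ℤ, conjAut P (nrm hD hM hx) d = z ^ i * d :=
    fun x hx d => cj_apply hD hM hx d
  have hbx : ∀ x : P, ∃ j : ℤ, b x = z' ^ j * x := by
    intro x
    obtain ⟨j, hj⟩ := hconj g₁ hg₁ (h⁻¹ x)
    refine ⟨j, ?_⟩
    rw [hb, MulAut.mul_apply, MulAut.mul_apply, ha₁, hj, map_mul, map_zpow, MulAut.apply_inv_self]
  have hgP : g ∉ P := by
    intro hgP
    have h1 := cj_one hD hM hg hgP
    rw [← ha] at h1
    rw [h1, MulAut.one_apply] at haz'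
    exact hz1 (mul_eq_right.1 haz'.symm)
  have hg₁P : g₁ ∉ P := by
    intro hgP
    have h1 := cj_one hD hM hg₁ hgP
    rw [← ha₁] at h1
    rw [h1, MulAut.one_apply] at hg₁z''
    exact hz1 (inv_eq_one.1 (mul_eq_right.1 hg₁z''.symm))
  -- decomposition of `P`
  have hdec : ∀ x : P, ∃ (c : P) (i j : ℤ), a c = c ∧ b c = c ∧ x = c * (z ^ i * z' ^ j) := by
    intro x
    obtain ⟨i, hi⟩ := hconj g hg x
    obtain ⟨j, hj⟩ := hbx x
    have hi' : a x = z ^ i * x := hi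
    refine ⟨x * (z' ^ (-i) * z ^ j), -j, i, ?_, ?_, ?_⟩
    · rw [map_mul, map_mul, map_zpow, map_zpow, hi', haz, haz', (e2 z z').mul_zpow]
      calc z ^ i * x * (z ^ (-i) * z' ^ (-i) * z ^ j) = (x * z ^ i) * (z ^ (-i) * z' ^ (-i) * z ^ j) := by
            rw [(e2 x (z ^ i)).eq]
        _ = _ := by group
    · rw [map_mul, map_mul, map_zpow, map_zpow, hj, hbz, hbz', (e2 z'⁻¹ z).mul_zpow]
      calc z' ^ j * x * (z' ^ (-i) * (z'⁻¹ ^ j * z ^ j)) = (x * z' ^ j) * (z' ^ (-i) * (z'⁻¹ ^ j * z ^ j)) := by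
            rw [(e2 x (z' ^ j)).eq]
        _ = x * (z' ^ j * z' ^ (-i) * z'⁻¹ ^ j * z ^ j) := by group
        _ = x * (z' ^ (-i) * z' ^ j * z'⁻¹ ^ j * z ^ j) := by rw [(e2 (z' ^ j) (z' ^ (-i))).eq]
        _ = _ := by rw [inv_zpow]; group
    · calc x = x * (z' ^ (-i) * (z ^ j * z ^ (-j)) * z' ^ i) := by group
        _ = _ := by group
  have hfixZ : ∀ c : P, a c = c → (c : Ω) ∈ Z := by
    intro c hc
    apply hM.cn g hg hgP c c.2
    have h1 : g * (c : Ω) * g⁻¹ = c := congrArg Subtype.val hc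
    calc g * (c : Ω) = g * (c : Ω) * g⁻¹ * g := by group
      _ = c * g := by rw [h1]
  have hz'p : z' ^ p = 1 := by rw [hz', ← map_pow, hzp, map_one]
  have hz'1 : z' ≠ 1 := by
    intro h1
    rw [h1, map_one, mul_one] at haz'
    exact hz1 haz'.symm
  -- the element `n`
  set n₀ := a * b * a with hn₀
  have hn₀F : n₀ ∈ F.autGroup P := Subgroup.mul_mem _ (Subgroup.mul_mem _ haF hbF) haF
  have hn₀z : n₀ z = z'⁻¹ := by
    rw [hn₀, MulAut.mul_apply, MulAut.mul_apply, haz, hbz, map_mul, map_inv, haz, haz', mul_inv_rev, mul_assoc,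
      inv_mul_cancel, mul_one]
  have hn₀z' : n₀ z' = z := by
    rw [hn₀, MulAut.mul_apply, MulAut.mul_apply, haz', map_mul, hbz, hbz', (e2 z'⁻¹ z).eq, inv_mul_cancel_right, haz]
  have hn₀c : ∀ c : P, a c = c → b c = c → n₀ c = c := by
    intro c hac hbc
    rw [hn₀, MulAut.mul_apply, MulAut.mul_apply, hac, hbc, hac]
  have hzpow_fix : ∀ (α : MulAut P) (c : P), α c = c → ∀ m : ℤ, (α ^ m) c = c := by
    intro α c hc m
    have h1 : ∀ k : ℕ, (α ^ k) c = c := by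
      intro k
      induction k with
      | zero => simp
      | succ k ih => rw [pow_succ, MulAut.mul_apply, hc, ih]
    rcases Int.eq_nat_or_neg m with ⟨k, rfl | rfl⟩
    · rw [zpow_natCast, h1]
    · rw [zpow_neg, zpow_natCast]
      apply (α ^ k).injective
      rw [MulAut.apply_inv_self, h1]
  -- conjugates
  have hL : ∀ k ∈ F.autGroup P, ∀ s (hs : s ∈ S), s ∉ P → ∃ l ∈ F.autGroup P,
      (∀ c, a c = c → b c = c → l c = c) ∧ (∃ i j : ℤ, l z = z ^ i * z' ^ j) ∧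
      ∃ m : ℤ, k * conjAut P (nrm hD hM hs) * k⁻¹ = l * (conjAut P (nrm hD hM hs)) ^ m * l⁻¹ := by
    intro k hk s hs hsP
    set cs := conjAut P (nrm hD hM hs) with hcs
    set w := k z with hw
    have hwp : w ^ p = 1 := by rw [hw, ← map_pow, hzp, map_one]
    have hwfix : ∀ x, ∃ j : ℤ, (k * cs * k⁻¹) x = w ^ j * x := by
      intro x
      obtain ⟨j, hj⟩ := hconj s hs (k⁻¹ x)
      refine ⟨j, ?_⟩
      rw [MulAut.mul_apply, MulAut.mul_apply, hcs, hj, map_mul, map_zpow, MulAut.apply_inv_self]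
    obtain ⟨i, hi⟩ := hwfix z
    obtain ⟨j, hj⟩ := hwfix z'
    have hl : ∃ l ∈ F.autGroup P, (∀ c, a c = c → b c = c → l c = c) ∧ (∃ i j : ℤ, l z = z ^ i * z' ^ j) ∧
        (k * cs * k⁻¹) (l z) = l z := by
      by_cases hpi : (p : ℤ) ∣ i
      · refine ⟨1, Subgroup.one_mem _, fun c _ _ => rfl, ⟨1, 0, by simp⟩, ?_⟩
        rw [MulAut.one_apply, hi]
        obtain ⟨i', rfl⟩ := hpi
        rw [zpow_mul, zpow_natCast, hwp, one_zpow, one_mul]
      · have h2 : IsCoprime (p : ℤ) i := (Prime.coprime_iff_not_dvd (Nat.prime_iff_prime_int.1 hp.1)).2 hpi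
        obtain ⟨u, v, huv⟩ := h2
        -- `i * (-v*j) + j = p * u * j`
        set m : ℤ := -v * j with hm
        refine ⟨a ^ m * n₀⁻¹, Subgroup.mul_mem _ (Subgroup.zpow_mem _ haF m) (Subgroup.inv_mem _ hn₀F),
          ?_, ?_, ?_⟩
        · intro c hac hbc
          have h3 : n₀⁻¹ c = c := by
            apply n₀.injective
            rw [MulAut.apply_inv_self, hn₀c c hac hbc]
          rw [MulAut.mul_apply, h3, hzpow_fix a c hac]
        all_goals
          have h3 : n₀⁻¹ z = z' := by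
            apply n₀.injective
            rw [MulAut.apply_inv_self, hn₀z']
          have h4 : ∀ q : ℕ, (a ^ q) z' = z ^ q * z' := by
            intro q
            induction q with
            | zero => simp
            | succ q ih => rw [pow_succ', MulAut.mul_apply, ih, map_mul, map_pow, haz, haz', pow_succ, mul_assoc]
          have h5 : ∀ q : ℤ, (a ^ q) z' = z ^ q * z' := by
            intro q
            rcases Int.eq_nat_or_neg q with ⟨r, rfl | rfl⟩
            · rw [zpow_natCast, zpow_natCast, h4]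
            · apply (a ^ r).injective
              rw [zpow_neg, zpow_natCast, MulAut.apply_inv_self, zpow_neg, zpow_natCast, map_mul, h4, map_inv, map_pow]
              have : (a ^ r) z = z := by
                have := hzpow_fix a z haz r
                rwa [zpow_natCast] at this
              rw [this, inv_mul_cancel_left]
          have h6 : (a ^ m * n₀⁻¹) z = z ^ m * z' := by rw [MulAut.mul_apply, h3, h5]
        · exact ⟨m, 1, by rw [h6, zpow_one]⟩
        · rw [h6, map_mul, map_zpow, hi, hj, (e2 (w ^ i) z).mul_zpow, ← zpow_mul]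
          have h7 : w ^ (i * m) * z ^ m * (w ^ j * z') = w ^ (i * m + j) * (z ^ m * z') := by
            rw [zpow_add]
            calc w ^ (i * m) * z ^ m * (w ^ j * z') = w ^ (i * m) * (z ^ m * w ^ j) * z' := by simp only [mul_assoc]
              _ = w ^ (i * m) * (w ^ j * z ^ m) * z' := by rw [(e2 (z ^ m) (w ^ j)).eq]
              _ = _ := by simp only [mul_assoc]
          rw [h7]
          have h8 : i * m + j = (p : ℤ) * (u * j) := by
            rw [hm]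
            have : v * i = 1 - u * p := by linarith
            calc i * (-v * j) + j = - (v * i) * j + j := by ring
              _ = _ := by rw [this]; ring
          rw [h8, zpow_mul, zpow_natCast, hwp, one_zpow, one_mul]
    obtain ⟨l, hlF, hlc, hlz, hlfix⟩ := hl
    refine ⟨l, hlF, hlc, hlz, ?_⟩
    have h1 : cs ((k⁻¹ * l) z) = (k⁻¹ * l) z := by
      apply k.injective
      rw [MulAut.mul_apply, MulAut.apply_inv_self]
      rw [MulAut.mul_apply, MulAut.mul_apply] at hlfix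
      exact hlfix
    obtain ⟨n, hn⟩ := powA hS hF hD hM hPn (Subgroup.mul_mem _ (Subgroup.inv_mem _ hk) hlF) hs hsP h1
    rw [← hcs] at hn
    -- `k c_s ^ n k⁻¹ = l c_s l⁻¹`
    have h2 : k * cs ^ n * k⁻¹ = l * cs * l⁻¹ := by
      rw [← hn]; group
    have hcs1 : cs ≠ 1 := by
      intro h3
      obtain ⟨x, hx, hxZ⟩ := hM.mv
      apply hxZ
      apply hM.cn s hs hsP x hx
      have h3' : cs ⟨x, hx⟩ = ⟨x, hx⟩ := by rw [h3]; rfl
      have h4 : s * x * s⁻¹ = x := congrArg Subtype.val h3'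
      calc s * x = s * x * s⁻¹ * s := by group
        _ = x * s := by rw [h4]
    have h3 : cs ^ n ≠ 1 := by
      intro h3
      rw [h3] at h2
      apply hcs1
      have : cs = l⁻¹ * (l * cs * l⁻¹) * l := by group
      rw [this, ← h2]; group
    obtain ⟨m, hm⟩ := zpow_gen (cj_p hD hM hs) rfl h3
    refine ⟨m, ?_⟩
    have h4 : l * cs ^ m * l⁻¹ = (l * cs * l⁻¹) ^ m := by rw [conj_zpow]
    rw [h4, ← h2, conj_zpow, ← hm]
  -- conjugates fix the common fixed points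
  have hfix : ∀ k ∈ F.autGroup P, ∀ s (hs : s ∈ S), ∀ c, a c = c → b c = c →
      (k * conjAut P (nrm hD hM hs) * k⁻¹) c = c := by
    intro k hk s hs c hac hbc
    by_cases hsP : s ∈ P
    · rw [cj_one hD hM hs hsP]
      simp
    · obtain ⟨l, hlF, hlc, -, m, hm⟩ := hL k hk s hs hsP
      have h1 : l⁻¹ c = c := by
        apply l.injective
        rw [MulAut.apply_inv_self, hlc c hac hbc]
      rw [hm, MulAut.mul_apply, MulAut.mul_apply, h1, hzpow_fix _ c (cj_fix hD hM hs (hfixZ c hac)), hlc c hac hbc]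
  let C₀ : Subgroup P :=
    { carrier := {c | a c = c ∧ b c = c}
      mul_mem' := by
        rintro c d ⟨h1, h2⟩ ⟨h3, h4⟩
        exact ⟨by rw [map_mul, h1, h3], by rw [map_mul, h2, h4]⟩
      one_mem' := ⟨map_one _, map_one _⟩
      inv_mem' := by
        rintro c ⟨h1, h2⟩
        exact ⟨by rw [map_inv, h1], by rw [map_inv, h2]⟩ }
  have hmemC : ∀ c, c ∈ C₀.map P.subtype → ∃ hc : c ∈ P, a ⟨c, hc⟩ = ⟨c, hc⟩ ∧ b ⟨c, hc⟩ = ⟨c, hc⟩ := by
    rintro _ ⟨c, hc, rfl⟩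
    exact ⟨c.2, hc⟩
  have hzz' : ∀ i j : ℤ, ((z ^ i * z' ^ j : P) : Ω) = z₀ ^ i * (z' : Ω) ^ j := fun i j => rfl
  -- invariance of `V`
  have hVz : ∀ α ∈ F.autGroup P, ∃ i j : ℤ, α z = z ^ i * z' ^ j := by
    intro α hα
    obtain ⟨l, hlF, -, ⟨i, j, hlz⟩, m, hm⟩ := hL α hα g hg hgP
    have h1 : z = a z' * z'⁻¹ := by rw [haz']; group
    have h2 : α z = (α * a * α⁻¹) (α z') * (α z')⁻¹ := by
      rw [MulAut.mul_apply, MulAut.mul_apply, MulAut.inv_apply_self, ← map_inv, ← map_mul, ← h1]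
    rw [h2, hm, MulAut.mul_apply, MulAut.mul_apply, ← cj_zpow hD hM hg m]
    obtain ⟨q, hq⟩ := hconj (g ^ m) (S.zpow_mem hg m) (l⁻¹ (α z'))
    rw [hq, map_mul, MulAut.apply_inv_self, mul_inv_cancel_right, map_zpow, hlz, (e2 _ _).mul_zpow, ← zpow_mul,
      ← zpow_mul]
    exact ⟨_, _, rfl⟩
  have hV : ∀ α ∈ F.autGroup P, ∀ i j : ℤ, ∃ i' j' : ℤ, α (z ^ i * z' ^ j) = z ^ i' * z' ^ j' := by
    intro α hα i j
    obtain ⟨i₁, j₁, h1⟩ := hVz α hα
    obtain ⟨i₂, j₂, h2⟩ := hVz (α * h) (Subgroup.mul_mem _ hα hh)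
    rw [MulAut.mul_apply, ← hz'] at h2
    refine ⟨i₁ * i + i₂ * j, j₁ * i + j₂ * j, ?_⟩
    rw [map_mul, map_zpow, map_zpow, h1, h2, (e2 _ _).mul_zpow, (e2 _ _).mul_zpow, ← zpow_mul, ← zpow_mul,
      ← zpow_mul, ← zpow_mul, zpow_add, zpow_add]
    calc z ^ (i₁ * i) * z' ^ (j₁ * i) * (z ^ (i₂ * j) * z' ^ (j₂ * j))
        = z ^ (i₁ * i) * (z' ^ (j₁ * i) * z ^ (i₂ * j)) * z' ^ (j₂ * j) := by simp only [mul_assoc]
      _ = z ^ (i₁ * i) * (z ^ (i₂ * j) * z' ^ (j₁ * i)) * z' ^ (j₂ * j) := by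
          rw [(e2 (z' ^ (j₁ * i)) (z ^ (i₂ * j))).eq]
      _ = _ := by simp only [mul_assoc]
  -- extension to `S`
  have hextend : ∀ t ∈ F.autGroup P, (∀ s (hs : s ∈ S), t * conjAut P (nrm hD hM hs) * t⁻¹ ∈ autInducedBy S P) →
      ∃ ψ ∈ F.autGroup S, ∀ (x : P) (s : S), (s : Ω) = x → ((ψ s : S) : Ω) = ((t x : P) : Ω) := by
    intro t ht hts
    obtain ⟨ψ, hψ, hψx⟩ := receptive_extend' (receptive_of_fullyNormalized hS hF hPn) ((mem_autGroup F hPS).1 ht)
      hPS le_rfl (fun x hx => nrm hD hM hx) (fun x hx => hts x hx)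
    have hψS : ∀ x, ψ x ∈ S := fun x => apply_mem F hψ x
    have hψi : Function.Injective ψ := F.injective_of_mem hψ
    let f : S →* S := ψ.codRestrict S hψS
    have hfi : Function.Injective f := by
      intro x y hxy
      exact hψi (congrArg Subtype.val hxy)
    refine ⟨MulEquiv.ofBijective f (Finite.injective_iff_bijective.1 hfi), ?_, ?_⟩
    · rw [mem_autGroup F le_rfl]
      refine mem_of_agree F hψ le_rfl fun x hx => rfl
    · rintro x s hsx
      have h1 : s = ⟨x, hPS x.2⟩ := Subtype.ext hsx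
      rw [h1]
      exact hψx x
  refine ⟨C₀.map P.subtype, (z' : Ω), ?_, z'.2, congrArg Subtype.val hz'p, ?_, ?_, ?_, ?_, ?_, ?_, ?_⟩
  · intro c hc
    obtain ⟨hcP, hac, -⟩ := hmemC c hc
    exact hfixZ _ hac
  · intro hz'Z
    have h1 : a z' = z' := cj_fix hD hM hg hz'Z
    rw [h1] at haz'
    exact hz1 (mul_eq_right.1 haz'.symm)
  · intro α hα x hx
    obtain ⟨hxP, hax, hbx'⟩ := hmemC _ hx
    refine ⟨α x, ⟨?_, ?_⟩, rfl⟩
    · have h1 := hfix α⁻¹ (Subgroup.inv_mem _ hα) g hg x hax hbx'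
      rw [inv_inv, MulAut.mul_apply, MulAut.mul_apply] at h1
      apply α⁻¹.injective
      rw [MulAut.inv_apply_self]
      exact h1
    · have h1 := hfix (α⁻¹ * h) (Subgroup.mul_mem _ (Subgroup.inv_mem _ hα) hh) g₁ hg₁ x hax hbx'
      apply α⁻¹.injective
      rw [MulAut.inv_apply_self]
      have h2 : α⁻¹ * h * conjAut P (nrm hD hM hg₁) * (α⁻¹ * h)⁻¹ = α⁻¹ * b * α := by
        rw [hb, ha₁]; group
      rw [h2, MulAut.mul_apply, MulAut.mul_apply] at h1
      exact h1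
  · intro x hx
    obtain ⟨c, i, j, hac, hbc, hx'⟩ := hdec ⟨x, hx⟩
    exact ⟨c, ⟨c, ⟨hac, hbc⟩, rfl⟩, i, j, congrArg Subtype.val hx'⟩
  · intro c hc i j hcij
    obtain ⟨hcD, hac, hbc⟩ := hmemC c hc
    have h1 : (⟨c, hcD⟩ : P) = z ^ i * z' ^ j := Subtype.ext hcij
    rw [h1] at hac hbc
    have h2 : z ^ j = 1 := by
      rw [map_mul, map_zpow, map_zpow, haz, haz', (e2 z z').mul_zpow] at hac
      have h3 := mul_left_cancel hac
      exact mul_eq_right.1 h3
    have h3 : z' ^ j = 1 := by rw [hz', ← map_zpow, h2, map_one]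
    have h4 : z' ^ i = 1 := by
      rw [map_mul, map_zpow, map_zpow, hbz, hbz', (e2 z'⁻¹ z).mul_zpow] at hbc
      have h5 := mul_right_cancel hbc
      have h6 := mul_eq_right.1 h5
      rwa [inv_zpow, inv_eq_one] at h6
    have h5 : z ^ i = 1 := by
      apply h.injective
      rw [map_zpow, ← hz', h4, map_one]
    have h6 : (⟨c, hcD⟩ : P) = 1 := by rw [h1, h5, h3, one_mul]
    exact congrArg Subtype.val h6
  · rintro α hα x ⟨i, j, hx⟩
    have h1 : x = z ^ i * z' ^ j := Subtype.ext hx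
    obtain ⟨i', j', h2⟩ := hV α hα i j
    rw [← h1] at h2
    exact ⟨i', j', congrArg Subtype.val h2⟩
  · intro α hα
    obtain ⟨l, hlF, hlc, -, m, hm⟩ := hL α hα g hg hgP
    obtain ⟨ψ, hψ, hψx⟩ := hextend (l⁻¹ * α) (Subgroup.mul_mem _ (Subgroup.inv_mem _ hlF) hα) (by
      intro s hs
      obtain ⟨n, hn⟩ := cj_gen hD hM hg hgP hs
      have h1 : l⁻¹ * α * conjAut P (nrm hD hM hs) * (l⁻¹ * α)⁻¹ = (conjAut P (nrm hD hM hg)) ^ (m * n) := by
        rw [hn]
        have h2 : l⁻¹ * α * conjAut P (nrm hD hM hg) ^ n * (l⁻¹ * α)⁻¹ =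
            l⁻¹ * (α * conjAut P (nrm hD hM hg) * α⁻¹) ^ n * l := by
          rw [conj_zpow]; group
        rw [h2, hm, conj_zpow, ← zpow_mul]; group
      rw [h1, ← cj_zpow hD hM hg]
      exact conjAut_mem_autInducedBy _ (S.zpow_mem hg _))
    refine ⟨ψ, hψ, fun c s hc hsc => ?_⟩
    rw [hψx c s hsc]
    obtain ⟨hcP, hac, hbc⟩ := hmemC _ hc
    -- `α c` is fixed by `l`
    have h1 : a (α c) = α c := by
      have h1 := hfix α⁻¹ (Subgroup.inv_mem _ hα) g hg c hac hbc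
      rw [inv_inv, MulAut.mul_apply, MulAut.mul_apply] at h1
      apply α⁻¹.injective
      rw [MulAut.inv_apply_self]
      exact h1
    have h2 : b (α c) = α c := by
      have h1 := hfix (α⁻¹ * h) (Subgroup.mul_mem _ (Subgroup.inv_mem _ hα) hh) g₁ hg₁ c hac hbc
      apply α⁻¹.injective
      rw [MulAut.inv_apply_self]
      have h2 : α⁻¹ * h * conjAut P (nrm hD hM hg₁) * (α⁻¹ * h)⁻¹ = α⁻¹ * b * α := by
        rw [hb, ha₁]; group
      rw [h2, MulAut.mul_apply, MulAut.mul_apply] at h1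
      exact h1
    have h3 : l⁻¹ (α c) = α c := by
      apply l.injective
      rw [MulAut.apply_inv_self, hlc _ h1 h2]
    rw [MulAut.mul_apply, h3]
  · set t := n₀ ^ 2 with ht
    have htF : t ∈ F.autGroup P := Subgroup.pow_mem _ hn₀F 2
    have htz : t z = z⁻¹ := by
      rw [ht, pow_two, MulAut.mul_apply, hn₀z, map_inv, hn₀z']
    have htz' : t z' = z'⁻¹ := by
      rw [ht, pow_two, MulAut.mul_apply, hn₀z', hn₀z]
    have htc : ∀ c : P, a c = c → b c = c → t c = c := by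
      intro c hac hbc
      rw [ht, pow_two, MulAut.mul_apply, hn₀c c hac hbc, hn₀c c hac hbc]
    have htx : ∀ x (hx : x ∈ S), t * conjAut P (nrm hD hM hx) = conjAut P (nrm hD hM hx) * t := by
      intro x hx
      ext d
      obtain ⟨c, i, j, hac, hbc, rfl⟩ := hdec d
      obtain ⟨m, hm⟩ := hconj x hx z'
      have hcc : conjAut P (nrm hD hM hx) c = c := cj_fix hD hM hx (hfixZ c hac)
      congr 1
      rw [MulAut.mul_apply, MulAut.mul_apply]
      simp only [map_mul, map_zpow, hcc, hcz x hx, hm, htz, htz', htc c hac hbc, map_inv]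
      congr 3
      rw [mul_inv_rev, inv_zpow, (e2 _ _).eq]
    obtain ⟨ψ, hψ, hψx⟩ := hextend t htF (by
      intro s hs
      rw [htx s hs, mul_inv_cancel_right]
      exact conjAut_mem_autInducedBy _ hs)
    refine ⟨ψ, hψ, fun s hs => ?_, fun s hs => ?_⟩
    · rw [hψx z s hs, htz]
      rfl
    · obtain ⟨hcP, hac, hbc⟩ := hmemC _ hs
      apply Subtype.ext
      rw [hψx ⟨s, hcP⟩ s rfl, htc _ hac hbc]

end

end H89.CenIdx
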