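import Cfsg.Agent.Lib.H89.CenIdx3
import Cfsg.Agent.Lib.H89.Normal3

/-! S5265: the common complement. -/

set_option autoImplicit false
set_option linter.unusedSectionVars false
open scoped commutatorElement
open Cfsg Cfsg.FusionSystem H86.FusBasic H86.FusSat H86.FusAlperin H89.Normal H89.Normal2

namespace H89.CenIdx

variable {Ω : Type*} [Group Ω] {S : Subgroup Ω} {F : FusionSystem S} {p : ℕ} {Z : Subgroup Ω} {z₀ : Ω}

section
variable [Finite S] [hp : Fact p.Prime] (hS : IsPGroup p S) (hF : F.IsSaturated p) (hD : Dat S Z z₀ p)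

include hD in
theorem mapZ (φ : MulAut S) {x : S} (hx : (x : Ω) ∈ Z) : ((φ x : S) : Ω) ∈ Z := by
  refine hD.zc _ (φ x).2 fun s hs => ?_
  have h1 : φ.symm ⟨s, hs⟩ * x = x * φ.symm ⟨s, hs⟩ := Subtype.ext (hD.cen _ (φ.symm ⟨s, hs⟩).2 x hx)
  have h2 := congrArg φ h1
  rw [map_mul, map_mul, MulEquiv.apply_symm_apply] at h2
  exact congrArg Subtype.val h2

include hD in
theorem mapz0 (φ : MulAut S) : ∃ k : ℤ, ((φ ⟨z₀, hD.ZS hD.z0Z⟩ : S) : Ω) = z₀ ^ k := by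
  obtain ⟨x, hx, y, hy, hxy⟩ := hD.nc
  obtain ⟨n, hn⟩ := hD.comm x hx y hy
  have h1 : x * y * x⁻¹ * y⁻¹ ≠ 1 := by
    intro h
    apply hxy
    have : x * y = (x * y * x⁻¹ * y⁻¹) * (y * x) := by group
    rw [this, h, one_mul]
  obtain ⟨m, hm⟩ := zpow_gen hD.z0p hn h1
  have h2 : (⟨z₀, hD.ZS hD.z0Z⟩ : S) = ((⟨x, hx⟩ : S) * ⟨y, hy⟩ * (⟨x, hx⟩ : S)⁻¹ * (⟨y, hy⟩ : S)⁻¹) ^ m :=
    Subtype.ext hm
  obtain ⟨l, hl⟩ := hD.comm (φ ⟨x, hx⟩ : S) (φ ⟨x, hx⟩).2 (φ ⟨y, hy⟩ : S) (φ ⟨y, hy⟩).2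
  refine ⟨l * m, ?_⟩
  rw [h2, map_zpow, map_mul, map_mul, map_mul, map_inv, map_inv, zpow_mul, ← hl]
  rfl

include hS hF hD in
theorem pelt_fix {θ : MulAut S} (hθ : θ ∈ F.autGroup S) {k : ℕ} (hk : θ ^ p ^ k = 1) {x : S}
    (hx : (x : Ω) ∈ Z) : θ x = x := by
  have hA : Subgroup.zpowers θ ≤ F.autGroup S := by
    rw [Subgroup.zpowers_le]; exact hθ
  have hAp : IsPGroup p (Subgroup.zpowers θ) := by
    rintro ⟨_, n, rfl⟩
    refine ⟨k, Subtype.ext ?_⟩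
    show (θ ^ n) ^ p ^ k = 1
    rw [← zpow_natCast, ← zpow_mul, mul_comm, zpow_mul, zpow_natCast, hk, one_zpow]
  obtain ⟨l, hl, hlA⟩ := fullyAutomized_conj_le (fullyNormalized_spec hS hF (fullyNormalized_self F)).2 hA hAp
  obtain ⟨s, hs, hsx⟩ := H86.FusBasic.mem_autInducedBy.1 (hlA θ (Subgroup.mem_zpowers θ))
  have h1 : (l * θ * l⁻¹) (l x) = l x := by
    apply Subtype.ext
    rw [hsx, hD.cen s hs _ (mapZ hD l hx)]; group
  rw [MulAut.mul_apply, MulAut.mul_apply, MulAut.inv_apply_self] at h1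
  exact l.injective h1

include hS hF hD in
/-- An automorphism of the system on `S` trivial on `⟨z₀⟩` and on `Z / ⟨z₀⟩` is trivial on `Z`. -/
theorem agree {θ : MulAut S} (hθ : θ ∈ F.autGroup S) (h0 : θ ⟨z₀, hD.ZS hD.z0Z⟩ = ⟨z₀, hD.ZS hD.z0Z⟩)
    (h1 : ∀ x : S, (x : Ω) ∈ Z → ∃ n : ℤ, ((θ x : S) : Ω) = z₀ ^ n * x) {x : S} (hx : (x : Ω) ∈ Z) : θ x = x := by
  have hfM : Finite (MulAut S) := finite_mulAut S
  set z : S := ⟨z₀, hD.ZS hD.z0Z⟩ with hz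
  have hpow : ∀ y : S, (y : Ω) ∈ Z → (θ ^ p) y = y := by
    intro y hy
    obtain ⟨n, hn⟩ := h1 y hy
    have hn' : θ y = z ^ n * y := Subtype.ext hn
    have h2 : ∀ k : ℕ, (θ ^ k) y = (z ^ n) ^ k * y := by
      intro k
      induction k with
      | zero => simp
      | succ k ih => rw [pow_succ', MulAut.mul_apply, ih, map_mul, map_pow, map_zpow, h0, hn', pow_succ, mul_assoc]
    rw [h2]
    have h3 : (z ^ n) ^ p = 1 := by
      have h4 : z ^ p = 1 := Subtype.ext hD.z0p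
      rw [← zpow_natCast, ← zpow_mul, mul_comm, zpow_mul, zpow_natCast, h4, one_zpow]
    rw [h3, one_mul]
  obtain ⟨k, r, hr, hk⟩ := Nat.exists_eq_pow_mul_and_not_dvd (orderOf_pos θ).ne' p hp.out.ne_one
  have h2 : (θ ^ r) x = x := by
    refine pelt_fix hS hF hD (Subgroup.pow_mem _ hθ r) (k := k) ?_ hx
    rw [← pow_mul, mul_comm, ← hk, pow_orderOf_eq_one]
  have h3 := hpow x hx
  have hc : Nat.Coprime r p := ((Nat.Prime.coprime_iff_not_dvd hp.out).2 hr).symm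
  have h4 : Int.gcd (r : ℤ) p = 1 := by rwa [Int.gcd_natCast_natCast]
  obtain ⟨u, v, huv⟩ := (Int.isCoprime_iff_gcd_eq_one.2 h4)
  have hz : ∀ (α : MulAut S), α x = x → ∀ n : ℤ, (α ^ n) x = x := by
    intro α hα n
    have h1 : ∀ k : ℕ, (α ^ k) x = x := by
      intro k
      induction k with
      | zero => simp
      | succ k ih => rw [pow_succ, MulAut.mul_apply, hα, ih]
    rcases Int.eq_nat_or_neg n with ⟨k, rfl | rfl⟩
    · rw [zpow_natCast, h1]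
    · rw [zpow_neg, zpow_natCast]
      apply (α ^ k).injective
      rw [MulAut.apply_inv_self, h1]
  have h5 : θ = (θ ^ r) ^ u * (θ ^ p) ^ v := by
    rw [← zpow_natCast θ r, ← zpow_natCast θ p, ← zpow_mul, ← zpow_mul, ← zpow_add, mul_comm (r : ℤ) u,
      mul_comm (p : ℤ) v, huv, zpow_one]
  rw [h5, MulAut.mul_apply, hz _ h3, hz _ h2]

/-- Centric radical proper subgroups. -/
def CR (F : FusionSystem S) (p : ℕ) (P : Subgroup Ω) : Prop := P ≠ S ∧ F.IsCentric P ∧ F.IsRadical p P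

include hD in
theorem CR.mx {P : Subgroup Ω} (h : CR F p P) : Mx S Z P := by
  refine hD.mx h.2.1.1 h.1 fun g hg hgx => ?_
  refine h.2.1.2 P (isConj_refl F h.2.1.1) (mem_centralizerIn.2 ⟨hg, fun x hx => ?_⟩)
  first | exact hgx x hx | exact (hgx x hx).symm

include hD in
theorem CR.fn {P : Subgroup Ω} (h : CR F p P) : F.IsFullyNormalized P := by
  have hM := h.mx hD
  refine ⟨hM.PS, fun Q hQ => ?_⟩
  have h1 : normalizerIn S P = S := inf_eq_left.2 fun s hs => nrm hD hM hs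
  rw [h1]
  exact Nat.card_le_card_of_injective _ (Subgroup.inclusion_injective inf_le_left)

include hS hF hD in
theorem CR.ess {P : Subgroup Ω} (h : CR F p P) : ∃ (C : Subgroup Ω) (v : Ω), Ess F P Z C z₀ v p :=
  exists_ess hS hF hD (h.mx hD) (h.fn hD) h.2.1 h.2.2

theorem CR.of_essential {P : Subgroup Ω} (hS : IsPGroup p S) (h : F.IsEssential p P) (hne : P ≠ S) : CR F p P :=
  ⟨hne, h.1, radical_of_essential hS h⟩

include hS hF in
theorem exists_CR (hcore : F.core = ⊥) (hS1 : S ≠ ⊥) : ∃ P, CR F p P := by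
  by_contra hcon
  push Not at hcon
  apply hS1
  rw [eq_bot_iff, ← hcore]
  apply le_sSup
  refine isNormal_of_essential hS hF fun P hP => ?_
  have : P = S := by
    rcases hP with h | h
    · exact h
    · by_contra hne
      exact hcon P (CR.of_essential hS h hne)
  subst this
  exact ⟨le_rfl, fun α _ x _ => (α x).2⟩

include hS hF in
theorem normal_of (hcore : F.core = ⊥) {Q : Subgroup Ω} (h1 : Q ≤ S)
    (h2 : ∀ α ∈ F.autGroup S, ∀ x : S, (x : Ω) ∈ Q → ((α x : S) : Ω) ∈ Q)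
    (h3 : ∀ P, CR F p P → Q ≤ P ∧ ∀ α ∈ F.autGroup P, ∀ x : P, (x : Ω) ∈ Q → ((α x : P) : Ω) ∈ Q) : Q = ⊥ := by
  rw [eq_bot_iff, ← hcore]
  apply le_sSup
  refine isNormal_of_essential hS hF fun P hP => ?_
  by_cases hne : P = S
  · subst hne
    exact ⟨h1, h2⟩
  · rcases hP with h | h
    · exact absurd h hne
    · exact h3 P (CR.of_essential hS h hne)

theorem Ess.memZ {P C : Subgroup Ω} {v : Ω} (hD : Dat S Z z₀ p) (hM : Mx S Z P) (hE : Ess F P Z C z₀ v p) {x : Ω}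
    (hx : x ∈ Z) : ∃ c ∈ C, ∃ i : ℤ, x = c * z₀ ^ i := by
  obtain ⟨c, hc, i, j, hx'⟩ := hE.dec x (hM.ZP hx)
  refine ⟨c, hc, i, ?_⟩
  have h1 : v ^ j ∈ Z := by
    have : v ^ j = (c * z₀ ^ i)⁻¹ * x := by rw [hx']; group
    rw [this]
    exact Z.mul_mem (Z.inv_mem (Z.mul_mem (hE.CZ hc) (Z.zpow_mem hD.z0Z i))) hx
  have h2 : v ^ j = 1 := by
    by_contra hne
    obtain ⟨m, hm⟩ := zpow_gen hE.vp rfl hne
    apply hE.vZ
    rw [hm]
    exact Z.zpow_mem h1 m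
  rw [hx', h2, mul_one]

theorem Ess.z0 {P C : Subgroup Ω} {v : Ω} (hE : Ess F P Z C z₀ v p) {i : ℤ} (h : z₀ ^ i ∈ C) : z₀ ^ i = 1 :=
  hE.indep _ h i 0 (by simp)

include hS hF hD in
/-- `C` is the set of the elements of `Z` fixed by `τ`, for `p` odd. -/
theorem odd_iff (hp2 : p ≠ 2) {P C : Subgroup Ω} {v : Ω} (hM : Mx S Z P) (hE : Ess F P Z C z₀ v p) {τ : MulAut S}
    (hτ : τ ∈ F.autGroup S) (h0 : τ ⟨z₀, hD.ZS hD.z0Z⟩ = (⟨z₀, hD.ZS hD.z0Z⟩ : S)⁻¹)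
    (h1 : ∀ x : S, (x : Ω) ∈ Z → ∃ n : ℤ, ((τ x : S) : Ω) = z₀ ^ n * x) {x : S} (hx : (x : Ω) ∈ Z) :
    (x : Ω) ∈ C ↔ τ x = x := by
  obtain ⟨ψ, hψ, hψ0, hψC⟩ := hE.neg
  set z : S := ⟨z₀, hD.ZS hD.z0Z⟩ with hz
  have hψz : ψ z = z⁻¹ := Subtype.ext (hψ0 z rfl)
  have hψx : ∀ (x c : S) (i : ℤ), (c : Ω) ∈ C → x = c * z ^ i → ψ x = c * (z ^ i)⁻¹ := by
    intro x c i hc hx
    rw [hx, map_mul, map_zpow, hψC c hc, hψz, inv_zpow]
  have hdec : ∀ x : S, (x : Ω) ∈ Z → ∃ (c : S) (i : ℤ), (c : Ω) ∈ C ∧ x = c * z ^ i := by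
    intro x hx
    obtain ⟨c, hc, i, hi⟩ := hE.memZ hD hM hx
    exact ⟨⟨c, hD.ZS (hE.CZ hc)⟩, i, hc, Subtype.ext hi⟩
  have hcz : ∀ x : S, (x : Ω) ∈ Z → ∀ s : S, s * x = x * s := fun x hx s => Subtype.ext (hD.cen s s.2 x hx)
  -- `ψ` and `τ` agree on `Z`
  have hag : ∀ y : S, (y : Ω) ∈ Z → τ y = ψ y := by
    intro y hy
    have h2 : (ψ⁻¹ * τ) y = y := by
      refine agree hS hF hD (Subgroup.mul_mem _ (Subgroup.inv_mem _ hψ) hτ) ?_ ?_ hy
      · rw [MulAut.mul_apply]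
        apply ψ.injective
        rw [MulAut.apply_inv_self, hψz, ← h0]
      · intro u hu
        obtain ⟨n, hn⟩ := h1 u hu
        have hn' : τ u = z ^ n * u := Subtype.ext hn
        obtain ⟨c, i, hc, hi⟩ := hdec u hu
        have h3 := hψx u c i hc hi
        have h4 : ψ (z ^ (-n - 2 * i) * u) = z ^ n * u := by
          rw [map_mul, map_zpow, hψz, h3, hi, inv_zpow, ← zpow_neg, ← zpow_neg]
          have hcomm : ∀ k : ℤ, z ^ k * c = c * z ^ k := fun k => hcz c (hE.CZ hc) _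
          rw [← mul_assoc, hcomm, ← mul_assoc, hcomm, mul_assoc, mul_assoc, ← zpow_add, ← zpow_add]
          congr 2
          ring
        refine ⟨-n - 2 * i, ?_⟩
        have h5 : (ψ⁻¹ * τ) u = z ^ (-n - 2 * i) * u := by
          rw [MulAut.mul_apply, hn']
          apply ψ.injective
          rw [MulAut.apply_inv_self, h4]
        rw [h5]
        rfl
    have h3 := congrArg ψ h2
    rw [MulAut.mul_apply, MulAut.apply_inv_self] at h3
    exact h3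
  rw [hag x hx]
  constructor
  · exact fun h => hψC x h
  · intro h
    obtain ⟨c, i, hc, hi⟩ := hdec x hx
    rw [hψx x c i hc hi] at h
    rw [hi] at h ⊢
    have h2 : z ^ (i * 2) = 1 := by
      have h3 := mul_left_cancel h
      rw [zpow_mul]
      calc (z ^ i) ^ (2 : ℤ) = z ^ i * z ^ i := zpow_two _
        _ = z ^ i * (z ^ i)⁻¹ := by rw [h3]
        _ = 1 := mul_inv_cancel _
    have h3 : z ^ i = 1 := by
      by_contra hne
      have hzp : z ^ p = 1 := Subtype.ext hD.z0p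
      have hz1 : z ≠ 1 := fun h => hD.z01 (congrArg Subtype.val h)
      have ho : orderOf z = p := orderOf_eq_prime hzp hz1
      have h4 := orderOf_dvd_iff_zpow_eq_one.2 h2
      rw [ho] at h4
      rcases (Nat.prime_iff_prime_int.1 hp.1).dvd_mul.1 h4 with h5 | h5
      · apply hne
        rw [← orderOf_dvd_iff_zpow_eq_one, ho]
        exact h5
      · have h6 : p ∣ 2 := by exact_mod_cast h5
        exact hp2 ((Nat.prime_dvd_prime_iff_eq hp.1 Nat.prime_two).1 h6)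
    rw [h3, mul_one]
    exact hc

include hS hF hD in
theorem odd_bot (hp2 : p ≠ 2) (hcore : F.core = ⊥) {P C : Subgroup Ω} {v : Ω} (hP : CR F p P)
    (hE : Ess F P Z C z₀ v p) : C = ⊥ := by
  obtain ⟨ψ, hψ, hψ0, hψC⟩ := hE.neg
  have hM := hP.mx hD
  set z : S := ⟨z₀, hD.ZS hD.z0Z⟩ with hz
  have hψz : ψ z = z⁻¹ := Subtype.ext (hψ0 z rfl)
  have hψn : ∀ x : S, (x : Ω) ∈ Z → ∃ n : ℤ, ((ψ x : S) : Ω) = z₀ ^ n * x := by
    intro x hx
    obtain ⟨c, hc, i, hi⟩ := hE.memZ hD hM hx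
    have hi' : x = ⟨c, hD.ZS (hE.CZ hc)⟩ * z ^ i := Subtype.ext hi
    refine ⟨-2 * i, ?_⟩
    have h1 : ψ x = ⟨c, hD.ZS (hE.CZ hc)⟩ * (z ^ i)⁻¹ := by
      rw [hi', map_mul, map_zpow, hψC _ hc, hψz, inv_zpow]
    rw [h1, hi]
    show c * (z₀ ^ i)⁻¹ = z₀ ^ (-2 * i) * (c * z₀ ^ i)
    have h2 : z₀ ^ (-2 * i) * c = c * z₀ ^ (-2 * i) := hD.cen _ (S.zpow_mem (hD.ZS hD.z0Z) _) c (hE.CZ hc)
    rw [← mul_assoc, h2, mul_assoc, ← zpow_add, ← zpow_neg]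
    congr 2
    ring
  refine normal_of hS hF hcore (hE.CZ.trans hD.ZS) ?_ ?_
  · intro α hα x hx
    have hαx : ((α x : S) : Ω) ∈ Z := mapZ hD α (hE.CZ hx)
    rw [odd_iff hS hF hD hp2 hM hE (τ := α * ψ * α⁻¹)
      (Subgroup.mul_mem _ (Subgroup.mul_mem _ hα hψ) (Subgroup.inv_mem _ hα)) ?_ ?_ hαx]
    · rw [MulAut.mul_apply, MulAut.mul_apply, MulAut.inv_apply_self, hψC x hx]
    · obtain ⟨k, hk⟩ := mapz0 hD α⁻¹
      have hk' : α⁻¹ z = z ^ k := Subtype.ext hk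
      rw [← hz, MulAut.mul_apply, MulAut.mul_apply, hk', map_zpow, hψz, inv_zpow, map_inv, ← hk', MulAut.apply_inv_self]
    · intro y hy
      obtain ⟨n, hn⟩ := hψn _ (mapZ hD α⁻¹ hy)
      obtain ⟨k, hk⟩ := mapz0 hD α
      have hn' : ψ (α⁻¹ y) = z ^ n * α⁻¹ y := Subtype.ext hn
      refine ⟨k * n, ?_⟩
      have hk' : α z = z ^ k := Subtype.ext hk
      rw [MulAut.mul_apply, MulAut.mul_apply, hn', map_mul, map_zpow, hk', MulAut.apply_inv_self, ← zpow_mul]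
      rfl
  · intro Q hQ
    obtain ⟨C', v', hE'⟩ := hQ.ess hS hF hD
    have hMQ := hQ.mx hD
    have hCC : ∀ x ∈ Z, (x ∈ C ↔ x ∈ C') := by
      intro x hx
      rw [odd_iff hS hF hD hp2 hM hE hψ hψz hψn (x := ⟨x, hD.ZS hx⟩) hx,
        ← odd_iff hS hF hD hp2 hMQ hE' hψ hψz hψn (x := ⟨x, hD.ZS hx⟩) hx]
    refine ⟨hE.CZ.trans hMQ.ZP, fun α hα x hx => ?_⟩
    have h1 := hE'.inv α hα x ((hCC x (hE.CZ hx)).1 hx)
    exact (hCC _ (hE'.CZ h1)).2 h1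

end

end H89.CenIdx
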