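import Cfsg.Agent.Lib.H28.PCube
import Cfsg.Agent.Lib.H3.Extraspecial
import Cfsg.Agent.Lib.H5.DihedralLift
import Cfsg.Agent.Lib.H40.StemFinish
import Mathlib.GroupTheory.NoncommCoprod

/-! A splitting `P ≅ E × C` with `E` dihedral of order `8` or extraspecial of order `p³`. -/

set_option autoImplicit false
set_option linter.unusedSectionVars false
open scoped commutatorElement
open Cfsg

namespace H89.GenSplit

variable {Ω : Type*} [Group Ω]

theorem exists_iso {P E C : Subgroup Ω} (hE : E ≤ P) (hC : C ≤ P) (hcomm : ∀ e ∈ E, ∀ c ∈ C, e * c = c * e)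
    (hdisj : ∀ x ∈ E, x ∈ C → x = 1) (hsup : ∀ x ∈ P, ∃ e ∈ E, ∃ c ∈ C, x = e * c) :
    Nonempty (P ≃* E × C) := by
  let f : E × C →* P :=
    { toFun := fun x => ⟨x.1 * x.2, P.mul_mem (hE x.1.2) (hC x.2.2)⟩
      map_one' := Subtype.ext (by simp)
      map_mul' := fun x y => Subtype.ext (by
        show (x.1 : Ω) * y.1 * (x.2 * y.2) = x.1 * x.2 * (y.1 * y.2)
        have := hcomm y.1 y.1.2 x.2 x.2.2
        calc (x.1 : Ω) * y.1 * (x.2 * y.2) = x.1 * (y.1 * x.2) * y.2 := by group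
          _ = x.1 * (x.2 * y.1) * y.2 := by rw [this]
          _ = _ := by group) }
  have hf : Function.Bijective f := by
    constructor
    · rw [injective_iff_map_eq_one]
      rintro ⟨e, c⟩ h
      have h1 : (e : Ω) * c = 1 := congrArg Subtype.val h
      have h2 : (e : Ω) = (c : Ω)⁻¹ := eq_inv_of_mul_eq_one_left h1
      have h3 := hdisj e e.2 (by rw [h2]; exact C.inv_mem c.2)
      rw [h3, one_mul] at h1
      exact Prod.ext (Subtype.ext h3) (Subtype.ext h1)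
    · rintro ⟨x, hx⟩
      obtain ⟨e, he, c, hc, rfl⟩ := hsup x hx
      exact ⟨(⟨e, he⟩, ⟨c, hc⟩), rfl⟩
  exact ⟨(MulEquiv.ofBijective f hf).symm⟩

/-- The data of the splitting. -/
structure Sp (P C : Subgroup Ω) (z z' g : Ω) (p : ℕ) : Prop where
  zP : z ∈ P
  z'P : z' ∈ P
  gP : g ∈ P
  zz' : z * z' = z' * z
  gz : g * z = z * g
  gz' : g * z' * g⁻¹ = z * z'
  zp : z ^ p = 1
  z'p : z' ^ p = 1
  gp : g ^ p = 1
  z1 : z ≠ 1
  CP : C ≤ P
  cen : ∀ c ∈ C, ∀ x ∈ P, c * x = x * c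
  dec : ∀ x ∈ P, ∃ c ∈ C, ∃ i j k : ℤ, x = c * (z ^ i * z' ^ j * g ^ k)
  ind : ∀ c ∈ C, ∀ i j : ℤ, c = z ^ i * z' ^ j → c = 1
  cp : ∀ c ∈ C, c ^ p = 1

variable {P C : Subgroup Ω} {z z' g : Ω} {p : ℕ} [hp : Fact p.Prime]

theorem Sp.ordz (h : Sp P C z z' g p) : orderOf z = p := orderOf_eq_prime h.zp h.z1

theorem Sp.gk (h : Sp P C z z' g p) (k : ℤ) : g ^ k * z' * (g ^ k)⁻¹ = z ^ k * z' := by
  have hnat : ∀ n : ℕ, g ^ n * z' * (g ^ n)⁻¹ = z ^ n * z' := by
    intro n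
    induction n with
    | zero => simp
    | succ n ih =>
      have h1 : Commute (g ^ n) z := (show Commute g z from h.gz).pow_left n
      calc g ^ (n + 1) * z' * (g ^ (n + 1))⁻¹ = g ^ n * (g * z' * g⁻¹) * (g ^ n)⁻¹ := by rw [pow_succ]; group
        _ = g ^ n * (z * z') * (g ^ n)⁻¹ := by rw [h.gz']
        _ = (g ^ n * z) * (z' * (g ^ n)⁻¹) := by group
        _ = (z * g ^ n) * (z' * (g ^ n)⁻¹) := by rw [h1.eq]
        _ = z * (g ^ n * z' * (g ^ n)⁻¹) := by group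
        _ = z * (z ^ n * z') := by rw [ih]
        _ = _ := by rw [pow_succ']; group
  rcases Int.eq_nat_or_neg k with ⟨n, rfl | rfl⟩
  · rw [zpow_natCast, zpow_natCast, hnat]
  · have h1 := hnat n
    have h2 : Commute (g ^ n) z := (show Commute g z from h.gz).pow_left n
    have h3 : Commute (g ^ n) (z ^ n) := h2.pow_right n
    have h4 : z' = g ^ n * (z ^ (-(n : ℤ)) * z') * (g ^ n)⁻¹ := by
      have h5 : Commute (g ^ n) (z ^ (-(n : ℤ))) := h2.zpow_right _
      calc z' = z ^ (-(n : ℤ)) * (z ^ n * z') := by rw [zpow_neg, zpow_natCast, inv_mul_cancel_left]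
        _ = z ^ (-(n : ℤ)) * (g ^ n * z' * (g ^ n)⁻¹) := by rw [h1]
        _ = (z ^ (-(n : ℤ)) * g ^ n) * z' * (g ^ n)⁻¹ := by group
        _ = (g ^ n * z ^ (-(n : ℤ))) * z' * (g ^ n)⁻¹ := by rw [h5.eq]
        _ = _ := by group
    rw [zpow_neg g, zpow_natCast, inv_inv]
    conv_lhs => rw [h4]
    group

theorem Sp.eq_zero (h : Sp P C z z' g p) {c : Ω} (hc : c ∈ C) {i j k : ℤ} (hx : c = z ^ i * z' ^ j * g ^ k) :
    c = 1 ∧ z ^ i = 1 ∧ z' ^ j = 1 ∧ g ^ k = 1 := by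
  -- `k ≡ 0`
  have hzz : Commute z z' := h.zz'
  have h1 : z ^ k = 1 := by
    have h2 : c * z' * c⁻¹ = z' := by rw [h.cen c hc z' h.z'P]; group
    have h3 : Commute (z ^ i * z' ^ j) z' := (hzz.zpow_left i).mul_left ((Commute.refl z').zpow_left j)
    have h4 : Commute (z ^ i * z' ^ j) (z ^ k * z') := by
      refine Commute.mul_right ?_ h3
      exact ((Commute.refl z).zpow_zpow i k).mul_left (hzz.symm.zpow_zpow j k)
    rw [hx] at h2
    have h5 : z ^ i * z' ^ j * g ^ k * z' * (z ^ i * z' ^ j * g ^ k)⁻¹ =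
        (z ^ i * z' ^ j) * (g ^ k * z' * (g ^ k)⁻¹) * (z ^ i * z' ^ j)⁻¹ := by group
    rw [h5, h.gk, h4.eq, mul_assoc, mul_inv_cancel, mul_one] at h2
    exact mul_eq_right.1 h2
  have hpk : (p : ℤ) ∣ k := by
    rw [← h.ordz]
    exact orderOf_dvd_iff_zpow_eq_one.2 h1
  have hgk : g ^ k = 1 := by
    obtain ⟨m, rfl⟩ := hpk
    rw [zpow_mul, zpow_natCast, h.gp, one_zpow]
  rw [hgk, mul_one] at hx
  have hc1 := h.ind c hc i j hx
  have h6 : z ^ i * z' ^ j = 1 := by rw [← hx, hc1]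
  -- conjugate by `g`
  have h7 : g * (z ^ i * z' ^ j) * g⁻¹ = z ^ i * (z * z') ^ j := by
    have h8 : g * (z ^ i * z' ^ j) * g⁻¹ = (g * z ^ i * g⁻¹) * (g * z' ^ j * g⁻¹) := by group
    have h9 : g * z ^ i * g⁻¹ = z ^ i := by
      rw [((show Commute g z from h.gz).zpow_right i).eq]; group
    rw [h8, h9, ← h.gz', conj_zpow]
  rw [h6, mul_one, mul_inv_cancel, hzz.mul_zpow] at h7
  have h10 : z ^ j = 1 := by
    have h11 : z ^ i * (z ^ j * z' ^ j) = z ^ j * (z ^ i * z' ^ j) := by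
      rw [← mul_assoc, ← mul_assoc, ((Commute.refl z).zpow_zpow i j).eq]
    rw [h11, h6, mul_one] at h7
    exact h7.symm
  have hpj : (p : ℤ) ∣ j := by
    rw [← h.ordz]
    exact orderOf_dvd_iff_zpow_eq_one.2 h10
  have hz'j : z' ^ j = 1 := by
    obtain ⟨m, rfl⟩ := hpj
    rw [zpow_mul, zpow_natCast, h.z'p, one_zpow]
  rw [hz'j, mul_one] at h6
  exact ⟨hc1, h6, hz'j, hgk⟩

/-- Elements of `E = ⟨g, z'⟩`. -/
theorem Sp.mem_E (h : Sp P C z z' g p) {x : Ω} : x ∈ Subgroup.closure {g, z'} ↔ ∃ i j k : ℤ, x = z ^ i * z' ^ j * g ^ k := by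
  have hzE : z ∈ Subgroup.closure {g, z'} := by
    have h1 : z = g * z' * g⁻¹ * z'⁻¹ := by rw [h.gz']; group
    rw [h1]
    have hg : g ∈ Subgroup.closure {g, z'} := Subgroup.subset_closure (Or.inl rfl)
    have hz' : z' ∈ Subgroup.closure {g, z'} := Subgroup.subset_closure (Or.inr rfl)
    exact Subgroup.mul_mem _ (Subgroup.mul_mem _ (Subgroup.mul_mem _ hg hz') (Subgroup.inv_mem _ hg))
      (Subgroup.inv_mem _ hz')
  have hzz : Commute z z' := h.zz'
  have hgz : Commute g z := h.gz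
  have hmove : ∀ j k : ℤ, g ^ k * z' ^ j = z ^ (k * j) * z' ^ j * g ^ k := by
    intro j k
    have h1 : g ^ k * z' ^ j * (g ^ k)⁻¹ = (z ^ k * z') ^ j := by
      rw [← conj_zpow, h.gk]
    have h2 : (z ^ k * z') ^ j = z ^ (k * j) * z' ^ j := by
      rw [(hzz.zpow_left k).mul_zpow, ← zpow_mul]
    calc g ^ k * z' ^ j = g ^ k * z' ^ j * (g ^ k)⁻¹ * g ^ k := by group
      _ = _ := by rw [h1, h2]
  constructor
  · intro hx
    induction hx using Subgroup.closure_induction with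
    | mem x hx =>
      rcases hx with rfl | rfl
      · exact ⟨0, 0, 1, by simp⟩
      · exact ⟨0, 1, 0, by simp⟩
    | one => exact ⟨0, 0, 0, by simp⟩
    | mul x y _ _ hx hy =>
      obtain ⟨i, j, k, rfl⟩ := hx
      obtain ⟨i', j', k', rfl⟩ := hy
      refine ⟨i + i' + k * j', j + j', k + k', ?_⟩
      have e1 : Commute (g ^ k) (z ^ i') := hgz.zpow_zpow k i'
      have e2 : Commute (z' ^ j) (z ^ i') := hzz.symm.zpow_zpow j i'
      have e3 : Commute (z' ^ j) (z ^ (k * j')) := hzz.symm.zpow_zpow j _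
      calc z ^ i * z' ^ j * g ^ k * (z ^ i' * z' ^ j' * g ^ k')
          = z ^ i * z' ^ j * (g ^ k * z ^ i') * z' ^ j' * g ^ k' := by group
        _ = z ^ i * z' ^ j * (z ^ i' * g ^ k) * z' ^ j' * g ^ k' := by rw [e1.eq]
        _ = z ^ i * (z' ^ j * z ^ i') * (g ^ k * z' ^ j') * g ^ k' := by group
        _ = z ^ i * (z ^ i' * z' ^ j) * (z ^ (k * j') * z' ^ j' * g ^ k) * g ^ k' := by rw [e2.eq, hmove]
        _ = z ^ i * z ^ i' * (z' ^ j * z ^ (k * j')) * z' ^ j' * g ^ k * g ^ k' := by group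
        _ = z ^ i * z ^ i' * (z ^ (k * j') * z' ^ j) * z' ^ j' * g ^ k * g ^ k' := by rw [e3.eq]
        _ = _ := by simp only [zpow_add, mul_assoc]
    | inv x _ hx =>
      obtain ⟨i, j, k, rfl⟩ := hx
      refine ⟨k * j - i, -j, -k, ?_⟩
      have e1 : Commute (g ^ (-k)) (z ^ (-i)) := hgz.zpow_zpow _ _
      have e2 : Commute (z ^ (-i)) (z' ^ (-j)) := hzz.zpow_zpow _ _
      have e3 := hmove (-j) (-k)
      calc (z ^ i * z' ^ j * g ^ k)⁻¹ = g ^ (-k) * z' ^ (-j) * z ^ (-i) := by group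
        _ = z ^ (-k * -j) * z' ^ (-j) * (g ^ (-k) * z ^ (-i)) := by rw [e3]; group
        _ = z ^ (-k * -j) * z' ^ (-j) * (z ^ (-i) * g ^ (-k)) := by rw [e1.eq]
        _ = z ^ (-k * -j) * (z' ^ (-j) * z ^ (-i)) * g ^ (-k) := by group
        _ = z ^ (-k * -j) * (z ^ (-i) * z' ^ (-j)) * g ^ (-k) := by rw [e2.eq]
        _ = _ := by
          rw [← mul_assoc, ← zpow_add]
          congr 3
          ring
  · rintro ⟨i, j, k, rfl⟩
    have hgE : g ∈ Subgroup.closure {g, z'} := Subgroup.subset_closure (Or.inl rfl)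
    have hz'E : z' ∈ Subgroup.closure {g, z'} := Subgroup.subset_closure (Or.inr rfl)
    exact Subgroup.mul_mem _ (Subgroup.mul_mem _ (Subgroup.zpow_mem _ hzE _)
      (Subgroup.zpow_mem _ hz'E _)) (Subgroup.zpow_mem _ hgE _)

theorem Sp.iso (h : Sp P C z z' g p) : Nonempty (P ≃* Subgroup.closure {g, z'} × C) := by
  apply exists_iso
  · rw [Subgroup.closure_le]
    rintro x (rfl | rfl)
    · exact h.gP
    · exact h.z'P
  · exact h.CP
  · intro e he c hc
    have hE : Subgroup.closure {g, z'} ≤ P := by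
      rw [Subgroup.closure_le]
      rintro x (rfl | rfl)
      · exact h.gP
      · exact h.z'P
    exact (h.cen c hc e (hE he)).symm
  · intro x hx hxC
    obtain ⟨i, j, k, hx'⟩ := h.mem_E.1 hx
    exact (h.eq_zero hxC hx').1
  · intro x hx
    obtain ⟨c, hc, i, j, k, rfl⟩ := h.dec x hx
    refine ⟨_, h.mem_E.2 ⟨i, j, k, rfl⟩, c, hc, h.cen c hc _ ?_⟩
    exact P.mul_mem (P.mul_mem (P.zpow_mem h.zP _) (P.zpow_mem h.z'P _)) (P.zpow_mem h.gP _)

theorem Sp.card_E [Finite P] (h : Sp P C z z' g p) : Nat.card (Subgroup.closure {g, z'}) = p ^ 3 := by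
  have hE : Subgroup.closure {g, z'} ≤ P := by
    rw [Subgroup.closure_le]
    rintro x (rfl | rfl)
    · exact h.gP
    · exact h.z'P
  have hfE : Finite (Subgroup.closure {g, z'}) := Finite.of_injective _ (Subgroup.inclusion_injective hE)
  have hp0 : (p : ℤ) ≠ 0 := by exact_mod_cast hp.1.ne_zero
  have hred : ∀ x : Ω, x ^ p = 1 → ∀ i : ℤ, x ^ i = x ^ ((i % p).toNat) := by
    intro x hx i
    have h1 : ((i % p).toNat : ℤ) = i % p := Int.toNat_of_nonneg (Int.emod_nonneg i hp0)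
    rw [← zpow_natCast, h1]
    conv_lhs => rw [← Int.emod_add_mul_ediv i p, zpow_add, zpow_mul, zpow_natCast, hx, one_zpow, mul_one]
  have hlt : ∀ i : ℤ, (i % p).toNat < p := by
    intro i
    have := Int.emod_lt_of_pos i (show (0 : ℤ) < p by exact_mod_cast hp.1.pos)
    have h1 : ((i % p).toNat : ℤ) = i % p := Int.toNat_of_nonneg (Int.emod_nonneg i hp0)
    exact_mod_cast h1.trans_lt this
  let f : Fin p × Fin p × Fin p → Subgroup.closure {g, z'} := fun t =>
    ⟨z ^ (t.1 : ℕ) * z' ^ (t.2.1 : ℕ) * g ^ (t.2.2 : ℕ), h.mem_E.2 ⟨t.1, t.2.1, t.2.2, by simp⟩⟩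
  have hzz : Commute z z' := h.zz'
  have hgz : Commute g z := h.gz
  have hf : Function.Bijective f := by
    constructor
    · rintro ⟨i, j, k⟩ ⟨i', j', k'⟩ hij
      have h1 : z ^ (i : ℕ) * z' ^ (j : ℕ) * g ^ (k : ℕ) = z ^ (i' : ℕ) * z' ^ (j' : ℕ) * g ^ (k' : ℕ) :=
        congrArg Subtype.val hij
      -- the quotient is an element of the normal form
      have h2 : (1 : Ω) = z ^ ((i : ℤ) - i') * z' ^ ((j : ℤ) - j') * g ^ ((k : ℤ) - k') := by
        have e1 : Commute (z' ^ (j : ℤ)) (z ^ (-(i' : ℤ))) := hzz.symm.zpow_zpow _ _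
        have h3 : (1 : Ω) = (z ^ (i' : ℤ) * z' ^ (j' : ℤ))⁻¹ * (z ^ (i : ℤ) * z' ^ (j : ℤ) * g ^ (k : ℤ)) *
            (g ^ (k' : ℤ))⁻¹ := by
          simp only [zpow_natCast]
          rw [h1]; group
        have hA : Commute (z ^ (i' : ℤ) * z' ^ (j' : ℤ)) (z ^ (i : ℤ) * z' ^ (j : ℤ)) := by
          refine Commute.mul_left ?_ ?_
          · exact ((Commute.refl z).zpow_zpow _ _).mul_right (hzz.zpow_zpow _ _)
          · exact (hzz.symm.zpow_zpow _ _).mul_right ((Commute.refl z').zpow_zpow _ _)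
        have hB := hA.inv_left
        calc (1 : Ω) = ((z ^ (i' : ℤ) * z' ^ (j' : ℤ))⁻¹ * (z ^ (i : ℤ) * z' ^ (j : ℤ))) * (g ^ (k : ℤ) *
            (g ^ (k' : ℤ))⁻¹) := by rw [h3]; group
          _ = ((z ^ (i : ℤ) * z' ^ (j : ℤ)) * (z ^ (i' : ℤ) * z' ^ (j' : ℤ))⁻¹) * (g ^ (k : ℤ) *
            (g ^ (k' : ℤ))⁻¹) := by rw [hB.eq]
          _ = z ^ (i : ℤ) * (z' ^ (j : ℤ) * (z' ^ (j' : ℤ))⁻¹ * (z ^ (i' : ℤ))⁻¹) * (g ^ (k : ℤ) *
            (g ^ (k' : ℤ))⁻¹) := by group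
          _ = z ^ (i : ℤ) * ((z ^ (i' : ℤ))⁻¹ * (z' ^ (j : ℤ) * (z' ^ (j' : ℤ))⁻¹)) * (g ^ (k : ℤ) *
            (g ^ (k' : ℤ))⁻¹) := by
              have hC : Commute (z' ^ (j : ℤ) * (z' ^ (j' : ℤ))⁻¹) ((z ^ (i' : ℤ))⁻¹) := by
                rw [← zpow_neg, ← zpow_neg]
                exact (hzz.symm.zpow_zpow _ _).mul_left (hzz.symm.zpow_zpow _ _)
              rw [hC.eq]
          _ = _ := by rw [zpow_sub, zpow_sub, zpow_sub]; group
      obtain ⟨-, hi, hj, hk⟩ := h.eq_zero C.one_mem h2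
      have hord : ∀ x : Ω, x ^ p = 1 → x ≠ 1 → ∀ a b : Fin p, x ^ ((a : ℤ) - b) = 1 → a = b := by
        intro x hx hx1 a b hab
        have hox : orderOf x = p := orderOf_eq_prime hx hx1
        have h3 : (p : ℤ) ∣ (a : ℤ) - b := by
          have h4 := orderOf_dvd_iff_zpow_eq_one.2 hab
          rwa [hox] at h4
        have ha := a.2
        have hb := b.2
        apply Fin.ext
        obtain ⟨m, hm⟩ := h3
        have hm0 : m = 0 := by
          by_contra hm0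
          rcases lt_trichotomy m 0 with h4 | h4 | h4
          · nlinarith [hm, h4, ha, hb]
          · exact hm0 h4
          · nlinarith [hm, h4, ha, hb]
        rw [hm0, mul_zero] at hm
        omega
      have hz'1 : z' ≠ 1 := by
        intro h3
        have := h.gz'
        rw [h3, mul_one, mul_inv_cancel, mul_one] at this
        exact h.z1 this.symm
      have hg1 : g ≠ 1 := by
        intro h3
        have := h.gz'
        rw [h3, one_mul, inv_one, mul_one] at this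
        exact h.z1 (mul_eq_right.1 this.symm)
      rw [hord z h.zp h.z1 i i' hi, hord z' h.z'p hz'1 j j' hj, hord g h.gp hg1 k k' hk]
    · rintro ⟨x, hx⟩
      obtain ⟨i, j, k, rfl⟩ := h.mem_E.1 hx
      refine ⟨(⟨_, hlt i⟩, ⟨_, hlt j⟩, ⟨_, hlt k⟩), Subtype.ext ?_⟩
      show z ^ ((i % p).toNat) * z' ^ ((j % p).toNat) * g ^ ((k % p).toNat) = _
      rw [← hred z h.zp, ← hred z' h.z'p, ← hred g h.gp]
  rw [← Nat.card_congr (Equiv.ofBijective f hf), Nat.card_prod, Nat.card_prod, Nat.card_eq_fintype_card,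
    Fintype.card_fin]
  ring

theorem Sp.ne_comm (h : Sp P C z z' g p) : g * z' ≠ z' * g := by
  intro h1
  have h2 := h.gz'
  rw [h1, mul_inv_cancel_right] at h2
  exact h.z1 (mul_eq_right.1 h2.symm)

theorem Sp.exists_C [Finite P] (h : Sp P C z z' g p) :
    ∃ (A : Type) (_ : CommGroup A), (∀ a : A, a ^ p = 1) ∧ Nonempty (C ≃* A) := by
  have hfC : Finite C := Finite.of_injective _ (Subgroup.inclusion_injective h.CP)
  obtain ⟨A, _, _, ⟨e⟩⟩ := H40.StemFinish.exists_copy.{_, 0} C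
  have hcomm : ∀ a b : A, a * b = b * a := by
    intro a b
    apply e.symm.injective
    rw [map_mul, map_mul]
    exact Subtype.ext (h.cen _ (e.symm a).2 _ (h.CP (e.symm b).2))
  refine ⟨A, { mul_comm := hcomm }, fun a => ?_, ⟨e⟩⟩
  apply e.symm.injective
  rw [map_one]
  have h1 : e.symm (a ^ p) = (e.symm a) ^ p := map_pow _ _ _
  exact h1.trans (Subtype.ext (h.cp _ (e.symm a).2))

theorem Sp.two [Finite P] (h : Sp P C z z' g p) (hp2 : p = 2) :
    ∃ (A : Type) (_ : CommGroup A), (∀ a : A, a ^ 2 = 1) ∧ Nonempty (P ≃* DihedralGroup 4 × A) := by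
  subst hp2
  obtain ⟨A, _, hA, ⟨e⟩⟩ := h.exists_C
  obtain ⟨f⟩ := h.iso
  refine ⟨A, inferInstance, hA, ?_⟩
  have hz'1 : z' ≠ 1 := by
    rintro rfl
    exact h.ne_comm (by simp)
  have hg1 : g ≠ 1 := by
    rintro rfl
    exact h.ne_comm (by simp)
  have hog : orderOf g = 2 := orderOf_eq_prime h.gp hg1
  have hoz' : orderOf z' = 2 := orderOf_eq_prime h.z'p hz'1
  have hne : g ≠ z' := by
    rintro rfl
    exact h.ne_comm rfl
  obtain ⟨k⟩ := H5.DihedralLift.closure_involutions_equiv hog hoz' hne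
  have hginv : g⁻¹ = g := by
    rw [inv_eq_iff_mul_eq_one, ← pow_two]; exact h.gp
  have hsq : (g * z') ^ 2 = z := by
    have h1 := h.gz'
    rw [hginv] at h1
    calc (g * z') ^ 2 = g * z' * g * z' := by rw [pow_two]; group
      _ = z * z' * z' := by rw [h1]
      _ = z * z' ^ 2 := by rw [pow_two]; group
      _ = z := by rw [h.z'p, mul_one]
  have ho : orderOf (g * z') = 4 := by
    have h4 : (4 : ℕ) = 2 ^ (1 + 1) := by norm_num
    rw [h4]
    apply orderOf_eq_prime_pow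
    · rw [pow_one, hsq]; exact h.z1
    · rw [pow_succ, pow_one, pow_mul, hsq]; exact h.zp
  rw [ho] at k
  exact ⟨f.trans (MulEquiv.prodCongr k e)⟩

theorem Sp.odd [Finite P] (h : Sp P C z z' g p) (hex : ∀ x ∈ P, x ^ p = 1) :
    ∃ (E : Type) (_ : Group E) (A : Type) (_ : CommGroup A), IsExtraspecial p E ∧ Nat.card E = p ^ 3 ∧
      Monoid.exponent E = p ∧ (∀ a : A, a ^ p = 1) ∧ Nonempty (P ≃* E × A) := by
  obtain ⟨A, _, hA, ⟨e⟩⟩ := h.exists_C
  obtain ⟨f⟩ := h.iso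
  have hE : Subgroup.closure {g, z'} ≤ P := by
    rw [Subgroup.closure_le]
    rintro x (rfl | rfl)
    · exact h.gP
    · exact h.z'P
  have hfE : Finite (Subgroup.closure {g, z'}) := Finite.of_injective _ (Subgroup.inclusion_injective hE)
  obtain ⟨E, _, _, ⟨k⟩⟩ := H40.StemFinish.exists_copy.{_, 0} (Subgroup.closure {g, z'})
  have hcE : Nat.card E = p ^ 3 := by rw [← Nat.card_congr k.toEquiv]; exact h.card_E
  have hgE : g ∈ Subgroup.closure {g, z'} := Subgroup.subset_closure (Or.inl rfl)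
  have hz'E : z' ∈ Subgroup.closure {g, z'} := Subgroup.subset_closure (Or.inr rfl)
  have hne : k ⟨g, hgE⟩ * k ⟨z', hz'E⟩ ≠ k ⟨z', hz'E⟩ * k ⟨g, hgE⟩ := by
    intro h1
    rw [← map_mul, ← map_mul] at h1
    exact h.ne_comm (congrArg Subtype.val (k.injective h1))
  have hnc : ¬ IsMulCommutative E := fun hc => hne (hc.is_comm.comm _ _)
  refine ⟨E, inferInstance, A, inferInstance, ?_, hcE, ?_, hA, ⟨f.trans (MulEquiv.prodCongr k e)⟩⟩
  · apply H3.Extraspecial.isExtraspecial_of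
    · rw [H28.PCube.commutator_eq_center hcE hnc]
    · exact H28.PCube.card_center hcE hnc
    · refine ⟨k ⟨g, hgE⟩, k ⟨z', hz'E⟩, ?_⟩
      intro h1
      exact hne (commutatorElement_eq_one_iff_mul_comm.1 h1)
  · have hdvd : Monoid.exponent E ∣ p := by
      apply Monoid.exponent_dvd_of_forall_pow_eq_one
      intro x
      apply k.symm.injective
      rw [map_pow, map_one]
      exact Subtype.ext (hex _ (hE (k.symm x).2))
    rcases (Nat.dvd_prime hp.1).1 hdvd with h1 | h1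
    · rw [Monoid.exp_eq_one_iff] at h1
      exact absurd (Subsingleton.elim _ _) hne
    · exact h1

end H89.GenSplit
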