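import Cfsg.Agent.Lib.H88.Focal
import Cfsg.Agent.Lib.H87.Factor2
import Cfsg.Agent.Lib.H87.Surj

/-!
`T C_S(T)` is strongly closed; the hyperfocal subgroup of a factor system.
-/

set_option autoImplicit false
set_option linter.unusedSectionVars false
open Cfsg Cfsg.FusionSystem H86.FusBasic H86.FusSat

namespace H89.FacHyp

variable {Ω : Type*} [Group Ω] {S : Subgroup Ω} {F : FusionSystem S} {p : ℕ} [Fact p.Prime]

theorem sup_centralizer_stronglyClosed [Finite S] (hS : IsPGroup p S) (hF : F.IsSaturated p)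
    {T : Subgroup Ω} (hT : F.StronglyClosed T) : F.StronglyClosed (T ⊔ centralizerIn S T) := by
  have hTC : T ⊔ centralizerIn S T ≤ S := sup_le hT.1 inf_le_left
  rw [H87.Basic.stronglyClosed_iff]
  refine ⟨hTC, fun P f hP hf x hx => ?_⟩
  obtain ⟨g, hg, hgf⟩ := H87.Lift.good_of_saturated hS hF hT hf
  have hTiso := H87.Basic.StronglyClosed.isMap_iso hT hg le_sup_right
  have hnorm : ∀ c ∈ centralizerIn S T, ∀ t ∈ T, c * t * c⁻¹ ∈ T := fun c hc t ht =>
    H87.Grow.StronglyClosed.conj_mem hT hc.1 ht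
  -- write `x = c t`
  have hx' := hP hx
  rw [sup_comm, H87.Grow.mem_sup_of_conj hnorm] at hx'
  obtain ⟨c, hc, t, ht, rfl⟩ := hx'
  have htPT : t ∈ P ⊔ T := Subgroup.mem_sup_right ht
  have hcPT : c ∈ P ⊔ T := by
    have h1 := (P ⊔ T).mul_mem (Subgroup.mem_sup_left hx) ((P ⊔ T).inv_mem htPT)
    rwa [mul_inv_cancel_right] at h1
  have h1 : g (c * t) ∈ T ⊔ centralizerIn S T := by
    rw [hg.map_mul hcPT htPT]
    apply Subgroup.mul_mem
    · apply Subgroup.mem_sup_right
      rw [H87.Sat.mem_centralizerIn]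
      refine ⟨hg.mem hcPT, fun y hy => ?_⟩
      obtain ⟨z, hz, rfl⟩ := hTiso.surj hy
      have hzPT : z ∈ P ⊔ T := Subgroup.mem_sup_right hz
      rw [← hg.map_mul hzPT hcPT, ← hg.map_mul hcPT hzPT, (H87.Sat.mem_centralizerIn.1 hc).2 z hz]
    · exact Subgroup.mem_sup_left (hTiso.mem ht)
  have h2 := hgf (c * t) hx
  have h3 : f (c * t) = g (c * t) * ((f (c * t))⁻¹ * g (c * t))⁻¹ := by group
  rw [h3]
  exact Subgroup.mul_mem _ h1 (Subgroup.inv_mem _ (Subgroup.mem_sup_left h2))

variable {Ω' : Type*} [Group Ω'] {S' : Subgroup Ω'} {θ : S →* Ω'} {E : FusionSystem S'}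

theorem exists_coprime_exponent {G : Type*} [Group G] [Finite G] (f : G) (r : ℕ)
    (hr : Nat.Coprime r p) (hrf : r ∣ orderOf f) : ∃ k, Nat.Coprime (orderOf (f ^ k)) p ∧
      k ≡ 1 [MOD r] := by
  have hp := (Fact.out : p.Prime)
  obtain ⟨a, m, hm, hfm⟩ := Nat.exists_eq_pow_mul_and_not_dvd (orderOf_pos f).ne' p hp.ne_one
  have hcop : Nat.Coprime (p ^ a) m := Nat.Coprime.pow_left _ ((Nat.Prime.coprime_iff_not_dvd hp).2 hm)
  obtain ⟨c, hc1, hc2⟩ := Nat.chineseRemainder hcop 0 1
  have hrm : r ∣ m := by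
    rw [hfm] at hrf
    exact (hr.pow_right a).dvd_of_dvd_mul_left hrf
  refine ⟨c, ?_, hc2.of_dvd hrm⟩
  have h1 : p ^ a ∣ c := (Nat.modEq_zero_iff_dvd).1 hc1
  have h2 : (f ^ c) ^ m = 1 := by
    rw [← pow_mul, ← orderOf_dvd_iff_pow_eq_one, hfm]
    exact Nat.mul_dvd_mul_right h1 m
  have h3 : orderOf (f ^ c) ∣ m := orderOf_dvd_of_pow_eq_one h2
  exact Nat.Coprime.coprime_dvd_left h3 (((Nat.Prime.coprime_iff_not_dvd hp).2 hm).symm)

theorem hyp_factor [Finite S] (hS : IsPGroup p S) (hF : F.IsSaturated p)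
    {T : Subgroup Ω} (hT : F.StronglyClosed T) (hE : F.IsFactorSystem T θ E) :
    E.hyperfocalSubgroup p = ((F.hyperfocalSubgroup p).subgroupOf S).map θ := by
  obtain ⟨h1, hk, hr, h4⟩ := H87.Factor.isFactorSystem_iff.1 hE
  have hsurj := H87.Factor2.factor_isSurjectiveMorphism hS hF hT hE
  have hmor := H87.Factor.isMorphism_iff.1 (H87.Factor.isSurjectiveMorphism_iff.1 hsurj).1
  apply le_antisymm
  · apply H88.Focal.hyp_le_of
    intro P' hP' α hα hc y
    have hαm := H87.Base.isMap_of_mem ((H86.FusBasic.mem_autGroup' E hP').1 hα)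
    obtain ⟨-, f, hf, hind⟩ := (h4 _ _).1 hαm
    have hfP : ∀ x ∈ preimageAlong θ P', f x ∈ preimageAlong θ P' := by
      intro x hx
      obtain ⟨hxS, hxP⟩ := H87.Factor.mem_preimageAlong.1 hx
      refine H87.Factor.mem_preimageAlong.2 ⟨hf.mem hx, ?_⟩
      rw [← hind x hx, H87.Base.extFun_apply _ hxP]
      exact Subtype.prop _
    have hfin : Finite (preimageAlong θ P') := finite_of_le H87.Factor.preimageAlong_le
    have hfin2 : Finite (MulAut (preimageAlong θ P')) := finite_mulAut _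
    have hfiso : H87.Base.IsIso F (preimageAlong θ P') (preimageAlong θ P') f := by
      have h5 := hf.isIso
      have h6 : H87.Base.img (preimageAlong θ P') f = preimageAlong θ P' := by
        have h7 := h5.card_eq
        refine Subgroup.eq_of_le_of_card_ge ?_ h7.le
        intro z hz
        obtain ⟨w, hw, rfl⟩ := (H87.Base.mem_img hf).1 hz
        exact hfP w hw
      rwa [h6] at h5
    set β := hfiso.aut with hβ
    have hβ1 : ∀ x : preimageAlong θ P', ((β x : preimageAlong θ P') : Ω) = f x :=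
      fun x => hfiso.aut_apply x
    have hθ : ∀ (x : preimageAlong θ P') , H87.Base.extFun θ x ∈ P' := fun x =>
      (H87.Factor.mem_preimageAlong.1 x.2).2
    have hpow : ∀ (n : ℕ) (x : preimageAlong θ P'),
        (((α ^ n) ⟨_, hθ x⟩ : P') : Ω') = H87.Base.extFun θ ((β ^ n) x : preimageAlong θ P') := by
      intro n
      induction n with
      | zero => intro x; rfl
      | succ n ih =>
        intro x
        rw [pow_succ, pow_succ]
        show (((α ^ n) (α ⟨_, hθ x⟩) : P') : Ω') = H87.Base.extFun θ ((β ^ n) (β x) : preimageAlong θ P')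
        rw [← ih (β x)]
        congr 2
        apply Subtype.ext
        have h5 := hind x x.2
        rw [H87.Base.extFun_apply _ (hθ x)] at h5
        show ((α ⟨_, hθ x⟩ : P') : Ω') = H87.Base.extFun θ ((β x : preimageAlong θ P') : Ω)
        rw [hβ1]
        exact h5
    have hord : orderOf α ∣ orderOf β := by
      apply orderOf_dvd_of_pow_eq_one
      ext ⟨y, hy⟩
      have hy' := hP' hy
      rw [← hr] at hy'
      obtain ⟨x, hx, rfl⟩ := H87.Factor.mem_range_iff.1 hy'
      have hxP : x ∈ preimageAlong θ P' := H87.Factor.mem_preimageAlong.2 ⟨hx, hy⟩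
      have h5 := hpow (orderOf β) ⟨x, hxP⟩
      rw [pow_orderOf_eq_one] at h5
      exact h5
    obtain ⟨k, hk1, hk2⟩ := exists_coprime_exponent (p := p) β (orderOf α) hc hord
    have hαk : α ^ k = α := by
      have := pow_eq_pow_iff_modEq.2 hk2
      rwa [pow_one] at this
    have hβk : β ^ k ∈ F.autGroup (preimageAlong θ P') := Subgroup.pow_mem _ hfiso.aut_mem k
    obtain ⟨y, hy⟩ := y
    have hy' := hP' hy
    rw [← hr] at hy'
    obtain ⟨x, hx, rfl⟩ := H87.Factor.mem_range_iff.1 hy'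
    have hxP : x ∈ preimageAlong θ P' := H87.Factor.mem_preimageAlong.2 ⟨hx, hy⟩
    have h5 := hpow k ⟨x, hxP⟩
    rw [hαk] at h5
    have h6 := H88.Focal.mem_hyp_of_coprime H87.Factor.preimageAlong_le hβk hk1 ⟨x, hxP⟩
    refine ⟨⟨_, (H88.Focal.hyp_le F p) h6⟩, h6, ?_⟩
    have hβS : (((β ^ k) ⟨x, hxP⟩ : preimageAlong θ P') : Ω) ∈ S :=
      H87.Factor.preimageAlong_le (Subtype.prop _)
    rw [← H87.Base.extFun_apply θ ((H88.Focal.hyp_le F p) h6)]
    show H87.Base.extFun θ (x⁻¹ * ((β ^ k) ⟨x, hxP⟩ : preimageAlong θ P')) = _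
    rw [H87.Factor.ext_mul (S.inv_mem hx) hβS, H87.Factor.ext_inv hx, ← h5]
  · rintro _ ⟨⟨s, hs⟩, hs', rfl⟩
    have hsF : s ∈ F.hyperfocalSubgroup p := hs'
    -- the preimage of the hyperfocal subgroup
    have hle : F.hyperfocalSubgroup p ≤ preimageAlong θ (E.hyperfocalSubgroup p) := by
      apply H88.Focal.hyp_le_of
      intro P hP α hα hc x
      have hαm := H87.Base.isMap_of_mem ((H86.FusBasic.mem_autGroup' F hP).1 hα)
      obtain ⟨f', hf', hind⟩ := hmor.2 _ _ hαm
      have hP'S : imageAlong θ P ≤ S' := hf'.le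
      have hfin : Finite (imageAlong θ P) := by
        have : Finite S' := by
          rw [← hr]
          exact Finite.of_surjective θ.rangeRestrict θ.rangeRestrict_surjective
        exact finite_of_le hP'S
      have hαv : ∀ x : P, H87.Base.extFun (P.subtype.comp α.toMonoidHom) x = ((α x : P) : Ω) :=
        fun x => H87.Base.extFun_coe _ x
      have hθ : ∀ x : P, H87.Base.extFun θ x ∈ imageAlong θ P := fun x =>
        H87.Factor.mem_imageAlong.2 ⟨x, x.2, hP x.2, rfl⟩
      have hf'P : ∀ y ∈ imageAlong θ P, f' y ∈ imageAlong θ P := by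
        intro y hy
        obtain ⟨z, hz, hzS, rfl⟩ := H87.Factor.mem_imageAlong.1 hy
        rw [hind z hz, hαv ⟨z, hz⟩]
        exact hθ _
      have hf'iso : H87.Base.IsIso E (imageAlong θ P) (imageAlong θ P) f' := by
        have h5 := hf'.isIso
        have h6 : H87.Base.img (imageAlong θ P) f' = imageAlong θ P := by
          have h7 := h5.card_eq
          refine Subgroup.eq_of_le_of_card_ge ?_ h7.le
          intro z hz
          obtain ⟨w, hw, rfl⟩ := (H87.Base.mem_img hf').1 hz
          exact hf'P w hw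
        rwa [h6] at h5
      set β := hf'iso.aut with hβ
      have hβ1 : ∀ x : imageAlong θ P, ((β x : imageAlong θ P) : Ω') = f' x :=
        fun x => hf'iso.aut_apply x
      have hpow : ∀ (n : ℕ) (x : P), (((β ^ n) ⟨_, hθ x⟩ : imageAlong θ P) : Ω') =
          H87.Base.extFun θ ((α ^ n) x : P) := by
        intro n
        induction n with
        | zero => intro x; rfl
        | succ n ih =>
          intro x
          rw [pow_succ, pow_succ]
          show (((β ^ n) (β ⟨_, hθ x⟩) : imageAlong θ P) : Ω') = H87.Base.extFun θ ((α ^ n) (α x) : P)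
          rw [← ih (α x)]
          congr 2
          apply Subtype.ext
          rw [hβ1]
          show f' (H87.Base.extFun θ x) = H87.Base.extFun θ (α x : P)
          rw [hind x x.2, hαv]
      have hord : orderOf β ∣ orderOf α := by
        apply orderOf_dvd_of_pow_eq_one
        ext ⟨y, hy⟩
        obtain ⟨z, hz, hzS, rfl⟩ := H87.Factor.mem_imageAlong.1 hy
        have h5 := hpow (orderOf α) ⟨z, hz⟩
        rw [pow_orderOf_eq_one] at h5
        exact h5
      have hαS : ((α x : P) : Ω) ∈ S := hP (α x).2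
      refine H87.Factor.mem_preimageAlong.2 ⟨S.mul_mem (S.inv_mem (hP x.2)) hαS, ?_⟩
      rw [H87.Factor.ext_mul (S.inv_mem (hP x.2)) hαS, H87.Factor.ext_inv (hP x.2)]
      have h6 := H88.Focal.mem_hyp_of_coprime hP'S hf'iso.aut_mem
        (Nat.Coprime.coprime_dvd_left hord hc) ⟨_, hθ x⟩
      have h7 := hpow 1 x
      rw [pow_one, pow_one] at h7
      rw [← h7]
      exact h6
    have h5 := (H87.Factor.mem_preimageAlong.1 (hle hsF)).2
    rw [H87.Base.extFun_apply θ hs] at h5
    exact h5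

end H89.FacHyp
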