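import Cfsg.Agent.Lib.H57.Mc6
import Cfsg.Agent.Lib.H57.Ess4

/-!
S5316: common definitions (essential subgroups `C_p^3` in `p`-groups of maximal class).
-/

set_option autoImplicit false

namespace H89.MX

open Subgroup Cfsg Cfsg.FusionSystem H67.HallPetrescu H57.Mc

variable {Ω : Type*} [Group Ω]

/-- `γ_i(S)` as a subgroup of `Ω` -/
def K (S : Subgroup Ω) (i : ℕ) : Subgroup Ω := (lcsF ↥S i).map S.subtype

/-- the two-step centralizer `C_S(γ_i/γ_{i+2})` as a subgroup of `Ω` -/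
def T (S : Subgroup Ω) (i : ℕ) : Subgroup Ω := (TC ↥S i).map S.subtype

/-- an essential subgroup `E ≅ C_p^3` -/
structure Dat (S : Subgroup Ω) (p n : ℕ) (F : FusionSystem S) (E : Subgroup Ω) : Prop where
  hp : 5 ≤ p
  hn : 5 ≤ n
  mc : MC p n ↥S
  sat : F.IsSaturated p
  ess : F.IsEssential p E
  card : Nat.card E = p ^ 3
  comm : ∀ x ∈ E, ∀ y ∈ E, x * y = y * x
  pow : ∀ x ∈ E, x ^ p = 1

/-- the involution `-1` of the `SL_2(p)`-plane of `E` -/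
structure Tau (S : Subgroup Ω) (p : ℕ) (F : FusionSystem S) (E C : Subgroup Ω) (τ : MulAut E)
    (W B : Subgroup Ω) : Prop where
  mem : τ ∈ F.autGroup E
  CE : C ≤ E
  cardC : Nat.card C = p ^ 2
  cen : ∀ g ∈ S, g ∈ normalizer (E : Set Ω) → ∀ z ∈ C, g * z = z * g
  cardN : Nat.card (normalizerIn S E) = p ^ 4
  WE : W ≤ E
  BC : B ≤ C
  inf : W ⊓ B = ⊥
  sup : W ⊔ B = E
  cardW : Nat.card W = p ^ 2
  cardB : Nat.card B = p
  inv : ∀ w : E, (w : Ω) ∈ W → τ w = w⁻¹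
  fix : ∀ b : E, (b : Ω) ∈ B → τ b = b
  com : ∀ e ∈ E, ∀ g ∈ S, g ∈ normalizer (E : Set Ω) → g * e * g⁻¹ * e⁻¹ ∈ W ⊓ C
  cardV : Nat.card (W ⊓ C : Subgroup Ω) = p

end H89.MX
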