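import Cfsg.Agent.Lib.H89.MX0

/-! S5316, piece P: the involution `-1` of the plane. -/

set_option autoImplicit false
set_option linter.unusedSectionVars false

namespace H89.MXP

open Subgroup Cfsg Cfsg.FusionSystem H67.HallPetrescu H57.Mc H89.MX H57.Ess H57.TvPair
open H86.FusBasic H86.FusSat H86.FusAlperin
open Matrix

variable {Ω : Type*} [Group Ω] {S : Subgroup Ω} [Finite S] {p n : ℕ} [hp : Fact p.Prime]
  {F : FusionSystem S} {E C W B : Subgroup Ω} {τ : MulAut E}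

theorem tau (D : Dat S p n F E) (hCE : C ≤ E) (hC : Nat.card C = p ^ 2)
    (hc : ∀ g ∈ S, g ∈ normalizer (E : Set Ω) → ∀ z ∈ C, g * z = z * g) :
    ∃ (τ : MulAut E) (W B : Subgroup Ω), Tau S p F E C τ W B := by
  have hS : IsPGroup p ↥S := D.mc.isPGroup
  have hfE : Finite E := finite_of_le D.ess.1.1
  have hcomm : ∀ a b : E, a * b = b * a := fun a b => Subtype.ext (D.comm a a.2 b b.2)
  have hci : (C.subgroupOf E).index = p := by
    have h1 := Subgroup.card_mul_index (C.subgroupOf E)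
    rw [Nat.card_congr (Subgroup.subgroupOfEquivOfLe hCE).toEquiv, hC, D.card, pow_succ p 2] at h1
    exact Nat.eq_of_mul_eq_mul_left (pow_pos hp.out.pos 2) h1
  obtain ⟨hcard, P, h1, h2, h3⟩ := plane_of_essential hS D.sat D.ess hcomm (C.subgroupOf E) (by
    intro v hv g hg hgN
    have := hc g hg hgN v (Subgroup.mem_subgroupOf.1 hv)
    rw [this, mul_assoc, mul_inv_cancel, mul_one]) hci
  have hπs : Function.Surjective P.π := fun x => ⟨P.ι x, P.ret x⟩
  have hcm : Nat.card (Multiplicative (Fin 2 → ZMod p)) = p ^ 2 := by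
    rw [Nat.card_congr Multiplicative.toAdd, Nat.card_fun, Nat.card_zmod, Nat.card_fin]
  refine ⟨P.rho (-1), P.ι.range.map E.subtype, P.π.ker.map E.subtype, ?_⟩
  constructor
  · exact h1 _
  · exact hCE
  · exact hC
  · exact hc
  · -- cardN
    have h4 := index_normalizer_of_card D.ess hcomm hcard
    have hEN : E ≤ S ⊓ normalizer (E : Set Ω) := le_normalizerIn D.ess.1.1
    have h5 := Subgroup.card_mul_index (E.subgroupOf (S ⊓ normalizer (E : Set Ω)))
    rw [h4, Nat.card_congr (Subgroup.subgroupOfEquivOfLe hEN).toEquiv, D.card, ← pow_succ] at h5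
    exact h5.symm
  · rintro x ⟨y, -, rfl⟩; exact y.2
  · rintro x ⟨y, hy, rfl⟩
    have h4 : P.π y = 1 := hy
    have h5 : y ∈ C.subgroupOf E := (h3 y).1 (by rw [h4]; rfl)
    exact Subgroup.mem_subgroupOf.1 h5
  · rw [eq_bot_iff]
    rintro x ⟨⟨y, ⟨m, rfl⟩, rfl⟩, ⟨z, hz, hzx⟩⟩
    have h4 : z = P.ι m := Subtype.ext hzx
    have h5 : P.π z = 1 := hz
    rw [h4, P.ret] at h5
    rw [Subgroup.mem_bot, h5, map_one, map_one]
  · apply le_antisymm
    · refine sup_le ?_ ?_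
      · rintro x ⟨y, -, rfl⟩; exact y.2
      · rintro x ⟨y, -, rfl⟩; exact y.2
    · intro e he
      have h4 : e = (P.ι (P.π ⟨e, he⟩) : Ω) * (((P.ι (P.π ⟨e, he⟩))⁻¹ * ⟨e, he⟩ : E) : Ω) := by
        rw [← Subgroup.coe_mul, mul_inv_cancel_left]
      rw [h4]
      have h5 : ((P.ι (P.π ⟨e, he⟩))⁻¹ * ⟨e, he⟩ : E) ∈ P.π.ker := by
        rw [MonoidHom.mem_ker, map_mul, map_inv, P.ret, inv_mul_cancel]
      refine mul_mem (le_sup_left (a := P.ι.range.map E.subtype)
          (Subgroup.mem_map.2 ⟨P.ι (P.π ⟨e, he⟩), ⟨P.π ⟨e, he⟩, rfl⟩, rfl⟩))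
        (le_sup_right (b := P.π.ker.map E.subtype)
          (Subgroup.mem_map.2 ⟨(P.ι (P.π ⟨e, he⟩))⁻¹ * ⟨e, he⟩, h5, rfl⟩))
  · rw [Nat.card_congr ((P.ι.range.equivMapOfInjective E.subtype E.subtype_injective).toEquiv).symm,
      Nat.card_congr (MonoidHom.ofInjective P.ι_injective).toEquiv.symm, hcm]
  · rw [Nat.card_congr ((P.π.ker.equivMapOfInjective E.subtype E.subtype_injective).toEquiv).symm]
    have h4 := Subgroup.card_mul_index P.π.ker
    rw [Subgroup.index_ker, MonoidHom.range_eq_top.2 hπs, Subgroup.card_top, hcm, D.card, pow_succ' p 2] at h4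
    exact Nat.eq_of_mul_eq_mul_right (pow_pos hp.out.pos 2) h4
  · rintro w ⟨y, ⟨m, rfl⟩, hm⟩
    have h4 : w = P.ι m := Subtype.ext hm.symm
    rw [h4, Plane.rho_apply]
    have h5 := P.act_ι ((-1 : SpecialLinearGroup (Fin 2) (ZMod p)) : Matrix _ _ _) m.toAdd
    rw [ofAdd_toAdd] at h5
    rw [h5, ← map_inv]
    congr 1
    apply Multiplicative.toAdd.injective
    rw [toAdd_ofAdd, toAdd_inv, Matrix.SpecialLinearGroup.coe_neg, Matrix.SpecialLinearGroup.coe_one,
      Matrix.neg_mulVec, Matrix.one_mulVec]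
  · rintro b ⟨y, hy, hb⟩
    have h4 : b = y := Subtype.ext hb.symm
    rw [h4, Plane.rho_apply]
    exact P.act_fix _ hy
  · intro e he g hg hgN
    have h4 : conjAut E hgN ∈ autInducedBy S E := conjAut_mem_autInducedBy hgN hg
    obtain ⟨t, ht⟩ := (h2 _).1 h4
    have h5 : (((conjAut E hgN) ⟨e, he⟩ : E) : Ω) = g * e * g⁻¹ := rfl
    rw [← h5, ht, Plane.rho_apply]
    have h6 : P.act (up t : SpecialLinearGroup (Fin 2) (ZMod p)).1 ⟨e, he⟩ =
      ⟨e, he⟩ * P.ι (Multiplicative.ofAdd ((up t).1 *ᵥ (P.π ⟨e, he⟩).toAdd - (P.π ⟨e, he⟩).toAdd)) := rfl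
    have h7 : ((P.act (up t : SpecialLinearGroup (Fin 2) (ZMod p)).1 ⟨e, he⟩ : E) : Ω) * e⁻¹ =
      (P.ι (Multiplicative.ofAdd ((up t).1 *ᵥ (P.π ⟨e, he⟩).toAdd - (P.π ⟨e, he⟩).toAdd)) : E) := by
      rw [h6, hcomm ⟨e, he⟩, Subgroup.coe_mul, mul_assoc, mul_inv_cancel, mul_one]
    show ((P.act (up t : SpecialLinearGroup (Fin 2) (ZMod p)).1 ⟨e, he⟩ : E) : Ω) * e⁻¹ ∈ _
    rw [h7]
    refine ⟨⟨_, ⟨_, rfl⟩, rfl⟩, ?_⟩
    have h8 := (h3 (P.ι (Multiplicative.ofAdd ((up t).1 *ᵥ (P.π ⟨e, he⟩).toAdd - (P.π ⟨e, he⟩).toAdd)))).1 (by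
      rw [P.ret, toAdd_ofAdd]
      simp [up, Matrix.mulVec, dotProduct, Fin.sum_univ_two])
    exact Subgroup.mem_subgroupOf.1 h8
  · -- cardV
    let f : Multiplicative (ZMod p) →* Ω :=
      { toFun := fun k => (P.ι (Multiplicative.ofAdd (Pi.single 0 k.toAdd)) : E)
        map_one' := by simp
        map_mul' := by
          intro a b
          rw [← Subgroup.coe_mul, ← map_mul, ← ofAdd_add, ← Pi.single_add, toAdd_mul] }
    have hf : Function.Injective f := by
      intro a b h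
      have h4 := Multiplicative.ofAdd.injective (P.ι_injective (Subtype.ext h))
      exact Multiplicative.toAdd.injective (Pi.single_injective 0 h4)
    have hr : (P.ι.range.map E.subtype ⊓ C : Subgroup Ω) = f.range := by
      apply le_antisymm
      · rintro x ⟨⟨y, ⟨m, rfl⟩, rfl⟩, hx⟩
        have h4 := (h3 (P.ι m)).2 (Subgroup.mem_subgroupOf.2 hx)
        rw [P.ret] at h4
        refine ⟨Multiplicative.ofAdd (m.toAdd 0), ?_⟩
        show ((P.ι (Multiplicative.ofAdd (Pi.single 0 (m.toAdd 0))) : E) : Ω) = (P.ι m : E)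
        congr 2
        apply Multiplicative.toAdd.injective
        rw [toAdd_ofAdd]
        ext i
        fin_cases i
        · simp
        · simpa using h4.symm
      · rintro x ⟨k, rfl⟩
        refine ⟨⟨_, ⟨_, rfl⟩, rfl⟩, ?_⟩
        refine Subgroup.mem_subgroupOf.1 ((h3 _).1 ?_)
        rw [P.ret]
        simp
    rw [hr, Nat.card_congr (MonoidHom.ofInjective hf).toEquiv.symm, Nat.card_congr Multiplicative.toAdd,
      Nat.card_zmod]

end H89.MXP
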