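import Cfsg.Agent.Lib.H89.MX0
import Cfsg.Agent.Lib.H89.MaxCl
import Cfsg.Agent.Lib.H89.MXP
import Cfsg.Agent.Lib.H15.MXR
import Cfsg.Agent.Lib.H23.MXS2
import Cfsg.Agent.Lib.H81.MXFin
import Cfsg.Agent.Lib.H67.MXF5
import Cfsg.Agent.Lib.H49.MXZB2
import Cfsg.Agent.Lib.H47.MXFAw
import Cfsg.Agent.Lib.H72.MXT
import Cfsg.Agent.Lib.H91.MXEV
import Cfsg.Agent.Lib.H26.MXQ
import Cfsg.Agent.Lib.H15.MXS1a
import Cfsg.Agent.Lib.H26.MXS1b
import Cfsg.Agent.Lib.H72.MXS1c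

/-! S5316: assembly. -/

set_option autoImplicit false
set_option linter.unusedSectionVars false

namespace H89.MXMain

open Subgroup Cfsg Cfsg.FusionSystem H67.HallPetrescu H57.Mc H89.MX

variable {Ω : Type*} [Group Ω] {S : Subgroup Ω} [Finite S] {p n : ℕ} [hp : Fact p.Prime]
  {F : FusionSystem S} {E C W B : Subgroup Ω} {τ : MulAut E}

theorem z2_or (D : Dat S p n F E) : K S (n - 2) ≤ E ∨
    (n = 6 ∧ ¬ TC ↥S 2 ≤ TC ↥S (n - 2) ∧ ¬ K S (n - 2) ≤ E ∧ Nat.card (E ⊓ K S (n - 3) : Subgroup Ω) = p ^ 2 ∧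
      K S (n - 1) ≤ E ∧ K S (n - 3) ≤ normalizer (E : Set Ω) ∧
      ∀ g ∈ S, g ∈ normalizer (E : Set Ω) → ∀ z ∈ E ⊓ K S (n - 3), g * z = z * g) := by
  by_cases h2 : K S (n - 2) ≤ E
  · exact Or.inl h2
  · right
    obtain ⟨hE1, hex, y, hy, hy'⟩ := H15.MXS1a.s1a D h2
    have hN := H72.MXT.card_norm D
    have hev : Even n := H91.MXEV.even_of_exc D.mc D.hp D.hn hex
    have hn := D.hn
    have h6 : 6 ≤ n := by
      rcases Nat.lt_or_ge 5 n with h | h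
      · exact h
      · exfalso
        have h5 : n = 5 := by omega
        subst h5
        exact absurd hev (by decide)
    obtain ⟨h1, h3, hE2, hc, hcen⟩ := H26.MXS1b.s1b D hN h2 hE1 hy hy' h6
    have h6' : n = 6 := by
      by_contra hne
      exact H72.MXS1c.s1c D hN hE1 hy hy' (by omega) h1 h3 hE2 hc
    exact ⟨h6', hex, h2, hc, h1, h3, hcen⟩

theorem cardK {i : ℕ} (h : MC p n ↥S) (hi : 2 ≤ i) (hin : i ≤ n) : Nat.card (K S i) = p ^ (n - i) := by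
  rw [← h.cardK i hi hin]
  exact (Nat.card_congr ((lcsF ↥S i).equivMapOfInjective S.subtype S.subtype_injective).toEquiv).symm

theorem K_le (S : Subgroup Ω) (i : ℕ) : K S i ≤ S := by
  rintro x ⟨y, -, rfl⟩; exact y.2

theorem K_conj (S : Subgroup Ω) (i : ℕ) {g : Ω} (hg : g ∈ S) {z : Ω} (hz : z ∈ K S i) : g * z * g⁻¹ ∈ K S i := by
  obtain ⟨y, hy, rfl⟩ := hz
  exact ⟨⟨g, hg⟩ * y * ⟨g, hg⟩⁻¹, (normalK i).conj_mem y hy ⟨g, hg⟩, rfl⟩

theorem ne_K3 (D : Dat S p n F E) : E ≠ K S (n - 3) := by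
  intro h
  have h1 := H72.MXT.card_norm D
  have h2 : normalizerIn S E = S := by
    refine le_antisymm inf_le_left (le_inf le_rfl ?_)
    intro g hg
    rw [Subgroup.mem_normalizer_iff]
    intro x
    rw [h]
    constructor
    · exact fun hx => K_conj S _ hg hx
    · intro hx
      have h3 := K_conj S (n - 3) (inv_mem hg) hx
      have h4 : g⁻¹ * (g * x * g⁻¹) * g⁻¹⁻¹ = x := by group
      rwa [h4] at h3
  rw [h2, D.mc.card] at h1
  have h3 := Nat.pow_right_injective hp.out.two_le h1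
  have h4 := D.hn
  omega

theorem no_dat (D : Dat S p n F E) : False := by
  have hn := D.hn
  rcases z2_or D with h2 | ⟨h6, hex, h2, hC, h1, h3, hcen⟩
  · have hne := ne_K3 D
    have hcK : Nat.card (K S (n - 2)) = p ^ 2 := by
      rw [cardK D.mc (by omega) (by omega)]; congr 1; omega
    obtain ⟨τ, W, B, H⟩ := H89.MXP.tau D h2 hcK (H23.MXS2.norm_cent_of D (H72.MXT.card_norm D) h2 hne)
    rcases Nat.lt_or_ge 5 n with h6 | h6
    · obtain ⟨hex, hE1⟩ := H23.MXS2.caseA D h2 (H72.MXT.card_norm D) h6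
      exact H47.MXFA.finA_of D h6 h2 hex hE1 H (H49.MXZB.z1_eq D h6 h2 hex hE1 H)
        (fun h3 γ hγ => H26.MXQ.invK3 D H.cardN h3 hγ)
    · have h5 : n = 5 := by omega
      subst h5
      exact H81.MXFin.fin5 D h2 H
  · subst h6
    obtain ⟨τ, W, B, H⟩ := H89.MXP.tau D inf_le_left hC hcen
    exact H81.MXFin.finB D hex h2 h1 h3 H

theorem main (h5 : 5 ≤ p) (hS : IsPGroup p ↥S) (hcS : Nat.card S = p ^ n) (hn : 5 ≤ n)
    (hmax : Subgroup.lowerCentralSeries S (n - 2) ≠ ⊥) (hF : F.IsSaturated p) (hE : F.IsEssential p E)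
    (hnp : ¬ ((Nat.card ↥E = p ^ 2 ∧ IsElementaryAbelian p E) ∨
      (Nat.card ↥E = p ^ 3 ∧ IsExtraspecial p ↥E ∧ Monoid.exponent ↥E = p))) : p ^ 4 ≤ Nat.card E := by
  by_contra hlt
  obtain ⟨h1, h2, h3⟩ := H15.MXR.elem h5 hS hF hE hnp hlt
  have hcl := H89.MaxCl.class_eq_of_lcs (p := p) (by omega : 3 ≤ n) hcS hmax
  have hmc : MC p n ↥S := mc_of_class (by omega) hcS hcl
  refine no_dat (S := S) (p := p) (n := n) (F := F) (E := E) ⟨h5, hn, hmc, hF, hE, h1, ?_, h3⟩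
  intro x hx y hy
  exact congrArg Subtype.val (h2.is_comm.comm (⟨x, hx⟩ : E) ⟨y, hy⟩)

end H89.MXMain
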