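import Cfsg.Agent.S1896
import Cfsg.Agent.Lib.H76.SecRank2
import Cfsg.Agent.Lib.H76.TwoGen
import Cfsg.Agent.Lib.H76.MaxClass
import Cfsg.Agent.Lib.H3.MaxClassP
import Cfsg.Agent.Lib.H89.MetaOmega

/-!
Metacyclic 2-groups.
-/

set_option autoImplicit false
open scoped commutatorElement
open Cfsg

namespace H89.Meta2

theorem secRank_of_metacyclic {G : Type*} [Group G] [Finite G] (h : IsMetacyclic G) :
    SectionalPRankLE 2 2 G := by
  intro H N hN A hA hAe
  have h1 : IsMetacyclic A := H76.TwoGen.metacyclic_of_injective A.subtype A.subtype_injective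
    (H76.TwoGen.metacyclic_of_surjective (QuotientGroup.mk' N) (QuotientGroup.mk'_surjective N)
      (H76.TwoGen.metacyclic_of_injective H.subtype H.subtype_injective h))
  obtain ⟨C, hCn, hCc, hQc⟩ := h1
  have hA2 : ∀ a : A, a ^ 2 = 1 := fun a => Subtype.ext (hAe a a.2)
  have h2 : Nat.card C ≤ 2 := H89.MetaOmega.card_le_of_cyclic two_pos (fun c : C => c)
    Function.injective_id fun c => Subtype.ext (hA2 c)
  have h3 : Nat.card (A ⧸ C) ≤ 2 := by
    refine H89.MetaOmega.card_le_of_cyclic two_pos (fun c : A ⧸ C => c) Function.injective_id fun c => ?_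
    obtain ⟨a, rfl⟩ := QuotientGroup.mk'_surjective C c
    rw [← map_pow, hA2, map_one]
  have h4 := Subgroup.card_mul_index C
  rw [Subgroup.index_eq_card] at h4
  rw [← h4]
  exact Nat.mul_le_mul h2 h3

theorem index_comm_of_order_eight {M : Type*} [Group M] [Finite M] (hc : Nat.card M = 8)
    (hna : ¬ ∀ x y : M, x * y = y * x) : (commutator M).index = 4 := by
  have := Fact.mk Nat.prime_two
  have h1 : 2 ^ 2 ∣ (commutator M).index := H3.MaxClassP.sq_dvd_index_commutator (n := 3) (by norm_num) (by rw [hc]; norm_num)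
  have h2 : (commutator M).index ∣ 8 := hc ▸ Subgroup.index_dvd_card _
  have h3 : (commutator M).index ≠ 8 := by
    intro h
    apply hna
    have h4 := Subgroup.card_mul_index (commutator M)
    rw [h, hc] at h4
    have h5 : commutator M = ⊥ := by
      rw [← Subgroup.card_eq_one]
      omega
    intro x y
    have h6 : ⁅x, y⁆ ∈ commutator M := Subgroup.commutator_mem_commutator (Subgroup.mem_top x) (Subgroup.mem_top y)
    rw [h5, Subgroup.mem_bot] at h6
    exact commutatorElement_eq_one_iff_mul_comm.1 h6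
  have h4 : (commutator M).index ≤ 8 := Nat.le_of_dvd (by norm_num) h2
  obtain ⟨k, hk⟩ := h1
  rw [hk] at h2 h3 h4 ⊢
  have hk2 : k ≤ 2 := by omega
  interval_cases k
  · norm_num at h2
  · rfl
  · norm_num at h3

/-- A metacyclic 2-group with an abelian subgroup `D` of index two in which the involutions are squares acts trivially on
`D / D²`. -/
theorem metacyclic_index_two {M : Type*} [Group M] [Finite M] (hM : IsPGroup 2 M) (hm : IsMetacyclic M)
    {D : Subgroup M} (hidx : D.index = 2) (hab : ∀ x ∈ D, ∀ y ∈ D, x * y = y * x)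
    (hsq : ∀ x ∈ D, x * x = 1 → ∃ z ∈ D, x = z * z) (g : M) {x : M} (hx : x ∈ D) :
    ∃ z ∈ D, x⁻¹ * (g * x * g⁻¹) = z * z := by
  have hDn : D.Normal := Subgroup.normal_of_index_eq_two hidx
  -- it is enough to find one element outside `D`
  suffices h : ∃ h ∉ D, ∀ x ∈ D, ∃ z ∈ D, x⁻¹ * (h * x * h⁻¹) = z * z by
    obtain ⟨h, hh, hx'⟩ := h
    by_cases hg : g ∈ D
    · exact ⟨1, D.one_mem, by rw [hab g hg x hx]; group⟩
    have hd : h⁻¹ * g ∈ D := by
      have hh' : h⁻¹ ∉ D := fun h1 => hh (by simpa using D.inv_mem h1)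
      have := Subgroup.mul_mem_iff_of_index_two hidx (a := h⁻¹) (b := g)
      rw [this]
      exact ⟨fun h1 => absurd h1 hh', fun h1 => absurd h1 hg⟩
    obtain ⟨z, hz, hz'⟩ := hx' x hx
    refine ⟨z, hz, ?_⟩
    rw [← hz']
    have h1 := hab _ hd x hx
    congr 1
    calc g * x * g⁻¹ = h * ((h⁻¹ * g) * x) * (h⁻¹ * g)⁻¹ * h⁻¹ := by group
      _ = h * (x * (h⁻¹ * g)) * (h⁻¹ * g)⁻¹ * h⁻¹ := by rw [h1]
      _ = h * x * h⁻¹ := by group
  obtain ⟨N, hNn, hNc, hQc⟩ := hm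
  obtain ⟨⟨c, hcN⟩, hc⟩ := hNc.exists_generator
  have hcN' : ∀ n ∈ N, ∃ i : ℤ, c ^ i = n := by
    intro n hn
    obtain ⟨i, hi⟩ := Subgroup.mem_zpowers_iff.1 (hc ⟨n, hn⟩)
    exact ⟨i, congrArg Subtype.val hi⟩
  have hsqD : ∀ y : M, y * y ∈ D := fun y => Subgroup.mul_self_mem_of_index_two hidx y
  by_cases hND : N ≤ D
  · -- `N ≤ D`
    obtain ⟨hbar, hh⟩ := hQc.exists_generator
    obtain ⟨h, rfl⟩ := QuotientGroup.mk'_surjective N hbar
    have hgen : ∀ y : M, ∃ i : ℤ, ∃ n ∈ N, y = h ^ i * n := by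
      intro y
      obtain ⟨i, hi⟩ := Subgroup.mem_zpowers_iff.1 (hh (QuotientGroup.mk' N y))
      refine ⟨i, (h ^ i)⁻¹ * y, ?_, by group⟩
      rw [← map_zpow, QuotientGroup.mk'_apply, QuotientGroup.mk'_apply, QuotientGroup.eq] at hi
      exact hi
    have hhD : h ∉ D := by
      intro hhD
      have htop : D = ⊤ := by
        rw [eq_top_iff]
        intro y _
        obtain ⟨i, n, hn, rfl⟩ := hgen y
        exact D.mul_mem (D.zpow_mem hhD i) (hND hn)
      rw [htop, Subgroup.index_top] at hidx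
      omega
    refine ⟨h, hhD, ?_⟩
    -- the good elements
    have hmul : ∀ x ∈ D, ∀ y ∈ D, (∃ z ∈ D, x⁻¹ * (h * x * h⁻¹) = z * z) →
        (∃ z ∈ D, y⁻¹ * (h * y * h⁻¹) = z * z) → ∃ z ∈ D, (x * y)⁻¹ * (h * (x * y) * h⁻¹) = z * z := by
      rintro x hx y hy ⟨z, hz, hz'⟩ ⟨w, hw, hw'⟩
      refine ⟨z * w, D.mul_mem hz hw, ?_⟩
      have e1 : (x * y)⁻¹ * (h * (x * y) * h⁻¹) = y⁻¹ * (x⁻¹ * (h * x * h⁻¹)) * y * (y⁻¹ * (h * y * h⁻¹)) := by
        group
      have e2 : y⁻¹ * (z * z) * y = z * z := by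
        rw [hab y⁻¹ (D.inv_mem hy) _ (D.mul_mem hz hz)]; group
      rw [e1, hz', e2, hw']
      have e3 := hab z hz w hw
      calc z * z * (w * w) = z * (z * w) * w := by group
        _ = z * (w * z) * w := by rw [e3]
        _ = z * w * (z * w) := by group
    have hinv : ∀ x ∈ D, (∃ z ∈ D, x⁻¹ * (h * x * h⁻¹) = z * z) →
        ∃ z ∈ D, x⁻¹⁻¹ * (h * x⁻¹ * h⁻¹) = z * z := by
      rintro x hx ⟨z, hz, hz'⟩
      refine ⟨z⁻¹, D.inv_mem hz, ?_⟩
      have e1 : x⁻¹⁻¹ * (h * x⁻¹ * h⁻¹) = x * (x⁻¹ * (h * x * h⁻¹))⁻¹ * x⁻¹ := by group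
      have e2 := hab x hx _ (D.inv_mem (D.mul_mem hz hz))
      rw [e1, hz', e2]; group
    have hpow : ∀ x ∈ D, (∃ z ∈ D, x⁻¹ * (h * x * h⁻¹) = z * z) → ∀ i : ℤ,
        ∃ z ∈ D, (x ^ i)⁻¹ * (h * x ^ i * h⁻¹) = z * z := by
      intro x hx hz i
      have hnat : ∀ n : ℕ, ∃ z ∈ D, (x ^ n)⁻¹ * (h * x ^ n * h⁻¹) = z * z := by
        intro n
        induction n with
        | zero => exact ⟨1, D.one_mem, by simp⟩
        | succ n ih =>
          rw [pow_succ]
          exact hmul _ (D.pow_mem hx n) _ hx ih hz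
      obtain ⟨n, rfl | rfl⟩ := i.eq_nat_or_neg
      · rw [zpow_natCast]; exact hnat n
      · rw [zpow_neg, zpow_natCast]
        exact hinv _ (D.pow_mem hx n) (hnat n)
    have hcgood : ∃ z ∈ D, c⁻¹ * (h * c * h⁻¹) = z * z := by
      obtain ⟨k, hk⟩ := hcN' _ (hNn.conj_mem c hcN h)
      rw [← hk]
      rcases Int.even_or_odd k with ⟨j, hj⟩ | ⟨j, hj⟩
      · -- impossible unless `c = 1`
        obtain ⟨m, hm⟩ := (IsPGroup.iff_orderOf.1 hM) c
        rcases Nat.eq_zero_or_pos m with rfl | hm0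
        · have : c = 1 := by rw [← orderOf_eq_one_iff, hm, pow_zero]
          exact ⟨1, D.one_mem, by rw [this]; simp⟩
        exfalso
        have e1 : (h * c * h⁻¹) ^ (2 ^ (m - 1)) = 1 := by
          rw [← hk, hj, ← zpow_natCast, ← zpow_mul]
          have : (j + j) * ((2 ^ (m - 1) : ℕ) : ℤ) = ((2 ^ m : ℕ) : ℤ) * j := by
            have : (2 : ℤ) ^ m = 2 * 2 ^ (m - 1) := by rw [← pow_succ', Nat.sub_add_cancel hm0]
            push_cast
            rw [this]; ring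
          rw [this, zpow_mul, zpow_natCast, ← hm, pow_orderOf_eq_one, one_zpow]
        rw [conj_pow] at e1
        have e2 : c ^ 2 ^ (m - 1) = 1 := by
          have : c ^ 2 ^ (m - 1) = h⁻¹ * (h * c ^ 2 ^ (m - 1) * h⁻¹) * h := by group
          rw [this, e1]; group
        have e3 := orderOf_dvd_of_pow_eq_one e2
        rw [hm] at e3
        have e4 := (Nat.pow_dvd_pow_iff_le_right (by norm_num : 1 < 2)).1 e3
        omega
      · refine ⟨c ^ j, D.zpow_mem (hND hcN) j, ?_⟩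
        rw [hj, ← zpow_neg_one, ← zpow_add, ← zpow_add]
        congr 1; ring
    have hh2good : ∃ z ∈ D, (h * h)⁻¹ * (h * (h * h) * h⁻¹) = z * z := ⟨1, D.one_mem, by group⟩
    intro x hx
    obtain ⟨i, n, hn, rfl⟩ := hgen x
    have hiD : h ^ i ∈ D := by
      have := D.mul_mem hx (D.inv_mem (hND hn))
      rwa [mul_assoc, mul_inv_cancel, mul_one] at this
    have hieven : ∃ j : ℤ, h ^ i = (h * h) ^ j := by
      rcases Int.even_or_odd i with ⟨j, hj⟩ | ⟨j, hj⟩
      · refine ⟨j, ?_⟩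
        rw [hj, (Commute.refl h).mul_zpow, ← zpow_add]
      · exfalso
        apply hhD
        have e1 : h ^ i = (h * h) ^ j * h := by
          rw [hj, (Commute.refl h).mul_zpow, ← zpow_add, ← zpow_add_one]
          congr 1; ring
        have e2 := D.mul_mem (D.inv_mem (D.zpow_mem (hsqD h) j)) hiD
        rwa [e1, inv_mul_cancel_left] at e2
    obtain ⟨j, hj⟩ := hieven
    obtain ⟨l, rfl⟩ := hcN' n hn
    rw [hj]
    exact hmul _ (D.zpow_mem (hsqD h) j) _ (D.zpow_mem (hND hcN) l) (hpow _ (hsqD h) hh2good j)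
      (hpow _ (hND hcN) hcgood l)
  · -- `N` is not contained in `D`
    have hcD : c ∉ D := by
      intro h
      apply hND
      intro n hn
      obtain ⟨i, rfl⟩ := hcN' n hn
      exact D.zpow_mem h i
    refine ⟨c, hcD, fun x hx => ?_⟩
    obtain ⟨k, hk⟩ := hcN' _ (hNn.conj_mem c hcN x)
    have hc2 := hab x hx _ (hsqD c)
    -- `c ^ (2 (k-1)) = 1`
    have e1 : c ^ (k - 1) * c ^ (k - 1) = 1 := by
      have e2 : (x * c * x⁻¹) * (x * c * x⁻¹) = c * c := by
        calc (x * c * x⁻¹) * (x * c * x⁻¹) = (x * (c * c)) * x⁻¹ := by group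
          _ = (c * c * x) * x⁻¹ := by rw [hc2]
          _ = c * c := by group
      rw [← hk] at e2
      have e3 : c ^ (k - 1) * c ^ (k - 1) = (c ^ k * c ^ k) * (c * c)⁻¹ := by
        rw [mul_inv_rev, ← zpow_add, ← zpow_add, ← zpow_neg_one, ← zpow_add, ← zpow_add]
        congr 1; ring
      rw [e3, e2, mul_inv_cancel]
    have e4 : x * c * x⁻¹ * c⁻¹ = c ^ (k - 1) := by
      rw [← hk, zpow_sub_one]
    have e5 : x * c * x⁻¹ * c⁻¹ ∈ D := by
      have := D.mul_mem hx (hDn.conj_mem _ (D.inv_mem hx) c)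
      have e6 : x * (c * x⁻¹ * c⁻¹) = x * c * x⁻¹ * c⁻¹ := by group
      rwa [e6] at this
    set y := x⁻¹ * (c * x * c⁻¹) with hy
    have hyD : y ∈ D := D.mul_mem (D.inv_mem hx) (hDn.conj_mem _ hx c)
    have e6 : y = (x * c * x⁻¹ * c⁻¹)⁻¹ := by
      have e7 : y = x⁻¹ * (x * c * x⁻¹ * c⁻¹)⁻¹ * x := by rw [hy]; group
      rw [e7, hab _ (D.inv_mem hx) _ (D.inv_mem e5)]; group
    have e7 : y * y = 1 := by
      rw [e6, ← mul_inv_rev, e4, e1, inv_one]
    exact hsq y hyD e7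

end H89.Meta2
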