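import Cfsg.Agent.Lib.H38.SmallExp
import Cfsg.Agent.Lib.H39.Crit
import Mathlib.GroupTheory.SemidirectProduct

/-!
Automorphisms of order prime to `p` of a `p`-group acting trivially on the elements of order `p` (or 4).
-/

set_option autoImplicit false
open scoped commutatorElement
open Cfsg H38.SmallExp

namespace H89.SmallAut

/-- A `p'`-automorphism `β` of the finite `p`-group `D` with `[D, β] ≤ A`, fixing all elements of `A` of exponent `p` (4 if
`p = 2`), is trivial. -/
theorem aut_eq_one {D : Type*} [Group D] [Finite D] {p : ℕ} [Fact p.Prime] (hD : IsPGroup p D)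
    {β : MulAut D} (hβ : (orderOf β).Coprime p) (A : Subgroup D) (hA : ∀ x, x⁻¹ * β x ∈ A)
    (h : ∀ x ∈ A, x ^ ex p = 1 → β x = x) : β = 1 := by
  have hfM : Finite (MulAut D) := Finite.of_injective (fun e : MulAut D => (e : D → D)) DFunLike.coe_injective
  let φ : Subgroup.zpowers β →* MulAut D := (Subgroup.zpowers β).subtype
  let G := D ⋊[φ] (Subgroup.zpowers β)
  have hfG : Finite G := by
    have : Finite (D × Subgroup.zpowers β) := inferInstance
    exact Finite.of_equiv _ (SemidirectProduct.equivProd (φ := φ)).symm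
  let D' : Subgroup G := (SemidirectProduct.inl : D →* G).range
  have hD' : IsPGroup p D' := by
    rintro ⟨_, d, rfl⟩
    obtain ⟨k, hk⟩ := hD d
    refine ⟨k, Subtype.ext ?_⟩
    show (SemidirectProduct.inl d : G) ^ p ^ k = 1
    rw [← map_pow, hk, map_one]
  let g : G := SemidirectProduct.inr ⟨β, Subgroup.mem_zpowers β⟩
  have hgd : ∀ d : D, g * SemidirectProduct.inl d * g⁻¹ = SemidirectProduct.inl (β d) := by
    intro d
    have := SemidirectProduct.inl_aut (φ := φ) ⟨β, Subgroup.mem_zpowers β⟩ d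
    rw [map_inv] at this
    exact this.symm
  have hgo : (orderOf g).Coprime p := by
    have h1 : orderOf g = orderOf β := by
      rw [orderOf_injective (SemidirectProduct.inr : Subgroup.zpowers β →* G)
        SemidirectProduct.inr_injective]
      exact Subgroup.orderOf_mk β _
    rw [h1]
    exact hβ
  have hgN : g ∈ Subgroup.normalizer (D' : Set G) := by
    rw [Subgroup.mem_normalizer_iff]
    intro y
    constructor
    · rintro ⟨d, rfl⟩
      exact ⟨β d, (hgd d).symm⟩
    · rintro ⟨d, hd⟩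
      refine ⟨β⁻¹ d, ?_⟩
      have h1 := hgd (β⁻¹ d)
      rw [MulAut.apply_inv_self, hd] at h1
      simpa using h1
  by_contra hne
  have hgC : g ∉ Subgroup.centralizer (D' : Set G) := by
    intro hC
    apply hne
    ext d
    rw [MulAut.one_apply]
    have h1 := Subgroup.mem_centralizer_iff.1 hC (SemidirectProduct.inl d) ⟨d, rfl⟩
    have h2 := hgd d
    rw [← h1, mul_assoc, mul_inv_cancel, mul_one] at h2
    exact (SemidirectProduct.inl_injective h2).symm
  obtain ⟨E, hED, hEN, hE1, hEcl, hEx⟩ := exists_smallExp hD' hgN hgo hgC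
  have key : ∀ e ∈ E, e⁻¹ * (g * e * g⁻¹) = 1 := by
    have hEA : ∀ e ∈ E, ∃ d ∈ A, SemidirectProduct.inl d = e := by
      intro e he
      rw [← hEcl] at he
      have h3 : Subgroup.closure {x | ∃ e ∈ E, x = e⁻¹ * (g * e * g⁻¹)} ≤
          A.map (SemidirectProduct.inl : D →* G) := by
        rw [Subgroup.closure_le]
        rintro _ ⟨e, he, rfl⟩
        obtain ⟨d, rfl⟩ := hED he
        refine ⟨d⁻¹ * β d, hA d, ?_⟩
        rw [hgd, map_mul, map_inv]
      exact h3 he
    intro e he
    obtain ⟨d, hd, rfl⟩ := hEA e he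
    have h4 := hEx _ he
    rw [← map_pow, ← map_one (SemidirectProduct.inl : D →* G)] at h4
    have h5 := h d hd (SemidirectProduct.inl_injective h4)
    rw [hgd, h5, inv_mul_cancel]
  apply hE1
  rw [← hEcl, Subgroup.closure_eq_bot_iff]
  rintro _ ⟨e, he, rfl⟩
  exact key e he

/-- Every finite `p`-group has a characteristic subgroup of exponent `p` (dividing 4 if `p = 2`) on which the
`p'`-automorphisms act faithfully. -/
theorem exists_char_small (R : Type*) [Group R] [Finite R] {p : ℕ} [Fact p.Prime] (hR : IsPGroup p R) :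
    ∃ D : Subgroup R, D.Characteristic ∧ (∀ x ∈ D, x ^ ex p = 1) ∧
      ∀ β : MulAut R, (orderOf β).Coprime p → (∀ x ∈ D, β x = x) → β = 1 := by
  obtain ⟨C, hCc, hC1, hC2, hC3, hC4⟩ := H39.Crit.exists_critical hR
  have hCcomm : ∀ x ∈ C, ∀ y ∈ C, ∀ z ∈ C, (y * x * y⁻¹ * x⁻¹) * z = z * (y * x * y⁻¹ * x⁻¹) := by
    intro x hx y hy z hz
    have h1 : ⁅y, x⁆ ∈ Subgroup.centralizer (C : Set R) := hC2 (Subgroup.commutator_mem_commutator hy hx)
    exact (Subgroup.mem_centralizer_iff.1 h1 z hz).symm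
  have hpow : ∀ x ∈ C, ∀ y ∈ C, (y * x * y⁻¹ * x⁻¹) ^ p = 1 := by
    intro x hx y hy
    have h1 : x ^ p ∈ Subgroup.centralizer (C : Set R) := (hC1 x hx).2
    have h2 : y * x ^ p = x ^ p * y := Subgroup.mem_centralizer_iff.1 h1 y hy
    have h3 : y * x * y⁻¹ = (y * x * y⁻¹ * x⁻¹) * x := by group
    have h4 : Commute (y * x * y⁻¹ * x⁻¹) x := hCcomm x hx y hy x hx
    have h5 : (y * x * y⁻¹) ^ p = (y * x * y⁻¹ * x⁻¹) ^ p * x ^ p := by
      conv_lhs => rw [h3]
      exact h4.mul_pow p
    rw [conj_pow, h2, mul_assoc, mul_inv_cancel, mul_one] at h5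
    exact right_eq_mul.1 h5
  let D : Subgroup R :=
    { carrier := {x | x ∈ C ∧ x ^ ex p = 1}
      mul_mem' := by
        rintro a b ⟨ha, ha'⟩ ⟨hb, hb'⟩
        refine ⟨C.mul_mem ha hb, ?_⟩
        rw [mul_pow_classTwo (a := a) (b := b) (by
          rintro x (rfl | rfl)
          · exact hCcomm _ ha _ hb _ ha
          · exact hCcomm _ ha _ hb _ hb), ha', hb', one_mul, one_mul]
        obtain ⟨k, hk⟩ := dvd_tri (p := p)
        rw [hk, pow_mul, hpow a ha b hb, one_pow]
      one_mem' := ⟨C.one_mem, one_pow _⟩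
      inv_mem' := by
        rintro a ⟨ha, ha'⟩
        exact ⟨C.inv_mem ha, by rw [inv_pow, ha', inv_one]⟩ }
  have hDC : ∀ x, x ∈ D ↔ x ∈ C ∧ x ^ ex p = 1 := fun _ => Iff.rfl
  refine ⟨D, ?_, fun x hx => hx.2, fun β hβ hfix => ?_⟩
  · rw [Subgroup.characteristic_iff_le_comap]
    intro φ x hx
    rw [Subgroup.mem_comap]
    have h1 : φ x ∈ C := Subgroup.mem_comap.1 ((Subgroup.characteristic_iff_le_comap.1 hCc φ) hx.1)
    refine ⟨h1, ?_⟩
    show φ x ^ ex p = 1
    rw [← map_pow, hx.2, map_one]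
  · -- `β` is trivial on `C`
    have hβC : ∀ x ∈ C, β x ∈ C := fun x hx =>
      Subgroup.mem_comap.1 ((Subgroup.characteristic_iff_le_comap.1 hCc β) hx)
    have hCmap : C.map β.toMonoidHom = C := Subgroup.characteristic_iff_map_eq.1 hCc β
    let β' : MulAut C := (β.subgroupMap C).trans (MulEquiv.subgroupCongr hCmap)
    have hβ' : ∀ x : C, ((β' x : C) : R) = β x := fun x => rfl
    have hpw : ∀ (n : ℕ) (x : C), (((β' ^ n) x : C) : R) = (β ^ n) x := by
      intro n
      induction n with
      | zero => intro x; rfl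
      | succ n ih =>
        intro x
        rw [pow_succ', pow_succ', MulAut.mul_apply, MulAut.mul_apply, hβ', ih]
    have hord : (orderOf β').Coprime p := by
      refine Nat.Coprime.coprime_dvd_left ?_ hβ
      apply orderOf_dvd_of_pow_eq_one
      ext x
      rw [hpw, pow_orderOf_eq_one]
      rfl
    have h1 : β' = 1 := by
      refine aut_eq_one (hR.to_subgroup C) hord ⊤ (fun _ => Subgroup.mem_top _) (fun x _ hx => ?_)
      apply Subtype.ext
      rw [hβ']
      exact hfix x ⟨x.2, congrArg Subtype.val hx⟩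
    refine H39.Crit.eq_one_of_coprime hR (fun x c hc => (hC3 x c hc).1) hC4 β hβ fun a ha => ?_
    have h2 := hβ' ⟨a, ha⟩
    rw [h1] at h2
    exact h2.symm

end H89.SmallAut
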