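import Cfsg.Agent.Lib.H89.SmallAut
import Cfsg.Agent.Lib.H89.Normal3
import Cfsg.Agent.Lib.H88.Focal
import Cfsg.Agent.Lib.H88.Chains
import Cfsg.Agent.Lib.H87.Grow

/-!
Normality criteria for fusion systems in terms of elements of order `p` or 4: S5236, S5297, S5298, S5300.
-/

set_option autoImplicit false
open scoped commutatorElement
open Cfsg Cfsg.FusionSystem H86.FusBasic H86.FusSat H86.FusAlperin H89.Normal H89.Normal2 H89.Normal3
  H89.SmallAut H38.SmallExp

namespace H89.SmallFus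

variable {Ω : Type*} [Group Ω] {S : Subgroup Ω}

theorem omegaOne_char (p : ℕ) (P : Subgroup Ω) : ((omegaOne p P).subgroupOf P).Characteristic := by
  have h1 : omegaOne p P = (Subgroup.closure {x : P | x ^ p = 1}).map P.subtype := by
    rw [MonoidHom.map_closure]
    unfold omegaOne
    congr 1
    ext x
    constructor
    · rintro ⟨hx, hx'⟩
      exact ⟨⟨x, hx⟩, Subtype.ext hx', rfl⟩
    · rintro ⟨y, hy, rfl⟩
      exact ⟨y.2, congrArg Subtype.val hy⟩
  rw [h1]
  apply characteristic_subgroupOf_map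
  rw [Subgroup.characteristic_iff_le_comap]
  intro φ
  rw [Subgroup.closure_le]
  intro x hx
  apply Subgroup.subset_closure
  show φ x ^ p = 1
  rw [← map_pow, show x ^ p = 1 from hx, map_one]

/-- S5236 -/
theorem isNormal_iff_omega_chain [Finite S] {p : ℕ} [hp : Fact p.Prime] (hS : IsPGroup p S)
    {F : FusionSystem S} (hF : F.IsSaturated p) (hp2 : p ≠ 2) {P : Subgroup Ω} (hP : F.StronglyClosed P) :
    F.IsNormal P ↔ ∃ (n : ℕ) (Q : Fin (n + 1) → Subgroup Ω), Q 0 = ⊥ ∧ Q (Fin.last n) = omegaOne p P ∧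
      Monotone Q ∧ (∀ i : Fin (n + 1), F.StronglyClosed (Q i)) ∧ ∀ i : Fin n, ⁅Q i.succ, P⁆ ≤ Q i.castSucc := by
  have hPS := hP.1
  have hΩP : omegaOne p P ≤ P := by
    unfold omegaOne
    rw [Subgroup.closure_le]
    exact fun x hx => hx.1
  have hPN : S ≤ Subgroup.normalizer (P : Set Ω) := by
    intro s hs
    rw [Subgroup.mem_normalizer_iff]
    intro x
    constructor
    · exact fun hx => H87.Grow.StronglyClosed.conj_mem hP hs hx
    · intro hx
      have := H87.Grow.StronglyClosed.conj_mem' hP hs hx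
      have h2 : s⁻¹ * (s * x * s⁻¹) * s = x := by group
      rwa [h2] at this
  constructor
  · intro hn
    obtain ⟨d, n, h0, hdn, hm, hle, hch, hcomm⟩ := exists_central_chain hS hn.1
    have hΩc : ((omegaOne p P).subgroupOf P).Characteristic := omegaOne_char p P
    have hΩ : F.StronglyClosed (omegaOne p P) :=
      stronglyClosed_of_isNormal (isNormal_of_characteristic hn hΩP hΩc)
    have hd : ∀ i, F.StronglyClosed (d i) := fun i =>
      stronglyClosed_of_isNormal (isNormal_of_characteristic hn (hle _) (hch _))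
    have hΩN : ∀ x ∈ P, ∀ y ∈ omegaOne p P, x * y * x⁻¹ ∈ omegaOne p P := by
      intro x hx y hy
      exact H87.Grow.StronglyClosed.conj_mem hΩ (hPS hx) hy
    refine ⟨n, fun i => d i ⊓ omegaOne p P, ?_, ?_, ?_, ?_, ?_⟩
    · show d 0 ⊓ _ = ⊥
      rw [h0, bot_inf_eq]
    · show d n ⊓ _ = _
      rw [hdn]
      exact inf_eq_right.2 hΩP
    · intro i j hij
      exact inf_le_inf_right _ (hm hij)
    · intro i
      refine ⟨inf_le_left.trans (hd i).1, fun R hR φ hφ x => ?_⟩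
      exact ⟨(hd i).2 R (hR.trans inf_le_left) φ hφ x, hΩ.2 R (hR.trans inf_le_right) φ hφ x⟩
    · intro i
      rw [Subgroup.commutator_le]
      rintro x ⟨hx1, hx2⟩ y hy
      refine ⟨?_, ?_⟩
      · have h1 := hcomm i (Subgroup.commutator_mem_commutator hy hx1)
        rw [← commutatorElement_inv] at h1
        exact (Subgroup.inv_mem_iff _).1 h1
      · have h1 : ⁅x, y⁆ = x * (y * x * y⁻¹)⁻¹ := by rw [commutatorElement_def]; group
        rw [h1]
        exact Subgroup.mul_mem _ hx2 (Subgroup.inv_mem _ (hΩN y hy x hx2))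
  · rintro ⟨n, Q, hQ0, hQn, hQm, hQc, hQ⟩
    rw [isNormal_iff_stronglyClosed_le_radical hS hF]
    refine ⟨hP, fun R hRc hRr => ?_⟩
    have hRS := hRc.1
    have hfR : Finite R := finite_of_le hRS
    let d : ℕ → Subgroup Ω := fun i => if h : i < n + 1 then Q ⟨i, h⟩ else ⊥
    have hdi : ∀ i (h : i < n + 1), d i = Q ⟨i, h⟩ := fun i h => dif_pos h
    refine le_of_radical_chain hS hRc hRr hPS (hRS.trans hPN) d n ?_ ?_ ?_ P ?_ ?_ ?_
    · rw [hdi 0 (Nat.succ_pos n)]
      exact hQ0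
    · intro i hi α hα x hx
      rw [hdi i (Nat.lt_succ_of_le hi)] at hx ⊢
      exact stronglyClosed_apply_mem (hQc _) ((H86.FusBasic.mem_autGroup F hRS).1 hα) hx
    · intro i hi g hg _ x hxR hx
      rw [hdi (i + 1) (Nat.succ_lt_succ hi)] at hx
      rw [hdi i (hi.trans (Nat.lt_succ_self n))]
      have h1 := hQ ⟨i, hi⟩ (Subgroup.commutator_mem_commutator (Subgroup.inv_mem _ hx) hg)
      have h2 : x⁻¹ * (g * x * g⁻¹) = ⁅x⁻¹, g⁆ := by rw [commutatorElement_def]; group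
      rw [h2]
      exact h1
    · intro α hα x hx
      exact stronglyClosed_apply_mem hP ((H86.FusBasic.mem_autGroup F hRS).1 hα) hx
    · intro g hg _ x hx
      have h1 := H87.Grow.StronglyClosed.conj_mem' hP (hRS hx) hg
      have h2 : x⁻¹ * (g * x * g⁻¹) = (x⁻¹ * g * x) * g⁻¹ := by group
      rw [h2]
      exact P.mul_mem h1 (P.inv_mem hg)
    · intro β hβ hβp hβP hfix
      refine aut_eq_one (hS.to_le hRS) hβp (P.subgroupOf R) (fun x => hβP x) (fun x hx hx1 => ?_)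
      apply hfix
      rw [hdi n (Nat.lt_succ_self n)]
      show (x : Ω) ∈ Q (Fin.last n)
      rw [hQn]
      apply Subgroup.subset_closure
      refine ⟨hx, ?_⟩
      have h3 : ex p = p := if_neg hp2
      rw [h3] at hx1
      exact congrArg Subtype.val hx1

/-- In `P ≤ S` there is a subgroup of `P ∩ hyp(F)`, of small exponent, invariant under `Aut_F(P)`, on which the
`p'`-elements of `Aut_F(P)` act faithfully. -/
theorem exists_small_sub [Finite S] {p : ℕ} [hp : Fact p.Prime] (hS : IsPGroup p S)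
    {F : FusionSystem S} (hF : F.IsSaturated p) {P : Subgroup Ω} (hPS : P ≤ S) :
    ∃ D : Subgroup Ω, D ≤ P ∧ D ≤ F.hyperfocalSubgroup p ∧ (∀ x ∈ D, x ^ ex p = 1) ∧
      (∀ α ∈ F.autGroup P, ∀ x : P, (x : Ω) ∈ D → ((α x : P) : Ω) ∈ D) ∧
      ∀ β ∈ F.autGroup P, (orderOf β).Coprime p → (∀ x : P, (x : Ω) ∈ D → β x = x) → β = 1 := by
  have hfP : Finite P := finite_of_le hPS
  have hhyp := H88.Focal.hyp_stronglyClosed hS hF
  set H := F.hyperfocalSubgroup p with hH
  let R : Subgroup P := H.subgroupOf P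
  obtain ⟨D, hDc, hDx, hDf⟩ := exists_char_small ↥R (((hS.to_le hPS)).to_subgroup R)
  have hRinv : ∀ α ∈ F.autGroup P, ∀ x : P, x ∈ R → α x ∈ R := by
    intro α hα x hx
    exact stronglyClosed_apply_mem hhyp ((H86.FusBasic.mem_autGroup F hPS).1 hα) hx
  have hRmap : ∀ α ∈ F.autGroup P, R.map α.toMonoidHom = R := by
    intro α hα
    apply le_antisymm
    · rintro _ ⟨x, hx, rfl⟩
      exact hRinv α hα x hx
    · intro x hx
      exact ⟨α⁻¹ x, hRinv _ (Subgroup.inv_mem _ hα) x hx, MulAut.apply_inv_self _ _ _⟩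
  let r : ∀ α ∈ F.autGroup P, MulAut R := fun α hα =>
    (α.subgroupMap R).trans (MulEquiv.subgroupCongr (hRmap α hα))
  have hr : ∀ α (hα : α ∈ F.autGroup P) (x : R), ((r α hα x : R) : P) = α x := fun α hα x => rfl
  have hmem : ∀ x : Ω, x ∈ (D.map R.subtype).map P.subtype ↔ ∃ (hx : x ∈ P) (hx' : ⟨x, hx⟩ ∈ R),
      (⟨⟨x, hx⟩, hx'⟩ : R) ∈ D := by
    intro x
    constructor
    · rintro ⟨_, ⟨y, hy, rfl⟩, rfl⟩
      exact ⟨(y : P).2, y.2, hy⟩
    · rintro ⟨hx, hx', h⟩
      exact ⟨_, ⟨_, h, rfl⟩, rfl⟩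
  refine ⟨(D.map R.subtype).map P.subtype, ?_, ?_, ?_, ?_, ?_⟩
  · exact Subgroup.map_subtype_le _
  · intro x hx
    obtain ⟨hxP, hxR, -⟩ := (hmem x).1 hx
    exact hxR
  · intro x hx
    obtain ⟨hxP, hxR, hxD⟩ := (hmem x).1 hx
    have h1 := hDx _ hxD
    exact congrArg (fun z : R => ((z : P) : Ω)) h1
  · intro α hα x hx
    obtain ⟨hxP, hxR, hxD⟩ := (hmem x).1 hx
    refine (hmem _).2 ⟨(α x).2, hRinv α hα x hxR, ?_⟩
    have h1 := (Subgroup.characteristic_iff_le_comap.1 hDc (r α hα)) hxD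
    exact h1
  · intro β hβ hβp hfix
    have hpw : ∀ (n : ℕ) (x : R), (((r β hβ ^ n) x : R) : P) = (β ^ n) x := by
      intro n
      induction n with
      | zero => intro x; rfl
      | succ n ih =>
        intro x
        rw [pow_succ', pow_succ', MulAut.mul_apply, MulAut.mul_apply, hr β hβ, ih]
    have hord : (orderOf (r β hβ)).Coprime p := by
      refine Nat.Coprime.coprime_dvd_left ?_ hβp
      apply orderOf_dvd_of_pow_eq_one
      ext x
      rw [hpw, pow_orderOf_eq_one]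
      rfl
    have h1 : r β hβ = 1 := by
      refine hDf _ hord fun x hx => ?_
      apply Subtype.ext
      rw [hr β hβ]
      apply hfix
      exact (hmem _).2 ⟨(x : P).2, x.2, hx⟩
    have h2 : ∀ x : P, x ∈ R → β x = x := by
      intro x hx
      have h3 := hr β hβ ⟨x, hx⟩
      rw [h1] at h3
      exact h3.symm
    ext x
    rw [MulAut.one_apply]
    congr 1
    apply coprime_fix (hS.to_le hPS) hβp
    apply h2
    exact H88.Focal.mem_hyp_of_coprime hPS hβ hβp x

/-- elements of small order generate cyclic groups of order `1`, `p` or `4` -/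
theorem card_zpowers_small {p : ℕ} [hp : Fact p.Prime] {x : Ω} (hx : x ^ ex p = 1) (hx1 : x ≠ 1) :
    Nat.card (Subgroup.zpowers x) = p ∨ Nat.card (Subgroup.zpowers x) = 4 := by
  rw [Nat.card_zpowers]
  have h1 : orderOf x ∣ ex p := orderOf_dvd_of_pow_eq_one hx
  have h2 : orderOf x ≠ 1 := fun h => hx1 (orderOf_eq_one_iff.1 h)
  unfold ex at h1
  split_ifs at h1 with h
  · subst h
    have h3 : orderOf x ∣ 2 ^ 2 := h1
    obtain ⟨k, hk, hk'⟩ := (Nat.dvd_prime_pow Nat.prime_two).1 h3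
    rw [hk'] at h2 ⊢
    interval_cases k
    · exact absurd rfl h2
    · left; rfl
    · right; rfl
  · left
    rcases (Nat.dvd_prime hp.out).1 h1 with h3 | h3
    · exact absurd h3 h2
    · exact h3

/-- The restriction of an automorphism of `P` to a cyclic subgroup, as a map of the system. -/
theorem restrict_cyclic {F : FusionSystem S} {P : Subgroup Ω} (hPS : P ≤ S) {α : MulAut P}
    (hα : α ∈ F.autGroup P) (x : P) : ∃ φ ∈ F.homSet (Subgroup.zpowers (x : Ω)) (Subgroup.zpowers ((α x : P) : Ω)),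
      φ ⟨x, Subgroup.mem_zpowers _⟩ = ((α x : P) : Ω) := by
  have hle : Subgroup.zpowers (x : Ω) ≤ P := by simp
  have h1 := (H86.FusBasic.mem_autGroup F hPS).1 hα
  refine ⟨(P.subtype.comp α.toMonoidHom).comp (Subgroup.inclusion hle), ⟨restrict_mem F h1 hle, ?_⟩, rfl⟩
  rintro ⟨y, hy⟩
  obtain ⟨k, rfl⟩ := Subgroup.mem_zpowers_iff.1 hy
  refine Subgroup.mem_zpowers_iff.2 ⟨k, ?_⟩
  show (((α x : P) : Ω)) ^ k = ((α (⟨(x : Ω) ^ k, hle hy⟩ : P) : P) : Ω)
  have h2 : (⟨(x : Ω) ^ k, hle hy⟩ : P) = x ^ k := rfl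
  rw [h2, map_zpow]
  rfl

/-- S5298 -/
theorem eq_inner_of_small [Finite S] {p : ℕ} [hp : Fact p.Prime] (hS : IsPGroup p S)
    {F : FusionSystem S} (hF : F.IsSaturated p)
    (h : ∀ A B : Subgroup Ω, A ≤ (F.hyperfocalSubgroup p) → B ≤ (F.hyperfocalSubgroup p) → IsCyclic ↥A →
      (Nat.card ↥A = p ∨ Nat.card ↥A = 4) → IsCyclic ↥B → (Nat.card ↥B = p ∨ Nat.card ↥B = 4) →
      F.homSet A B ⊆ (innerFusionSystem S).Hom A) : F = innerFusionSystem S := by
  refine H88.Chains.eq_inner_of_coprime hS hF fun P hPS β hβ hβp => ?_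
  obtain ⟨D, hDP, hDH, hDx, hDinv, hDf⟩ := exists_small_sub hS hF hPS
  obtain ⟨d, n, h0, hdn, hm, hle, hch, hcomm⟩ := exists_central_chain hS (le_refl S)
  have hconj : ∀ x : P, (x : Ω) ∈ D → ∃ s ∈ S, ((β x : P) : Ω) = s * x * s⁻¹ := by
    intro x hx
    by_cases hx1 : (x : Ω) = 1
    · have : x = 1 := Subtype.ext hx1
      rw [this, map_one]
      exact ⟨1, S.one_mem, by simp⟩
    have hβD := hDinv β hβ x hx
    have hβx1 : ((β x : P) : Ω) ≠ 1 := by
      intro h1
      apply hx1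
      have h2 : β x = 1 := Subtype.ext h1
      rw [← map_one β] at h2
      rw [β.injective h2]
      rfl
    obtain ⟨φ, hφ, hφx⟩ := restrict_cyclic hPS hβ x
    obtain ⟨-, s, hs, hx'⟩ := h _ _ (by simpa using hDH hx) (by simpa using hDH hβD) inferInstance
      (card_zpowers_small (hDx _ hx) hx1) inferInstance (card_zpowers_small (hDx _ hβD) hβx1) hφ
    exact ⟨s, hs, by rw [← hφx, hx']⟩
  have hPp : IsPGroup p P := hS.to_le hPS
  have hfix : ∀ i, ∀ x : P, (x : Ω) ∈ D → (x : Ω) ∈ d i → β x = x := by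
    intro i
    induction i with
    | zero =>
      intro x _ hx
      rw [h0, Subgroup.mem_bot] at hx
      have : x = 1 := Subtype.ext hx
      rw [this, map_one]
    | succ i ih =>
      intro x hxD hx
      apply coprime_fix hPp hβp
      apply ih
      · exact D.mul_mem (D.inv_mem hxD) (hDinv β hβ x hxD)
      · obtain ⟨s, hs, hsx⟩ := hconj x hxD
        show (x : Ω)⁻¹ * ((β x : P) : Ω) ∈ d i
        rw [hsx]
        have h2 : (x : Ω)⁻¹ * (s * x * s⁻¹) = ⁅s, (x : Ω)⁻¹⁆⁻¹ := by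
          rw [commutatorElement_def]; group
        rw [h2]
        exact Subgroup.inv_mem _ (hcomm i (Subgroup.commutator_mem_commutator hs (Subgroup.inv_mem _ hx)))
  refine hDf β hβ hβp fun x hx => hfix n x hx ?_
  rw [hdn]
  exact hPS x.2

/-- S5297 -/
theorem top_normal_of_small [Finite S] {p : ℕ} [hp : Fact p.Prime] (hS : IsPGroup p S)
    {F : FusionSystem S} (hF : F.IsSaturated p)
    (h : ∀ A B : Subgroup Ω, A ≤ (F.hyperfocalSubgroup p) → B ≤ (F.hyperfocalSubgroup p) → IsCyclic ↥A →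
      (Nat.card ↥A = p ∨ Nat.card ↥A = 4) → IsCyclic ↥B → (Nat.card ↥B = p ∨ Nat.card ↥B = 4) →
      F.homSet A B ⊆ F.normalizerHom S A) : F.IsNormal S := by
  rw [isNormal_iff_stronglyClosed_le_radical hS hF]
  refine ⟨⟨le_rfl, fun R _ φ hφ x => apply_mem F hφ x⟩, fun P hPc hPr => ?_⟩
  have hPS := hPc.1
  obtain ⟨D, hDP, hDH, hDx, hDinv, hDf⟩ := exists_small_sub hS hF hPS
  obtain ⟨d, n, h0, hdn, hm, hle, hch, hcomm⟩ := exists_central_chain hS (le_refl S)
  -- characteristic subgroups of `S` are respected by the small elements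
  have hchar : ∀ α ∈ F.autGroup P, ∀ i, ∀ x : P, (x : Ω) ∈ D → (x : Ω) ∈ d i → ((α x : P) : Ω) ∈ d i := by
    intro α hα i x hx hxd
    by_cases hx1 : (x : Ω) = 1
    · have : x = 1 := Subtype.ext hx1
      rw [this, map_one]
      exact Subgroup.one_mem _
    have hβD := hDinv α hα x hx
    have hβx1 : ((α x : P) : Ω) ≠ 1 := by
      intro h1
      apply hx1
      have h2 : α x = 1 := Subtype.ext h1
      rw [← map_one α] at h2
      rw [α.injective h2]
      rfl
    obtain ⟨φ, hφ, hφx⟩ := restrict_cyclic hPS hα x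
    obtain ⟨-, -, -, ψ, hψ, hψφ, hψS⟩ := h _ _ (by simpa using hDH hx) (by simpa using hDH hβD) inferInstance
      (card_zpowers_small (hDx _ hx) hx1) inferInstance (card_zpowers_small (hDx _ hβD) hβx1) hφ
    have hxS : (x : Ω) ∈ S := hPS x.2
    have hψinj := F.injective_of_mem hψ
    -- the automorphism of `S`
    have hκ : ∃ κ : MulAut S, ∀ s : S, ((κ s : S) : Ω) = ψ ⟨s, (le_sup_right : S ≤ Subgroup.zpowers (x : Ω) ⊔ S) s.2⟩ := by
      have hmem : ∀ s : S, ψ ⟨s, (le_sup_right : S ≤ Subgroup.zpowers (x : Ω) ⊔ S) s.2⟩ ∈ S := fun s => apply_mem F hψ _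
      let κ : S →* S := (ψ.comp (Subgroup.inclusion (le_sup_right : S ≤ Subgroup.zpowers (x : Ω) ⊔ S))).codRestrict S hmem
      have hκi : Function.Injective κ := by
        intro a b hab
        have h1 : ψ (Subgroup.inclusion (le_sup_right : S ≤ Subgroup.zpowers (x : Ω) ⊔ S) a) =
          ψ (Subgroup.inclusion (le_sup_right : S ≤ Subgroup.zpowers (x : Ω) ⊔ S) b) := congrArg Subtype.val hab
        exact Subgroup.inclusion_injective _ (hψinj h1)
      exact ⟨MulEquiv.ofBijective κ (Finite.injective_iff_bijective.1 hκi), fun s => rfl⟩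
    obtain ⟨κ, hκ⟩ := hκ
    have h3 := (Subgroup.characteristic_iff_le_comap.1 (hch i) κ) (show (⟨x, hxS⟩ : S) ∈ (d i).subgroupOf S from hxd)
    have h4 : ((κ ⟨x, hxS⟩ : S) : Ω) ∈ d i := h3
    rw [hκ] at h4
    have h5 := hψφ ⟨x, Subgroup.mem_zpowers _⟩
    rw [hφx] at h5
    rw [← h5]
    exact h4
  refine le_of_radical_chain hS hPc hPr le_rfl (hPS.trans Subgroup.le_normalizer)
    (fun i => D ⊓ d i) n (by simp [h0]) ?_ ?_ P (fun α _ x _ => (α x).2) ?_ ?_
  · intro i _ α hα x hx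
    exact ⟨hDinv α hα x hx.1, hchar α hα i x hx.1 hx.2⟩
  · intro i _ g hg hgN x hxP hx
    have hxg : conjAut P hgN ∈ F.autGroup P :=
      autInducedBy_le_autGroup F hPS (conjAut_mem_autInducedBy hgN hg)
    refine ⟨D.mul_mem (D.inv_mem hx.1) (hDinv _ hxg ⟨x, hxP⟩ hx.1), ?_⟩
    have h2 : x⁻¹ * (g * x * g⁻¹) = ⁅g, x⁻¹⁆⁻¹ := by
      rw [commutatorElement_def]; group
    rw [h2]
    exact Subgroup.inv_mem _ (hcomm i (Subgroup.commutator_mem_commutator hg (Subgroup.inv_mem _ hx.2)))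
  · intro g hg hgN x hx
    exact P.mul_mem (P.inv_mem hx) ((Subgroup.mem_normalizer_iff.1 hgN x).1 hx)
  · intro β hβ hβp _ hfix
    refine hDf β hβ hβp fun x hx => hfix x ⟨hx, ?_⟩
    rw [hdn]
    exact hPS x.2

/-- a `p`-element normalizing `⟨x⟩`, `x ^ p = 1`, centralizes `x`. -/
theorem comm_of_prime {p : ℕ} [hp : Fact p.Prime] {x s : Ω} (hx : x ^ p = 1) {m : ℕ} (hs : s ^ p ^ m = 1)
    (h : s * x * s⁻¹ ∈ Subgroup.zpowers x) : s * x * s⁻¹ = x := by
  obtain ⟨k, hk⟩ := Subgroup.mem_zpowers_iff.1 h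
  have h1 : ∀ n : ℕ, s ^ n * x * (s ^ n)⁻¹ = x ^ (k ^ n) := by
    intro n
    induction n with
    | zero => simp
    | succ n ih =>
      have h2 : s ^ (n + 1) * x * (s ^ (n + 1))⁻¹ = s ^ n * (s * x * s⁻¹) * (s ^ n)⁻¹ := by
        rw [pow_succ]; group
      rw [h2, ← hk, ← conj_zpow, ih, ← zpow_mul, pow_succ]
  by_cases hx1 : x = 1
  · rw [hx1]; group
  have hord : orderOf x = p := orderOf_eq_prime hx hx1
  have h2 := h1 (p ^ m)
  rw [hs] at h2
  have h3 : x ^ (k ^ p ^ m - 1) = 1 := by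
    rw [zpow_sub, ← h2]; group
  have h4 : (p : ℤ) ∣ k ^ p ^ m - 1 := by
    have h9 := orderOf_dvd_iff_zpow_eq_one.2 h3
    rwa [hord] at h9
  have h5 : ((k : ZMod p)) ^ p ^ m = 1 := by
    have := (ZMod.intCast_zmod_eq_zero_iff_dvd _ p).2 h4
    push_cast at this
    exact sub_eq_zero.1 this
  rw [ZMod.pow_card_pow] at h5
  have h6 : (p : ℤ) ∣ k - 1 := by
    rw [← ZMod.intCast_zmod_eq_zero_iff_dvd]
    push_cast
    rw [h5, sub_self]
  have h7 : x ^ (k - 1) = 1 := by
    apply orderOf_dvd_iff_zpow_eq_one.1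
    rw [hord]
    exact h6
  have h8 : x ^ k = x := by
    have : x ^ k = x ^ (k - 1) * x := by rw [← zpow_add_one]; congr 1; ring
    rw [this, h7, one_mul]
  rw [← hk, h8]

/-- S5300 -/
theorem top_normal_of_cyclic_normal [Finite S] {p : ℕ} [hp : Fact p.Prime] (hS : IsPGroup p S)
    {F : FusionSystem S} (hF : F.IsSaturated p)
    (hnorm : ∀ x ∈ F.focalSubgroup, (x ^ p = 1 ∨ (p = 2 ∧ x ^ 4 = 1)) → ∀ s ∈ S, s * x * s⁻¹ ∈ Subgroup.zpowers x) :
    F.IsNormal S := by
  rw [isNormal_iff_stronglyClosed_le_radical hS hF]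
  refine ⟨⟨le_rfl, fun R _ φ hφ x => apply_mem F hφ x⟩, fun P hPc hPr => ?_⟩
  have hPS := hPc.1
  set T := F.focalSubgroup with hT
  have hTN : ∀ s ∈ S, ∀ x ∈ T, s * x * s⁻¹ ∈ T := by
    intro s hs x hx
    have h1 := H88.Focal.conj_mem_foc (F := F) (H88.Focal.foc_le F hx) hs
    have h2 : s * x * s⁻¹ = x * (x⁻¹ * (s * x * s⁻¹)) := by group
    rw [h2]
    exact T.mul_mem hx h1
  have hTc : F.StronglyClosed T := by
    refine ⟨H88.Focal.foc_le F, fun R hR φ hφ x => ?_⟩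
    have h1 := H88.Focal.mem_foc hφ x
    have h2 : φ x = x * ((x : Ω)⁻¹ * φ x) := by group
    rw [h2]
    exact T.mul_mem (hR x.2) h1
  -- the two groups
  let X : ℕ → Set Ω := fun k => {x | x ∈ P ∧ x ∈ T ∧ x ^ k = 1}
  have hcen : ∀ x ∈ X p, ∀ s ∈ S, s * x * s⁻¹ = x := by
    rintro x ⟨hxP, hxT, hx⟩ s hs
    obtain ⟨m, hm⟩ := hS ⟨s, hs⟩
    exact comm_of_prime hx (congrArg Subtype.val hm) (hnorm x hxT (Or.inl hx) s hs)
  have hcen' : ∀ x ∈ Subgroup.closure (X p), ∀ s ∈ S, s * x * s⁻¹ = x := by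
    intro x hx s hs
    induction hx using Subgroup.closure_induction with
    | mem y hy => exact hcen y hy s hs
    | one => group
    | mul a b _ _ ha hb =>
      have : s * (a * b) * s⁻¹ = (s * a * s⁻¹) * (s * b * s⁻¹) := by group
      rw [this, ha, hb]
    | inv a _ ha =>
      have : s * a⁻¹ * s⁻¹ = (s * a * s⁻¹)⁻¹ := by group
      rw [this, ha]
  have hsq : ∀ x ∈ X (ex p), ∀ s ∈ S, (x⁻¹ * (s * x * s⁻¹)) ∈ Subgroup.closure (X p) := by
    rintro x ⟨hxP, hxT, hx⟩ s hs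
    have h1 : s * x * s⁻¹ ∈ Subgroup.zpowers x := hnorm x hxT (ex_iff.1 hx) s hs
    by_cases h2 : x ^ p = 1
    · rw [hcen x ⟨hxP, hxT, h2⟩ s hs, inv_mul_cancel]
      exact Subgroup.one_mem _
    rcases ex_iff.1 hx with h3 | ⟨rfl, h3⟩
    · exact absurd h3 h2
    obtain ⟨k, hk⟩ := Subgroup.mem_zpowers_iff.1 h1
    apply Subgroup.subset_closure
    have h4 : x⁻¹ * (s * x * s⁻¹) = x ^ (k - 1) := by
      rw [← hk, zpow_sub_one]
      exact ((Commute.refl x).zpow_right k).inv_left.eq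
    rw [h4]
    have hPk : x ^ (k - 1) ∈ P := P.zpow_mem hxP _
    have hTk : x ^ (k - 1) ∈ T := T.zpow_mem hxT _
    refine ⟨hPk, hTk, ?_⟩
    rcases Int.even_or_odd k with ⟨j, hj⟩ | ⟨j, hj⟩
    · exfalso
      apply h2
      have h5 : (s * x * s⁻¹) ^ 2 = 1 := by
        rw [← hk, ← zpow_natCast, ← zpow_mul, hj]
        have : (j + j) * ((2 : ℕ) : ℤ) = 4 * j := by push_cast; ring
        rw [this, zpow_mul]
        have : x ^ (4 : ℤ) = 1 := by exact_mod_cast h3
        rw [this, one_zpow]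
      rw [conj_pow] at h5
      have h6 : x ^ 2 = s⁻¹ * (s * x ^ 2 * s⁻¹) * s := by group
      rw [h6, h5]; group
    · rw [← zpow_natCast, ← zpow_mul, hj]
      have : (2 * j + 1 - 1) * ((2 : ℕ) : ℤ) = 4 * j := by push_cast; ring
      rw [this, zpow_mul]
      have : x ^ (4 : ℤ) = 1 := by exact_mod_cast h3
      rw [this, one_zpow]
  have hsq' : ∀ x ∈ Subgroup.closure (X (ex p)), ∀ s ∈ S, (x⁻¹ * (s * x * s⁻¹)) ∈ Subgroup.closure (X p) := by
    intro x hx s hs
    have hXS : ∀ k, Subgroup.closure (X k) ≤ S := by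
      intro k
      rw [Subgroup.closure_le]
      exact fun y hy => hPS hy.1
    induction hx using Subgroup.closure_induction with
    | mem y hy => exact hsq y hy s hs
    | one => simp
    | mul a b ha' hb' ha hb =>
      have : (a * b)⁻¹ * (s * (a * b) * s⁻¹) =
        (b⁻¹ * (a⁻¹ * (s * a * s⁻¹)) * b⁻¹⁻¹) * (b⁻¹ * (s * b * s⁻¹)) := by group
      rw [this, hcen' _ ha b⁻¹ (S.inv_mem (hXS _ hb'))]
      exact Subgroup.mul_mem _ ha hb
    | inv a ha' ha =>
      have h3 : a⁻¹⁻¹ * (s * a⁻¹ * s⁻¹) = a * (a⁻¹ * (s * a * s⁻¹))⁻¹ * a⁻¹ := by group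
      rw [h3, hcen' _ (Subgroup.inv_mem _ ha) a (hXS _ ha')]
      exact Subgroup.inv_mem _ ha
  let d : ℕ → Subgroup Ω := fun i => if i = 0 then ⊥ else if i = 1 then Subgroup.closure (X p) else Subgroup.closure (X (ex p))
  have hXinv : ∀ k, ∀ α ∈ F.autGroup P, ∀ x : P, (x : Ω) ∈ Subgroup.closure (X k) →
      ((α x : P) : Ω) ∈ Subgroup.closure (X k) := by
    intro k α hα x hx
    have h1 : Subgroup.closure (X k) = (Subgroup.closure {x : P | (x : Ω) ∈ T ∧ x ^ k = 1}).map P.subtype := by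
      rw [MonoidHom.map_closure]
      congr 1
      ext y
      constructor
      · rintro ⟨h1, h2, h3⟩
        exact ⟨⟨y, h1⟩, ⟨h2, Subtype.ext h3⟩, rfl⟩
      · rintro ⟨y, ⟨h1, h2⟩, rfl⟩
        exact ⟨y.2, h1, congrArg Subtype.val h2⟩
    rw [h1] at hx ⊢
    obtain ⟨y, hy, hyx⟩ := hx
    have hyx' : y = x := Subtype.ext hyx
    subst hyx'
    refine ⟨α y, ?_, rfl⟩
    have h2 : Subgroup.closure {x : P | (x : Ω) ∈ T ∧ x ^ k = 1} ≤
        (Subgroup.closure {x : P | (x : Ω) ∈ T ∧ x ^ k = 1}).comap α.toMonoidHom := by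
      rw [Subgroup.closure_le]
      rintro z ⟨hz1, hz2⟩
      apply Subgroup.subset_closure
      refine ⟨stronglyClosed_apply_mem hTc ((H86.FusBasic.mem_autGroup F hPS).1 hα) hz1, ?_⟩
      show (α z) ^ k = 1
      rw [← map_pow, hz2, map_one]
    exact h2 hy
  refine le_of_radical_chain hS hPc hPr le_rfl (hPS.trans Subgroup.le_normalizer)
    d 2 (by simp [d]) ?_ ?_ T ?_ ?_ ?_
  · intro i hi α hα x hx
    interval_cases i
    · simp only [d, if_true, Subgroup.mem_bot] at hx ⊢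
      have : x = 1 := Subtype.ext hx
      rw [this, map_one]
      rfl
    · simp only [d, one_ne_zero, if_true, if_false] at hx ⊢
      exact hXinv _ α hα x hx
    · simp only [d, OfNat.ofNat_ne_zero, OfNat.ofNat_ne_one, if_false] at hx ⊢
      exact hXinv _ α hα x hx
  · intro i hi g hg _ x hxP hx
    interval_cases i
    · simp only [d, zero_add, one_ne_zero, if_true, if_false] at hx ⊢
      rw [hcen' x hx g hg, inv_mul_cancel]
      exact Subgroup.one_mem _
    · simp only [d, Nat.reduceAdd, OfNat.ofNat_ne_zero, OfNat.ofNat_ne_one, one_ne_zero, if_true, if_false] at hx ⊢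
      exact hsq' x hx g hg
  · intro α hα x hx
    exact stronglyClosed_apply_mem hTc ((H86.FusBasic.mem_autGroup F hPS).1 hα) hx
  · intro g hg _ x hx
    exact H88.Focal.conj_mem_foc (hPS hx) hg
  · intro β hβ hβp hβT hfix
    have hfP : Finite P := finite_of_le hPS
    refine aut_eq_one (hS.to_le hPS) hβp (T.subgroupOf P) (fun x => hβT x) (fun x hx hx1 => ?_)
    apply hfix
    simp only [d, OfNat.ofNat_ne_zero, OfNat.ofNat_ne_one, if_false]
    exact Subgroup.subset_closure ⟨x.2, hx, congrArg Subtype.val hx1⟩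

end H89.SmallFus
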