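import Cfsg.Agent.Lib.H89.Rk2Act
import Cfsg.Agent.Lib.H89.NonCentric
import Cfsg.Agent.Lib.H89.Meta2Fus
import Cfsg.Agent.Lib.H89.SmallAut
import Cfsg.Agent.Lib.H89.SmallFus
import Cfsg.Agent.Lib.H3.OmegaRankTwo

/-! S5289: rank two, common part. -/

set_option autoImplicit false
set_option linter.unusedSectionVars false
open scoped commutatorElement
open Cfsg Cfsg.FusionSystem H86.FusBasic H86.FusSat H86.FusAlperin H89.Normal H89.Normal2

namespace H89.Rk2A

/-- Restriction of automorphisms to an invariant subgroup. -/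
def res {P : Type*} [Group P] (X : Subgroup P) (hX : ∀ α : MulAut P, ∀ x ∈ X, α x ∈ X) : MulAut P →* MulAut X where
  toFun α :=
    { toFun := fun x => ⟨α x, hX α x x.2⟩
      invFun := fun x => ⟨α⁻¹ x, hX α⁻¹ x x.2⟩
      left_inv := fun x => Subtype.ext (MulAut.inv_apply_self P α x)
      right_inv := fun x => Subtype.ext (MulAut.apply_inv_self P α x)
      map_mul' := fun x y => Subtype.ext (map_mul α (x : P) y) }
  map_one' := by ext x; rfl
  map_mul' α β := by ext x; rfl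

@[simp] theorem res_apply {P : Type*} [Group P] (X : Subgroup P) (hX : ∀ α : MulAut P, ∀ x ∈ X, α x ∈ X) (α : MulAut P)
    (x : X) : ((res X hX α x : X) : P) = α x := rfl

/-- The action on the quotient by an invariant subgroup. -/
def quo {X : Type*} [Group X] (Y : Subgroup X) [Y.Normal] (hY : ∀ α : MulAut X, ∀ x ∈ Y, α x ∈ Y) :
    MulAut X →* MulAut (X ⧸ Y) where
  toFun α :=
    { toFun := QuotientGroup.map Y Y α.toMonoidHom (fun x hx => hY α x hx)
      invFun := QuotientGroup.map Y Y (α⁻¹ : MulAut X).toMonoidHom (fun x hx => hY α⁻¹ x hx)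
      left_inv := fun x => by
        obtain ⟨x, rfl⟩ := QuotientGroup.mk_surjective x
        show ((α⁻¹ (α x) : X) : X ⧸ Y) = x
        rw [MulAut.inv_apply_self]
      right_inv := fun x => by
        obtain ⟨x, rfl⟩ := QuotientGroup.mk_surjective x
        show ((α (α⁻¹ x) : X) : X ⧸ Y) = x
        rw [MulAut.apply_inv_self]
      map_mul' := fun x y => map_mul _ x y }
  map_one' := by
    ext x
    obtain ⟨x, rfl⟩ := QuotientGroup.mk_surjective x
    rfl
  map_mul' α β := by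
    ext x
    obtain ⟨x, rfl⟩ := QuotientGroup.mk_surjective x
    rfl

theorem quo_apply {X : Type*} [Group X] (Y : Subgroup X) [Y.Normal] (hY : ∀ α : MulAut X, ∀ x ∈ Y, α x ∈ Y)
    (α : MulAut X) (x : X) : quo Y hY α (x : X ⧸ Y) = ((α x : X) : X ⧸ Y) := rfl

/-- The elements of order dividing `p`, when they form a subgroup. -/
def Om (p : ℕ) (P : Type*) [Group P] (h : ∀ x y : P, x ^ p = 1 → y ^ p = 1 → (x * y) ^ p = 1) : Subgroup P where
  carrier := {x | x ^ p = 1}
  mul_mem' := fun {x y} hx hy => h x y hx hy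
  one_mem' := one_pow p
  inv_mem' := fun {x} hx => by
    show x⁻¹ ^ p = 1
    rw [inv_pow, hx, inv_one]

theorem mem_Om {p : ℕ} {P : Type*} [Group P] {h : ∀ x y : P, x ^ p = 1 → y ^ p = 1 → (x * y) ^ p = 1} {x : P} :
    x ∈ Om p P h ↔ x ^ p = 1 := Iff.rfl

theorem Om_inv {p : ℕ} {P : Type*} [Group P] {h : ∀ x y : P, x ^ p = 1 → y ^ p = 1 → (x * y) ^ p = 1} (α : MulAut P)
    (x : P) (hx : x ∈ Om p P h) : α x ∈ Om p P h := by
  rw [mem_Om] at hx ⊢
  rw [← map_pow, hx, map_one]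

variable {Ω : Type*} [Group Ω] {S : Subgroup Ω} {F : FusionSystem S} {p : ℕ} {P : Subgroup Ω}

/-- A centric radical proper subgroup, fully normalized. -/
structure CRN (F : FusionSystem S) (p : ℕ) (P : Subgroup Ω) : Prop where
  fn : F.IsFullyNormalized P
  cen : F.IsCentric P
  rad : F.IsRadical p P
  ne : P ≠ S

section
variable [Finite S] [hp : Fact p.Prime] (hS : IsPGroup p S) (hF : F.IsSaturated p)

include hS in
theorem CRN.ex (hP : CRN F p P) : ∃ g ∈ S, ∃ _ : g ∈ Subgroup.normalizer (P : Set Ω), g ∉ P := by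
  have h1 : P < S := lt_of_le_of_ne hP.cen.1 hP.ne
  have h2 := H86.FusCentric.lt_inf_normalizer hS h1
  obtain ⟨g, hg, hgP⟩ := SetLike.exists_of_lt h2
  exact ⟨g, hg.1, hg.2, hgP⟩

/-- No normal `p`-subgroup of `Aut_F(P)` contains `Aut_S(P)`. -/
theorem CRN.mem (hP : CRN F p P) {N : Subgroup (F.autGroup P)} (hN : N.Normal) (hNp : IsPGroup p N)
    {g : Ω} (hg : g ∈ S) (hgN : g ∈ Subgroup.normalizer (P : Set Ω))
    (h : (⟨conjAut P hgN, autInducedBy_le_autGroup F hP.cen.1 (conjAut_mem_autInducedBy _ hg)⟩ : F.autGroup P) ∈ N) :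
    g ∈ P := by
  refine Meta2Fus.mem_of_radical hP.cen hP.rad (N.map (F.autGroup P).subtype) ?_ ?_ ?_ hg hgN ?_
  · rintro _ ⟨x, -, rfl⟩
    exact x.2
  · rintro α hα _ ⟨x, hx, rfl⟩
    exact ⟨⟨α, hα⟩ * x * ⟨α, hα⟩⁻¹, hN.conj_mem x hx ⟨α, hα⟩, rfl⟩
  · exact hNp.map _
  · exact ⟨_, h, rfl⟩

include hS in
theorem CRN.hQn (hP : CRN F p P) (N : Subgroup (F.autGroup P)) (hN : N.Normal) (hNp : IsPGroup p N) :
    ¬ (autInducedBy S P).subgroupOf (F.autGroup P) ≤ N := by
  intro hle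
  obtain ⟨g, hg, hgN, hgP⟩ := hP.ex hS
  exact hgP (hP.mem hN hNp hg hgN (hle (conjAut_mem_autInducedBy hgN hg)))

end

/-- An automorphism of order prime to `p` trivial on the elements of order `p` is trivial, for odd `p`. -/
theorem eq_one_of_trivial [hp : Fact p.Prime] (hp2 : p ≠ 2) {D : Type*} [Group D] [Finite D] (hD : IsPGroup p D)
    {β : MulAut D} (hβ : (orderOf β).Coprime p) (h : ∀ x : D, x ^ p = 1 → β x = x) : β = 1 := by
  refine H89.SmallAut.aut_eq_one hD hβ ⊤ (fun _ => Subgroup.mem_top _) fun x _ hx => h x ?_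
  unfold H38.SmallExp.ex at hx
  rwa [if_neg hp2] at hx

end H89.Rk2A
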