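import Mathlib

/-! Actions of a finite group on a plane over `F_p` with a non-normal Sylow `p`-subgroup: two transvections. -/

set_option autoImplicit false
set_option linter.unusedSectionVars false

namespace H89.Rk2Act

variable {G V : Type*} [Group G] [Finite G] [Group V] [Finite V] {p : ℕ} [hp : Fact p.Prime]

theorem zgen {V : Type*} [Group V] {z u : V} (hz : z ^ p = 1) {n : ℤ} (hu : u = z ^ n) (hu1 : u ≠ 1) :
    ∃ m : ℤ, z = u ^ m := by
  have h1 : ¬ (p : ℤ) ∣ n := by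
    rintro ⟨k, rfl⟩
    apply hu1
    rw [hu, zpow_mul, zpow_natCast, hz, one_zpow]
  have h2 : IsCoprime (p : ℤ) n := (Prime.coprime_iff_not_dvd (Nat.prime_iff_prime_int.1 hp.1)).2 h1
  obtain ⟨a, b, hab⟩ := h2
  refine ⟨b, ?_⟩
  rw [hu, ← zpow_mul]
  have h3 : n * b = 1 - (p : ℤ) * a := by linarith
  rw [h3, zpow_sub, zpow_mul, zpow_natCast, hz, one_zpow]
  simp

theorem dvd_of_zpow {V : Type*} [Group V] {z : V} (hz : z ^ p = 1) (hz1 : z ≠ 1) {n : ℤ} (h : z ^ n = 1) :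
    (p : ℤ) ∣ n := by
  have h1 := orderOf_dvd_iff_zpow_eq_one.2 h
  rwa [orderOf_eq_prime hz hz1] at h1

/-- A `p`-group acting on a nontrivial `p`-group has a nontrivial fixed point. -/
theorem exists_fix (hVp : IsPGroup p V) (hV1 : Nontrivial V) (ρ : G →* MulAut V) (Q : Subgroup G) (hQ : IsPGroup p Q) :
    ∃ u : V, u ≠ 1 ∧ ∀ q ∈ Q, ρ q u = u := by
  let _ : MulAction Q V := MulAction.compHom V (ρ.comp Q.subtype)
  have hsm : ∀ (q : Q) (v : V), q • v = ρ q v := fun q v => rfl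
  have h1 : p ∣ Nat.card V := by
    obtain ⟨n, hn⟩ := hVp.exists_card_eq
    rw [hn]
    have : n ≠ 0 := by
      rintro rfl
      rw [pow_zero] at hn
      have := Finite.one_lt_card (α := V)
      omega
    exact dvd_pow_self p this
  have h2 : (1 : V) ∈ MulAction.fixedPoints Q V := by
    intro q
    rw [hsm, map_one]
  obtain ⟨b, hb, hb1⟩ := hQ.exists_fixed_point_of_prime_dvd_card_of_fixed_point V h1 h2
  exact ⟨b, hb1.symm, fun q hq => hb ⟨q, hq⟩⟩

/-- On a plane: an automorphism of `p`-power order fixing `u` acts trivially modulo `u`. -/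
theorem mod_u (hV : Nat.card V = p ^ 2) (hVc : ∀ x y : V, x * y = y * x) (hVp : ∀ x : V, x ^ p = 1) {u : V} (hu1 : u ≠ 1)
    {α : MulAut V} {k : ℕ} (hα : α ^ p ^ k = 1) (hαu : α u = u) (x : V) : ∃ i : ℤ, α x = u ^ i * x := by
  have hn : (Subgroup.zpowers u).Normal := ⟨fun n hn g => by rw [hVc g n, mul_inv_cancel_right]; exact hn⟩
  have hcu : Nat.card (Subgroup.zpowers u) = p := by
    rw [Nat.card_zpowers]; exact orderOf_eq_prime (hVp u) hu1
  have hcq : Nat.card (V ⧸ Subgroup.zpowers u) = p := by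
    have h1 := Subgroup.card_eq_card_quotient_mul_card_subgroup (Subgroup.zpowers u)
    rw [hV, hcu, pow_two] at h1
    exact (Nat.eq_of_mul_eq_mul_right hp.1.pos h1).symm
  have hmap : (Subgroup.zpowers u).map α.toMonoidHom = Subgroup.zpowers u := by
    rw [MonoidHom.map_zpowers]
    congr 1
  let β : MulAut (V ⧸ Subgroup.zpowers u) := QuotientGroup.congr _ _ α hmap
  have hβ : ∀ x : V, β (x : V ⧸ Subgroup.zpowers u) = ((α x : V) : V ⧸ Subgroup.zpowers u) := fun x => rfl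
  have hcyc : IsCyclic (V ⧸ Subgroup.zpowers u) := isCyclic_of_prime_card hcq
  -- `β` has order dividing `p ^ k` and `p - 1`
  have hβk : β ^ p ^ k = 1 := by
    have h1 : ∀ n : ℕ, ∀ x : V, (β ^ n) (x : V ⧸ Subgroup.zpowers u) = (((α ^ n) x : V) : V ⧸ Subgroup.zpowers u) := by
      intro n
      induction n with
      | zero => intro x; simp
      | succ n ih => intro x; rw [pow_succ', MulAut.mul_apply, ih, hβ, pow_succ', MulAut.mul_apply]
    ext y
    obtain ⟨x, rfl⟩ := QuotientGroup.mk_surjective y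
    rw [h1, hα]
    simp
  have hcard : Nat.card (MulAut (V ⧸ Subgroup.zpowers u)) = p - 1 := by
    rw [IsCyclic.card_mulAut, hcq, Nat.totient_prime hp.1]
  have h2 : orderOf β ∣ p - 1 := by
    rw [← hcard]; exact orderOf_dvd_natCard β
  have h3 : orderOf β ∣ p ^ k := orderOf_dvd_of_pow_eq_one hβk
  have h4 : orderOf β = 1 := by
    have h5 : Nat.Coprime (p ^ k) (p - 1) := by
      apply Nat.Coprime.pow_left
      exact (Nat.coprime_self_sub_right hp.1.one_lt.le).2 (Nat.coprime_one_right p)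
    exact Nat.eq_one_of_dvd_coprimes h5 h3 h2
  have h5 : β = 1 := orderOf_eq_one_iff.1 h4
  have h6 : ((α x : V) : V ⧸ Subgroup.zpowers u) = (x : V ⧸ Subgroup.zpowers u) := by
    rw [← hβ, h5]; rfl
  obtain ⟨i, hi⟩ := (QuotientGroup.eq.1 h6.symm : x⁻¹ * α x ∈ Subgroup.zpowers u)
  refine ⟨i, ?_⟩
  have hi' : u ^ i = x⁻¹ * α x := hi
  rw [hi', hVc, mul_inv_cancel_left]

/-- The configuration of two transvections. -/
structure Tv (ρ : G →* MulAut V) (Q : Subgroup G) (p : ℕ) (u w : V) (a a₁ h : G) : Prop where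
  aQ : a ∈ Q
  a₁Q : a₁ ∈ Q
  u1 : u ≠ 1
  w1 : w ≠ 1
  Qu : ∀ q ∈ Q, ρ q u = u
  Qx : ∀ q ∈ Q, ∀ x, ∃ i : ℤ, ρ q x = u ^ i * x
  hu : ρ h u = w
  aw : ρ a w = u * w
  bu : ρ (h * a₁ * h⁻¹) u = w⁻¹ * u
  bw : ρ (h * a₁ * h⁻¹) w = w
  dec : ∀ x, ∃ i j : ℤ, x = u ^ i * w ^ j
  ind : ∀ i j : ℤ, u ^ i * w ^ j = 1 → (p : ℤ) ∣ i ∧ (p : ℤ) ∣ j
  opN : ∀ N : Subgroup G, N.Normal → IsPGroup p N → ∀ n ∈ N, ρ n = 1

theorem exists_tv (hV : Nat.card V = p ^ 2) (hVp : ∀ x : V, x ^ p = 1) (hVc : ∀ x y : V, x * y = y * x)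
    (ρ : G →* MulAut V) (hker : IsPGroup p ρ.ker) (Q : Subgroup G) (hQ : IsPGroup p Q)
    (hQn : ∀ N : Subgroup G, N.Normal → IsPGroup p N → ¬ Q ≤ N) :
    ∃ (u w : V) (a a₁ h : G), Tv ρ Q p u w a a₁ h := by
  have hVpg : IsPGroup p V := IsPGroup.of_card hV
  have hVnt : Nontrivial V := by
    apply Finite.one_lt_card_iff_nontrivial.1
    rw [hV]
    exact Nat.one_lt_pow (by norm_num) hp.1.one_lt
  obtain ⟨u, hu1, hQu⟩ := exists_fix hVpg hVnt ρ Q hQ
  have hpk : ∀ q ∈ Q, ∃ k : ℕ, (ρ q) ^ p ^ k = 1 := by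
    intro q hq
    obtain ⟨k, hk⟩ := hQ ⟨q, hq⟩
    refine ⟨k, ?_⟩
    rw [← map_pow]
    have : q ^ p ^ k = 1 := congrArg Subtype.val hk
    rw [this, map_one]
  have hQx : ∀ q ∈ Q, ∀ x, ∃ i : ℤ, ρ q x = u ^ i * x := by
    intro q hq x
    obtain ⟨k, hk⟩ := hpk q hq
    exact mod_u hV hVc hVp hu1 hk (hQu q hq) x
  have e : ∀ x y : V, Commute x y := hVc
  -- some `h` moves `⟨u⟩`
  obtain ⟨h, hh⟩ : ∃ h : G, ρ h u ∉ Subgroup.zpowers u := by
    by_contra hcon
    push Not at hcon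
    let N : Subgroup G :=
      { carrier := {α | ρ α u = u ∧ ∀ x, ∃ i : ℤ, ρ α x = u ^ i * x}
        mul_mem' := by
          rintro α β ⟨h1, h2⟩ ⟨h3, h4⟩
          refine ⟨by rw [map_mul, MulAut.mul_apply, h3, h1], fun x => ?_⟩
          obtain ⟨i, hi⟩ := h4 x
          obtain ⟨j, hj⟩ := h2 x
          refine ⟨i + j, ?_⟩
          rw [map_mul, MulAut.mul_apply, hi, map_mul, map_zpow, h1, hj, zpow_add, mul_assoc]
        one_mem' := ⟨by simp, fun x => ⟨0, by simp⟩⟩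
        inv_mem' := by
          rintro α ⟨h1, h2⟩
          have h3 : (ρ α)⁻¹ u = u := by
            apply (ρ α).injective
            rw [MulAut.apply_inv_self, h1]
          refine ⟨by rw [map_inv, h3], fun x => ?_⟩
          obtain ⟨i, hi⟩ := h2 ((ρ α)⁻¹ x)
          rw [MulAut.apply_inv_self] at hi
          refine ⟨-i, ?_⟩
          have h5 : u ^ (-i) * x = u ^ (-i) * (u ^ i * (ρ α)⁻¹ x) := congrArg _ hi
          rw [map_inv, h5, ← mul_assoc, ← zpow_add, neg_add_cancel, zpow_zero, one_mul] }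
    have hNN : N.Normal := by
      constructor
      rintro n ⟨h1, h2⟩ g
      obtain ⟨k, hk⟩ := hcon g
      obtain ⟨k', hk'⟩ := hcon g⁻¹
      have hk : u ^ k = ρ g u := hk
      have hk' : u ^ k' = ρ g⁻¹ u := hk'
      refine ⟨?_, fun x => ?_⟩
      · rw [map_mul, map_mul, MulAut.mul_apply, MulAut.mul_apply, ← hk', map_zpow, h1, hk', ← MulAut.mul_apply,
          ← map_mul, mul_inv_cancel, map_one, MulAut.one_apply]
      · obtain ⟨i, hi⟩ := h2 (ρ g⁻¹ x)
        refine ⟨k * i, ?_⟩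
        have h6 : ρ g (ρ g⁻¹ x) = x := by
          rw [← MulAut.mul_apply, ← map_mul, mul_inv_cancel, map_one, MulAut.one_apply]
        rw [map_mul, map_mul, MulAut.mul_apply, MulAut.mul_apply, hi, map_mul, map_zpow, ← hk, ← zpow_mul, h6]
    have hNp : IsPGroup p N := by
      rintro ⟨α, h1, h2⟩
      have h3 : α ^ p ∈ ρ.ker := by
        rw [MonoidHom.mem_ker, map_pow]
        ext x
        obtain ⟨i, hi⟩ := h2 x
        have h4 : ∀ n : ℕ, ((ρ α) ^ n) x = (u ^ i) ^ n * x := by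
          intro n
          induction n with
          | zero => simp
          | succ n ih =>
            rw [pow_succ', MulAut.mul_apply, ih, map_mul, map_pow, map_zpow, h1, hi, pow_succ, mul_assoc]
        rw [h4, hVp, one_mul]
        rfl
      obtain ⟨k, hk⟩ := hker ⟨α ^ p, h3⟩
      refine ⟨k + 1, Subtype.ext ?_⟩
      have h5 : (α ^ p) ^ p ^ k = 1 := congrArg Subtype.val hk
      show α ^ p ^ (k + 1) = 1
      rw [pow_succ', pow_mul, h5]
    exact hQn N hNN hNp fun q hq => ⟨hQu q hq, hQx q hq⟩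
  set w := ρ h u with hw
  have hw1 : w ≠ 1 := fun h1 => hh (by rw [h1]; exact Subgroup.one_mem _)
  have hup := hVp u
  have hwp := hVp w
  have hcu : Nat.card (Subgroup.zpowers u) = p := by
    rw [Nat.card_zpowers]; exact orderOf_eq_prime hup hu1
  -- generation
  have hgen : ∀ v : V, v ∉ Subgroup.zpowers u → ∀ x, ∃ i j : ℤ, x = u ^ i * v ^ j := by
    intro v hv x
    let _ : CommGroup V := { (inferInstance : Group V) with mul_comm := hVc }
    have h4 : Subgroup.zpowers u ⊔ Subgroup.zpowers v = ⊤ := by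
      apply Subgroup.eq_top_of_card_eq
      have h5 : Subgroup.zpowers u < Subgroup.zpowers u ⊔ Subgroup.zpowers v := by
        refine lt_of_le_of_ne le_sup_left fun h => hv ?_
        rw [h]
        exact (le_sup_right : Subgroup.zpowers v ≤ _) (Subgroup.mem_zpowers _)
      have h6 : Nat.card (Subgroup.zpowers u ⊔ Subgroup.zpowers v : Subgroup V) ∣ p ^ 2 := by
        rw [← hV]; exact Subgroup.card_subgroup_dvd_card _
      have h7 : p < Nat.card (Subgroup.zpowers u ⊔ Subgroup.zpowers v : Subgroup V) := by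
        have h8 := Set.Finite.card_lt_card (Set.toFinite _) (SetLike.coe_ssubset_coe.2 h5)
        rw [← hcu]
        exact h8
      obtain ⟨j, hj, hj'⟩ := (Nat.dvd_prime_pow hp.1).1 h6
      rw [hj'] at h7 ⊢
      interval_cases j
      · simp at h7; have := hp.1.pos; omega
      · simp at h7
      · exact hV.symm
    have h5 : x ∈ Subgroup.zpowers u ⊔ Subgroup.zpowers v := by
      rw [h4]; exact Subgroup.mem_top _
    obtain ⟨_, ⟨i, rfl⟩, _, ⟨j, rfl⟩, hij⟩ := Subgroup.mem_sup.1 h5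
    exact ⟨i, j, hij.symm⟩
  have hind : ∀ i j : ℤ, u ^ i * w ^ j = 1 → (p : ℤ) ∣ i ∧ (p : ℤ) ∣ j := by
    intro i j hij
    have h1 : w ^ j = u ^ (-i) := by
      rw [zpow_neg, eq_inv_iff_mul_eq_one, hVc]; exact hij
    have h2 : w ^ j = 1 := by
      by_contra hne
      obtain ⟨m, hm⟩ := zgen hwp rfl hne
      apply hh
      rw [hm, h1, ← zpow_mul]
      exact ⟨_, rfl⟩
    rw [h2, mul_one] at hij
    exact ⟨dvd_of_zpow hup hu1 hij, dvd_of_zpow hwp hw1 h2⟩
  -- a nontrivial element of `Q`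
  obtain ⟨q, hq, hqne⟩ : ∃ q ∈ Q, ρ q ≠ 1 := by
    by_contra hcon
    push Not at hcon
    exact hQn ρ.ker inferInstance hker fun q hq => hcon q hq
  have hq1 : ∀ v : V, v ∉ Subgroup.zpowers u → ∀ m : ℤ, ∃ q' ∈ Q, ρ q' v = u ^ m * v := by
    intro v hv m
    obtain ⟨i, hi⟩ := hQx q hq v
    have h1 : u ^ i ≠ 1 := by
      intro h1
      rw [h1, one_mul] at hi
      apply hqne
      ext x
      obtain ⟨k, l, rfl⟩ := hgen v hv x
      rw [map_mul, map_zpow, map_zpow, hQu q hq, hi]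
      rfl
    obtain ⟨k, hk⟩ := zgen hup rfl h1
    have h2 : ∀ n : ℕ, ((ρ q) ^ n) v = (u ^ i) ^ n * v := by
      intro n
      induction n with
      | zero => simp
      | succ n ih => rw [pow_succ', MulAut.mul_apply, ih, map_mul, map_pow, map_zpow, hQu q hq, hi, pow_succ, mul_assoc]
    have hfix : ∀ n : ℕ, ((ρ q) ^ n) u = u := by
      intro n
      induction n with
      | zero => simp
      | succ n ih => rw [pow_succ', MulAut.mul_apply, ih, hQu q hq]
    have h3 : ∀ n : ℤ, ((ρ q) ^ n) v = (u ^ i) ^ n * v := by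
      intro n
      rcases Int.eq_nat_or_neg n with ⟨j, rfl | rfl⟩
      · rw [zpow_natCast, zpow_natCast, h2]
      · apply ((ρ q) ^ j).injective
        rw [zpow_neg, zpow_natCast, MulAut.apply_inv_self, zpow_neg, zpow_natCast, map_mul, h2, map_inv, map_pow,
          map_zpow, hfix, inv_mul_cancel_left]
    refine ⟨q ^ (k * m), Q.zpow_mem hq _, ?_⟩
    rw [map_zpow, h3, zpow_mul, ← hk]
  obtain ⟨a, haQ, haw⟩ := hq1 w hh 1
  rw [zpow_one] at haw
  have hh' : ρ h⁻¹ u ∉ Subgroup.zpowers u := by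
    rintro ⟨i, hi⟩
    have hi : u ^ i = ρ h⁻¹ u := hi
    have h1 : u ^ i ≠ 1 := by
      intro h1
      rw [h1] at hi
      apply hu1
      apply (ρ h⁻¹).injective
      rw [← hi, map_one]
    obtain ⟨m, hm⟩ := zgen hup rfl h1
    apply hh
    have h2 : u = w ^ i := by
      have h3 : ρ h (u ^ i) = u := by
        rw [hi, ← MulAut.mul_apply, ← map_mul, mul_inv_cancel, map_one, MulAut.one_apply]
      rw [map_zpow, ← hw] at h3
      exact h3.symm
    have h3 : w ^ i ≠ 1 := by rw [← h2]; exact hu1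
    obtain ⟨m, hm⟩ := zgen hwp rfl h3
    rw [hm, ← h2]
    exact ⟨_, rfl⟩
  obtain ⟨a₁, ha₁Q, ha₁⟩ := hq1 _ hh' (-1)
  rw [zpow_neg_one] at ha₁
  have hinv : ∀ x, ρ h (ρ h⁻¹ x) = x := by
    intro x
    rw [← MulAut.mul_apply, ← map_mul, mul_inv_cancel, map_one, MulAut.one_apply]
  have hbu : ρ (h * a₁ * h⁻¹) u = w⁻¹ * u := by
    rw [map_mul, map_mul, MulAut.mul_apply, MulAut.mul_apply, ha₁, map_mul, map_inv, hinv]
  have hbw : ρ (h * a₁ * h⁻¹) w = w := by
    have h1 : ρ h⁻¹ w = u := by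
      rw [hw, ← MulAut.mul_apply, ← map_mul, inv_mul_cancel, map_one, MulAut.one_apply]
    rw [map_mul, map_mul, MulAut.mul_apply, MulAut.mul_apply, h1, hQu a₁ ha₁Q]
  refine ⟨u, w, a, a₁, h, haQ, ha₁Q, hu1, hw1, hQu, hQx, rfl, haw, hbu, hbw, hgen w hh, hind, ?_⟩
  -- normal `p`-subgroups act trivially
  intro N hN hNp n hn
  obtain ⟨v, hv1, hv⟩ := exists_fix hVpg hVnt ρ N hNp
  have hinvar : ∀ g : G, ∀ x : V, (∀ n ∈ N, ρ n x = x) → ∀ n ∈ N, ρ n (ρ g x) = ρ g x := by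
    intro g x hx n hn
    have h1 := hx (g⁻¹ * n * g) (by
      have := hN.conj_mem n hn g⁻¹
      rwa [inv_inv] at this)
    have h2 : n * g = g * (g⁻¹ * n * g) := by group
    rw [← MulAut.mul_apply, ← map_mul, h2, map_mul, MulAut.mul_apply, h1]
  have hmulf : ∀ x y : V, (∀ n ∈ N, ρ n x = x) → (∀ n ∈ N, ρ n y = y) → ∀ n ∈ N, ρ n (x * y) = x * y := by
    intro x y hx hy n hn
    rw [map_mul, hx n hn, hy n hn]
  have hzp : ∀ x : V, (∀ n ∈ N, ρ n x = x) → ∀ i : ℤ, ∀ n ∈ N, ρ n (x ^ i) = x ^ i := by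
    intro x hx i n hn
    rw [map_zpow, hx n hn]
  have hu : ∀ n ∈ N, ρ n u = u := by
    by_cases hvu : v ∈ Subgroup.zpowers u
    · obtain ⟨i, hi⟩ := hvu
      have hi : u ^ i = v := hi
      obtain ⟨m, hm⟩ := zgen hup hi.symm hv1
      intro n hn
      rw [hm]
      exact hzp v hv m n hn
    · obtain ⟨q', hq', hq'v⟩ := hq1 v hvu 1
      rw [zpow_one] at hq'v
      have h1 : u = ρ q' v * v⁻¹ := by rw [hq'v]; group
      intro n hn
      rw [h1, map_mul, hinvar q' v hv n hn, map_inv, hv n hn]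
  ext x
  obtain ⟨i, j, rfl⟩ := hgen w hh x
  rw [map_mul, map_zpow, map_zpow, hu n hn, hinvar h u hu n hn]
  rfl

section
variable {ρ : G →* MulAut V} {Q : Subgroup G} {u w : V} {a a₁ h : G}

theorem Tv.au (ht : Tv ρ Q p u w a a₁ h) : ρ a u = u := ht.Qu a ht.aQ

theorem Tv.neg (ht : Tv ρ Q p u w a a₁ h) (hVc : ∀ x y : V, x * y = y * x) (x : V) :
    ρ ((a * (h * a₁ * h⁻¹) * a) ^ 2) x = x⁻¹ := by
  set b := h * a₁ * h⁻¹ with hb
  have h1 : ρ (a * b * a) u = w⁻¹ := by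
    rw [map_mul, map_mul, MulAut.mul_apply, MulAut.mul_apply, ht.au, ht.bu, map_mul, map_inv, ht.au, ht.aw,
      mul_inv_rev, mul_assoc, inv_mul_cancel, mul_one]
  have h2 : ρ (a * b * a) w = u := by
    rw [map_mul, map_mul, MulAut.mul_apply, MulAut.mul_apply, ht.aw, map_mul, ht.bu, ht.bw, hVc w⁻¹ u,
      inv_mul_cancel_right, ht.au]
  obtain ⟨i, j, rfl⟩ := ht.dec x
  have h3 : ρ ((a * b * a) ^ 2) u = u⁻¹ := by
    rw [pow_two, map_mul, MulAut.mul_apply, h1, map_inv, h2]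
  have h4 : ρ ((a * b * a) ^ 2) w = w⁻¹ := by
    rw [pow_two, map_mul, MulAut.mul_apply, h2, h1]
  rw [map_mul, map_zpow, map_zpow, h3, h4, mul_inv_rev, inv_zpow, inv_zpow, hVc]

/-- The torus element `diag(l, k)`. -/
theorem Tv.torus (ht : Tv ρ Q p u w a a₁ h) (hVc : ∀ x y : V, x * y = y * x) (hVp : ∀ x : V, x ^ p = 1) (l k : ℕ)
    (hlk : (p : ℤ) ∣ l * k - 1) :
    ρ (a ^ l * (h * a₁ * h⁻¹) ^ k * a ^ l * (a * (h * a₁ * h⁻¹) * a)⁻¹) u = u ^ l ∧
    ρ (a ^ l * (h * a₁ * h⁻¹) ^ k * a ^ l * (a * (h * a₁ * h⁻¹) * a)⁻¹) w = w ^ k := by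
  set b := h * a₁ * h⁻¹ with hb
  have e : ∀ x y : V, Commute x y := hVc
  have h1 : ρ (a * b * a) u = w⁻¹ := by
    rw [map_mul, map_mul, MulAut.mul_apply, MulAut.mul_apply, ht.au, ht.bu, map_mul, map_inv, ht.au, ht.aw,
      mul_inv_rev, mul_assoc, inv_mul_cancel, mul_one]
  have h2 : ρ (a * b * a) w = u := by
    rw [map_mul, map_mul, MulAut.mul_apply, MulAut.mul_apply, ht.aw, map_mul, ht.bu, ht.bw, hVc w⁻¹ u,
      inv_mul_cancel_right, ht.au]
  have h3 : ρ (a * b * a)⁻¹ u = w := by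
    apply (ρ (a * b * a)).injective
    rw [map_inv, MulAut.apply_inv_self, h2]
  have h4 : ρ (a * b * a)⁻¹ w = u⁻¹ := by
    apply (ρ (a * b * a)).injective
    rw [map_inv, MulAut.apply_inv_self, map_inv, h1, inv_inv]
  have hau : ∀ n : ℕ, ρ (a ^ n) u = u := by
    intro n
    induction n with
    | zero => simp
    | succ n ih => rw [pow_succ', map_mul, MulAut.mul_apply, ih, ht.au]
  have haw : ∀ n : ℕ, ρ (a ^ n) w = u ^ n * w := by
    intro n
    induction n with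
    | zero => simp
    | succ n ih => rw [pow_succ', map_mul, MulAut.mul_apply, ih, map_mul, map_pow, ht.au, ht.aw, pow_succ, mul_assoc]
  have hbw : ∀ n : ℕ, ρ (b ^ n) w = w := by
    intro n
    induction n with
    | zero => simp
    | succ n ih => rw [pow_succ', map_mul, MulAut.mul_apply, ih, ht.bw]
  have hbu : ∀ n : ℕ, ρ (b ^ n) u = (w ^ n)⁻¹ * u := by
    intro n
    induction n with
    | zero => simp
    | succ n ih =>
      rw [pow_succ', map_mul, MulAut.mul_apply, ih, map_mul, map_inv, map_pow, ht.bw, ht.bu, ← mul_assoc,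
        ← mul_inv_rev, ← pow_succ']
  have hone : ∀ x : V, x ^ (l * k) = x := by
    intro x
    obtain ⟨m, hm⟩ := hlk
    have h5 : ((l * k : ℕ) : ℤ) = 1 + p * m := by push_cast; linarith
    rw [← zpow_natCast, h5, zpow_add, zpow_mul, zpow_natCast, hVp, one_zpow, mul_one, zpow_one]
  -- `n_l u = w ^ (-k)`, `n_l w = u ^ l`
  have h5 : ρ (a ^ l * b ^ k * a ^ l) w = u ^ l := by
    have e1 : ρ (b ^ k) (u ^ l * w) = u ^ l := by
      rw [map_mul (ρ (b ^ k)), map_pow (ρ (b ^ k)), hbu, hbw, (e _ u).mul_pow, inv_pow, ← pow_mul, mul_comm k l,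
        hone, hVc w⁻¹ (u ^ l), inv_mul_cancel_right]
    rw [map_mul, map_mul, MulAut.mul_apply, MulAut.mul_apply, haw, e1, map_pow (ρ (a ^ l)), hau]
  have h6 : ρ (a ^ l * b ^ k * a ^ l) u = (w ^ k)⁻¹ := by
    rw [map_mul, map_mul, MulAut.mul_apply, MulAut.mul_apply, hau, hbu, map_mul, map_inv, map_pow, hau, haw,
      (e (u ^ l) w).mul_pow, ← pow_mul, hone, mul_inv_rev, mul_assoc, inv_mul_cancel, mul_one]
  constructor
  · rw [map_mul, MulAut.mul_apply, h3, h5]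
  · rw [map_mul, MulAut.mul_apply, h4, map_inv, h6, inv_inv]

end

end H89.Rk2Act
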