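import Cfsg.Agent.Lib.H89.Rk2A

/-! S5289: rank two, the case `|Ω₁(P)| = p ^ 2`. -/

set_option autoImplicit false
set_option linter.unusedSectionVars false
open scoped commutatorElement
open Cfsg Cfsg.FusionSystem H86.FusBasic H86.FusSat H86.FusAlperin H89.Normal H89.Normal2

namespace H89.Rk2A

variable {Ω : Type*} [Group Ω] {S : Subgroup Ω} {F : FusionSystem S} {p : ℕ} {P : Subgroup Ω}

section
variable [Finite S] [hp : Fact p.Prime] (hS : IsPGroup p S) (hF : F.IsSaturated p)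
  (hmul : ∀ x y : P, x ^ p = 1 → y ^ p = 1 → (x * y) ^ p = 1)

/-- The action of `Aut_F(P)` on `Ω₁(P)`. -/
def rX (F : FusionSystem S) (hmul : ∀ x y : P, x ^ p = 1 → y ^ p = 1 → (x * y) ^ p = 1) :
    F.autGroup P →* MulAut (Om p P hmul) := (res (Om p P hmul) (fun α x hx => Om_inv α x hx)).comp (F.autGroup P).subtype

theorem rX_apply (α : F.autGroup P) (x : Om p P hmul) : ((rX F hmul α x : Om p P hmul) : P) = (α : MulAut P) x := rfl

include hS in
theorem rX_ker (hp2 : p ≠ 2) (hPS : P ≤ S) : IsPGroup p (rX F hmul).ker := by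
  have hfP : Finite P := finite_of_le hPS
  have hfM : Finite (MulAut P) := finite_mulAut P
  have hPp : IsPGroup p P := hS.of_injective (Subgroup.inclusion hPS) (Subgroup.inclusion_injective hPS)
  apply isPGroup_of_coprime
  rintro ⟨⟨α, hα⟩, hk⟩ hc
  have hc' : (orderOf α).Coprime p := by
    rw [← Subgroup.orderOf_coe, ← Subgroup.orderOf_coe] at hc
    exact hc
  apply Subtype.ext
  apply Subtype.ext
  show α = 1
  refine eq_one_of_trivial hp2 hPp hc' fun x hx => ?_
  have h1 : rX F hmul ⟨α, hα⟩ ⟨x, hx⟩ = ⟨x, hx⟩ := by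
    rw [MonoidHom.mem_ker] at hk
    rw [hk]; rfl
  exact congrArg Subtype.val h1

include hS in
theorem Om_big (hp2 : p ≠ 2) (hP : CRN F p P) : p < Nat.card (Om p P hmul) := by
  have hPS := hP.cen.1
  have hfP : Finite P := finite_of_le hPS
  by_contra hcon
  push Not at hcon
  obtain ⟨g, hg, hgN, hgP⟩ := hP.ex hS
  apply hgP
  refine hP.mem (N := (rX F hmul).ker) inferInstance (rX_ker hS hmul hp2 hPS) hg hgN ?_
  rw [MonoidHom.mem_ker]
  ext x
  show g * ((x : P) : Ω) * g⁻¹ = ((x : P) : Ω)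
  by_cases hx1 : x = 1
  · rw [hx1]; simp
  · have hxp : ((x : P) : Ω) ^ p = 1 := congrArg Subtype.val (mem_Om.1 x.2)
    have hxp' : x ^ p = 1 := Subtype.ext (mem_Om.1 x.2)
    have ho : Nat.card (Subgroup.zpowers x) = p := by
      rw [Nat.card_zpowers]; exact orderOf_eq_prime hxp' hx1
    have htop : Subgroup.zpowers x = ⊤ := by
      apply Subgroup.eq_top_of_le_card
      rw [ho]; exact hcon
    obtain ⟨m, hm⟩ := hS ⟨g, hg⟩
    refine H89.SmallFus.comm_of_prime hxp (m := m) (congrArg Subtype.val hm) ?_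
    have h1 : (⟨conjAut P hgN x, Om_inv _ _ x.2⟩ : Om p P hmul) ∈ Subgroup.zpowers x := by
      rw [htop]; exact Subgroup.mem_top _
    obtain ⟨n, hn⟩ := h1
    refine ⟨n, ?_⟩
    have h2 := congrArg (fun y : Om p P hmul => ((y : P) : Ω)) hn
    exact h2

end

section
variable [Finite S] [hp : Fact p.Prime] (hS : IsPGroup p S) (hF : F.IsSaturated p)
  (hmul : ∀ x y : P, x ^ p = 1 → y ^ p = 1 → (x * y) ^ p = 1)

include hS in
/-- `P` is abelian, inverted by an element of `Aut_F(P)`. -/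
theorem caseA_abelian (hp2 : p ≠ 2) (hP : CRN F p P) {u w : Om p P hmul} {a a₁ h : F.autGroup P}
    (hVc : ∀ x y : Om p P hmul, x * y = y * x)
    (ht : Rk2Act.Tv (rX F hmul) ((autInducedBy S P).subgroupOf (F.autGroup P)) p u w a a₁ h) :
    (∀ x y : P, x * y = y * x) ∧ ∃ t ∈ F.autGroup P, ∀ x : P, t x = x⁻¹ := by
  have hPS := hP.cen.1
  have hfP : Finite P := finite_of_le hPS
  have hfM : Finite (MulAut P) := finite_mulAut P
  have hPp : IsPGroup p P := hS.of_injective (Subgroup.inclusion hPS) (Subgroup.inclusion_injective hPS)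
  set t := (a * (h * a₁ * h⁻¹) * a) ^ 2 with htdef
  have htx : ∀ x : Om p P hmul, rX F hmul t x = x⁻¹ := fun x => ht.neg hVc x
  have h1 : t ^ 2 ∈ (rX F hmul).ker := by
    rw [MonoidHom.mem_ker, map_pow]
    ext x
    rw [pow_two, MulAut.mul_apply, htx, htx, inv_inv]
    rfl
  obtain ⟨k, hk⟩ := rX_ker hS hmul hp2 hPS ⟨t ^ 2, h1⟩
  have hk' : (t ^ 2) ^ p ^ k = 1 := congrArg Subtype.val hk
  have hodd : Odd (p ^ k) := (hp.1.odd_of_ne_two hp2).pow
  set s := t ^ p ^ k with hs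
  have hs2 : s ^ 2 = 1 := by rw [hs, ← pow_mul, mul_comm, pow_mul, hk']
  have hsx : ∀ x : Om p P hmul, rX F hmul s x = x⁻¹ := by
    have h2 : ∀ n : ℕ, ∀ x : Om p P hmul, rX F hmul (t ^ (2 * n + 1)) x = x⁻¹ := by
      intro n
      induction n with
      | zero => intro x; simpa using htx x
      | succ n ih =>
        intro x
        have : t ^ (2 * (n + 1) + 1) = t * (t * t ^ (2 * n + 1)) := by
          rw [← pow_succ', ← pow_succ']
          congr 1
        rw [this, map_mul, map_mul, MulAut.mul_apply, MulAut.mul_apply, ih, map_inv, map_inv, htx, htx, inv_inv]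
    obtain ⟨n, hn⟩ := hodd
    rw [hs, hn]
    exact h2 n
  let φ : P →* P := (s : MulAut P).toMonoidHom
  have hinv : Function.Involutive φ := by
    intro x
    have h3 := congrArg (fun α : F.autGroup P => (α : MulAut P) x) hs2
    have h4 : ((s ^ 2 : F.autGroup P) : MulAut P) x = (s : MulAut P) ((s : MulAut P) x) := by
      rw [Subgroup.coe_pow, pow_two, MulAut.mul_apply]
    exact h4.symm.trans h3
  have hfpf : MonoidHom.FixedPointFree φ := by
    intro x hx
    by_contra hx1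
    obtain ⟨m, hm⟩ := IsPGroup.iff_orderOf.1 hPp x
    have hm0 : m ≠ 0 := by
      rintro rfl
      rw [pow_zero, orderOf_eq_one_iff] at hm
      exact hx1 hm
    obtain ⟨n, rfl⟩ := Nat.exists_eq_succ_of_ne_zero hm0
    set y := x ^ p ^ n with hy
    have hyp : y ^ p = 1 := by
      rw [hy, ← pow_mul, ← pow_succ, ← hm, pow_orderOf_eq_one]
    have hy1 : y ≠ 1 := by
      intro h
      have h5 : orderOf x ∣ p ^ n := orderOf_dvd_of_pow_eq_one h
      rw [hm] at h5
      have := (Nat.pow_dvd_pow_iff_le_right hp.1.one_lt).1 h5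
      omega
    have h5 : (s : MulAut P) y = y⁻¹ := congrArg Subtype.val (hsx ⟨y, hyp⟩)
    have h6 : (s : MulAut P) y = y := by
      rw [hy, map_pow]
      have : (s : MulAut P) x = x := hx
      rw [this]
    rw [h6] at h5
    have h7 : y ^ 2 = 1 := by
      rw [pow_two]
      nth_rewrite 1 [h5]
      exact inv_mul_cancel y
    have h8 : orderOf y ∣ Nat.gcd 2 p := Nat.dvd_gcd (orderOf_dvd_of_pow_eq_one h7) (orderOf_dvd_of_pow_eq_one hyp)
    rw [(Nat.coprime_primes Nat.prime_two hp.1).2 (Ne.symm hp2), Nat.dvd_one, orderOf_eq_one_iff] at h8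
    exact hy1 h8
  refine ⟨fun x y => hfpf.commute_all_of_involutive hinv x y, (s : MulAut P), s.2, fun x => ?_⟩
  have h3 := hfpf.coe_eq_inv_of_involutive hinv
  exact congrFun h3 x

include hS in
/-- For `p ≥ 5`, `P` has exponent `p`. -/
theorem caseA_exponent (hp5 : 5 ≤ p) (hP : CRN F p P) {u w : Om p P hmul} {a a₁ h : F.autGroup P}
    (hVp : ∀ x : Om p P hmul, x ^ p = 1)
    (ht : Rk2Act.Tv (rX F hmul) ((autInducedBy S P).subgroupOf (F.autGroup P)) p u w a a₁ h)
    (hab : ∀ x y : P, x * y = y * x) (x : P) : x ^ p = 1 := by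
  have hp2 : p ≠ 2 := by omega
  have hPS := hP.cen.1
  have hfP : Finite P := finite_of_le hPS
  have hPp : IsPGroup p P := hS.of_injective (Subgroup.inclusion hPS) (Subgroup.inclusion_injective hPS)
  have e : ∀ x y : P, Commute x y := hab
  by_contra hxp
  -- a nontrivial `p`-th power of order `p`
  obtain ⟨y₀, v, hv, hv1, hvp⟩ : ∃ (y₀ : P) (v : Om p P hmul), y₀ ^ p = (v : P) ∧ v ≠ 1 ∧ True := by
    obtain ⟨m, hm⟩ := IsPGroup.iff_orderOf.1 hPp x
    have hm2 : 2 ≤ m := by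
      by_contra hcon
      apply hxp
      have h1 : m ≤ 1 := by omega
      have h2 : orderOf x ∣ p := by
        rw [hm]
        exact (pow_dvd_pow p h1).trans (by rw [pow_one])
      exact orderOf_dvd_iff_pow_eq_one.1 h2
    obtain ⟨n, rfl⟩ := Nat.exists_eq_add_of_le hm2
    refine ⟨x ^ p ^ n, ⟨x ^ p ^ (n + 1), ?_⟩, ?_, ?_, trivial⟩
    · rw [mem_Om, ← pow_mul, ← pow_succ]
      have : n + 1 + 1 = 2 + n := by ring
      rw [this, ← hm, pow_orderOf_eq_one]
    · rw [← pow_mul, ← pow_succ]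
    · intro h
      have h3 : x ^ p ^ (n + 1) = 1 := congrArg Subtype.val h
      have h5 : orderOf x ∣ p ^ (n + 1) := orderOf_dvd_of_pow_eq_one h3
      rw [hm] at h5
      have := (Nat.pow_dvd_pow_iff_le_right hp.1.one_lt).1 h5
      omega
  -- the set of `p`-th powers
  let I : Om p P hmul → Prop := fun v => ∃ y : P, y ^ p = (v : P)
  have hImul : ∀ x y, I x → I y → I (x * y) := by
    rintro x y ⟨x', hx'⟩ ⟨y', hy'⟩
    exact ⟨x' * y', by rw [(e x' y').mul_pow, hx', hy']; rfl⟩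
  have hIzpow : ∀ x, I x → ∀ n : ℤ, I (x ^ n) := by
    rintro x ⟨x', hx'⟩ n
    refine ⟨x' ^ n, ?_⟩
    have h1 : (x' ^ n) ^ p = (x' ^ p) ^ n := by
      rw [← zpow_natCast, ← zpow_mul, mul_comm, zpow_mul, zpow_natCast]
    rw [h1, hx']; rfl
  have hIinv : ∀ (α : F.autGroup P) (x), I x → I (rX F hmul α x) := by
    rintro α x ⟨x', hx'⟩
    refine ⟨(α : MulAut P) x', ?_⟩
    rw [← map_pow, hx']
    rfl
  have hIv : I v := ⟨y₀, hv⟩
  have hIu : I u := by
    obtain ⟨i, j, hij⟩ := ht.dec v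
    by_cases hpj : (p : ℤ) ∣ j
    · obtain ⟨j', rfl⟩ := hpj
      rw [zpow_mul w, zpow_natCast, hVp, one_zpow, mul_one] at hij
      obtain ⟨m, hm⟩ := Rk2Act.zgen (hVp u) hij hv1
      rw [hm]
      exact hIzpow _ hIv m
    · have h1 : rX F hmul a v * v⁻¹ = u ^ j := by
        rw [hij, map_mul, map_zpow, map_zpow, ht.au, ht.aw]
        have e' : ∀ x y : Om p P hmul, Commute x y := fun x y => Subtype.ext (hab x y)
        rw [(e' u w).mul_zpow, mul_inv_rev]
        have h2 : u ^ i * (u ^ j * w ^ j) * ((w ^ j)⁻¹ * (u ^ i)⁻¹) = u ^ i * u ^ j * (u ^ i)⁻¹ := by group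
        rw [h2, (e' (u ^ i) (u ^ j)).eq, mul_inv_cancel_right]
      have h2 : u ^ j ≠ 1 := by
        intro h2
        exact hpj (Rk2Act.dvd_of_zpow (hVp u) ht.u1 h2)
      obtain ⟨m, hm⟩ := Rk2Act.zgen (hVp u) rfl h2
      rw [hm, ← h1]
      have h3 : v⁻¹ = v ^ (-1 : ℤ) := (zpow_neg_one v).symm
      rw [h3]
      exact hIzpow _ (hImul _ _ (hIinv a v hIv) (hIzpow _ hIv _)) m
  have hIw : I w := by
    rw [← ht.hu]
    exact hIinv h u hIu
  obtain ⟨y, hy⟩ := hIw
  -- `a` has order `p`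
  obtain ⟨g, hgN, hgS, hga⟩ := mem_autInducedBy'.1 (show (a : MulAut P) ∈ autInducedBy S P from ht.aQ)
  have hau : (a : MulAut P) (u : P) = u := congrArg Subtype.val ht.au
  have haw : (a : MulAut P) (w : P) = u * w := congrArg Subtype.val ht.aw
  have hap : ∀ x : P, ((a : MulAut P) ^ p) x = x := by
    have hgp : g ^ p ∈ Subgroup.normalizer (P : Set Ω) := Subgroup.pow_mem _ hgN p
    have h1 : conjAut P hgp = (a : MulAut P) ^ p := by
      rw [hga]
      unfold conjAut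
      rw [← map_pow]
      rfl
    have h2 : g ^ p ∈ P := by
      refine hP.mem (N := (rX F hmul).ker) inferInstance (rX_ker hS hmul hp2 hPS) (S.pow_mem hgS p) hgp ?_
      rw [MonoidHom.mem_ker]
      have h3 : (⟨conjAut P hgp, autInducedBy_le_autGroup F hP.cen.1 (conjAut_mem_autInducedBy _ (S.pow_mem hgS p))⟩ :
          F.autGroup P) = a ^ p := Subtype.ext h1
      rw [h3, map_pow]
      ext x
      obtain ⟨i, hi⟩ := ht.Qx a ht.aQ x
      have h4 : ∀ n : ℕ, ((rX F hmul a) ^ n) x = (u ^ i) ^ n * x := by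
        intro n
        induction n with
        | zero => simp
        | succ n ih =>
          rw [pow_succ', MulAut.mul_apply, ih, map_mul, map_pow, map_zpow, ht.au, hi, pow_succ, mul_assoc]
      rw [h4, hVp, one_mul]
      rfl
    intro x
    rw [← h1]
    apply Subtype.ext
    show g ^ p * (x : Ω) * (g ^ p)⁻¹ = x
    have h5 := congrArg Subtype.val (hab ⟨g ^ p, h2⟩ x)
    have h6 : g ^ p * (x : Ω) = x * g ^ p := h5
    rw [h6]; group
  set A := (a : MulAut P) with hA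
  set y₁ := A y * y⁻¹ with hy₁
  set y₂ := A y₁ * y₁⁻¹ with hy₂
  set y₃ := A y₂ * y₂⁻¹ with hy₃
  have hAy : A y = y * y₁ := by rw [hy₁, (e (A y) y⁻¹).eq, mul_inv_cancel_left]
  have hAy₁ : A y₁ = y₁ * y₂ := by rw [hy₂, (e (A y₁) y₁⁻¹).eq, mul_inv_cancel_left]
  have hAy₂ : A y₂ = y₂ * y₃ := by rw [hy₃, (e (A y₂) y₂⁻¹).eq, mul_inv_cancel_left]
  have hy₁p : y₁ ^ p = u := by
    rw [hy₁, (e _ _).mul_pow, ← map_pow, hy, haw, inv_pow, hy, mul_inv_cancel_right]
  have hy₂p : y₂ ^ p = 1 := by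
    rw [hy₂, (e _ _).mul_pow, ← map_pow, hy₁p, hau, inv_pow, hy₁p, mul_inv_cancel]
  obtain ⟨i, hi⟩ := ht.Qx a ht.aQ ⟨y₂, hy₂p⟩
  have hi' : A y₂ = (u : P) ^ i * y₂ := congrArg Subtype.val hi
  have hy₃u : y₃ = (u : P) ^ i := by rw [hy₃, hi', mul_inv_cancel_right]
  have hup : (u : P) ^ p = 1 := mem_Om.1 u.2
  have hy₃p : y₃ ^ p = 1 := by
    rw [hy₃u, ← zpow_natCast, ← zpow_mul, mul_comm, zpow_mul, zpow_natCast, hup, one_zpow]
  have hAy₃ : A y₃ = y₃ := by rw [hy₃u, map_zpow, hau]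
  have key : ∀ k : ℕ, (A ^ k) y = y * y₁ ^ k * y₂ ^ k.choose 2 * y₃ ^ k.choose 3 := by
    intro k
    induction k with
    | zero => simp
    | succ k ih =>
      rw [pow_succ', MulAut.mul_apply, ih, map_mul, map_mul, map_mul, map_pow, map_pow, map_pow, hAy, hAy₁, hAy₂,
        hAy₃, (e y₁ y₂).mul_pow, (e y₂ y₃).mul_pow]
      have h1 : (k + 1).choose 2 = k + k.choose 2 := by
        rw [Nat.choose_succ_succ' k 1, Nat.choose_one_right]
      have h2 : (k + 1).choose 3 = k.choose 2 + k.choose 3 := Nat.choose_succ_succ' k 2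
      rw [h1, h2, pow_succ, pow_add, pow_add]
      calc y * y₁ * (y₁ ^ k * y₂ ^ k) * (y₂ ^ k.choose 2 * y₃ ^ k.choose 2) * y₃ ^ k.choose 3
          = y * (y₁ * y₁ ^ k) * (y₂ ^ k * y₂ ^ k.choose 2) * (y₃ ^ k.choose 2 * y₃ ^ k.choose 3) := by
            simp only [mul_assoc]
        _ = _ := by rw [(e y₁ (y₁ ^ k)).eq]
  have h1 := key p
  rw [hap y] at h1
  have hd2 : p ∣ p.choose 2 := hp.1.dvd_choose_self (by norm_num) (by omega)
  have hd3 : p ∣ p.choose 3 := hp.1.dvd_choose_self (by norm_num) (by omega)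
  obtain ⟨c2, hc2⟩ := hd2
  obtain ⟨c3, hc3⟩ := hd3
  rw [hc2, hc3, pow_mul, pow_mul, hy₂p, hy₃p, one_pow, one_pow, mul_one, mul_one, hy₁p] at h1
  have h2 : (u : P) = 1 := mul_eq_left.1 h1.symm
  exact ht.u1 (Subtype.ext h2)

end

end H89.Rk2A
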