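import Cfsg.Agent.Lib.H89.Rk2B

/-! S5289: rank two, the case of an essential subgroup of order `p ^ 2`. -/

set_option autoImplicit false
set_option linter.unusedSectionVars false
open scoped commutatorElement
open Cfsg Cfsg.FusionSystem H86.FusBasic H86.FusSat H86.FusAlperin H89.Normal H89.Normal2

namespace H89.Rk2A

variable {Ω : Type*} [Group Ω] {S : Subgroup Ω} {F : FusionSystem S} {p : ℕ} {P : Subgroup Ω}

/-- The rank hypothesis passes to subgroups (as types). -/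
theorem rank_sub {R : Subgroup Ω} (hRS : R ≤ S)
    (hr : ∀ E : Subgroup Ω, E ≤ S → IsElementaryAbelian p E → Nat.card E ≤ p ^ 2) (E : Subgroup R)
    (hE : IsElementaryAbelian p E) : Nat.card E ≤ p ^ 2 := by
  have e := E.equivMapOfInjective R.subtype (Subgroup.subtype_injective R)
  have h1 := hr (E.map R.subtype) ((Subgroup.map_subtype_le E).trans hRS) ?_
  · rwa [← Nat.card_congr e.toEquiv] at h1
  · obtain ⟨h2, h3⟩ := hE
    refine ⟨?_, ?_⟩
    · constructor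
      constructor
      rintro ⟨_, x, hx, rfl⟩ ⟨_, y, hy, rfl⟩
      have h4 := h2.is_comm.comm ⟨x, hx⟩ ⟨y, hy⟩
      exact Subtype.ext (congrArg (fun z : E => ((z : R) : Ω)) h4)
    · rintro _ ⟨x, hx, rfl⟩
      exact congrArg Subtype.val (h3 x hx)

section
variable [Finite S] [hp : Fact p.Prime] (hS : IsPGroup p S) (hF : F.IsSaturated p)

theorem mem_of_cent (hP : CRN F p P) {g : Ω} (hg : g ∈ S) (h : ∀ x ∈ P, g * x = x * g) : g ∈ P := by
  refine hP.cen.2 P (isConj_refl F hP.cen.1) (mem_centralizerIn.2 ⟨hg, fun x hx => ?_⟩)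
  first | exact h x hx | exact (h x hx).symm

/-- The situation: `P` elementary abelian of order `p ^ 2`. -/
structure Pl (F : FusionSystem S) (P : Subgroup Ω) (p : ℕ) (u w : P) (a a₁ h : F.autGroup P) : Prop where
  crn : CRN F p P
  card : Nat.card P = p ^ 2
  exp : ∀ x : P, x ^ p = 1
  ab : ∀ x y : P, x * y = y * x
  tv : Rk2Act.Tv (F.autGroup P).subtype ((autInducedBy S P).subgroupOf (F.autGroup P)) p u w a a₁ h

variable {u w : P} {a a₁ h : F.autGroup P}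

theorem Pl.conj (hp : Pl F P p u w a a₁ h) {s : Ω} (hs : s ∈ S) (hsN : s ∈ Subgroup.normalizer (P : Set Ω)) (x : P) :
    ∃ i : ℤ, s * x * s⁻¹ = (u : Ω) ^ i * x := by
  obtain ⟨i, hi⟩ := hp.tv.Qx ⟨conjAut P hsN, autInducedBy_le_autGroup F hp.crn.cen.1 (conjAut_mem_autInducedBy _ hs)⟩
    (conjAut_mem_autInducedBy _ hs) x
  exact ⟨i, congrArg Subtype.val hi⟩

theorem Pl.cu (hp : Pl F P p u w a a₁ h) {s : Ω} (hs : s ∈ S) (hsN : s ∈ Subgroup.normalizer (P : Set Ω)) :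
    s * u = u * s := by
  have h1 := hp.tv.Qu ⟨conjAut P hsN, autInducedBy_le_autGroup F hp.crn.cen.1 (conjAut_mem_autInducedBy _ hs)⟩
    (conjAut_mem_autInducedBy _ hs)
  have h2 : s * (u : Ω) * s⁻¹ = u := congrArg Subtype.val h1
  calc s * u = s * (u : Ω) * s⁻¹ * s := by group
    _ = u * s := by rw [h2]

theorem Pl.pow_mem (hp : Pl F P p u w a a₁ h) {s : Ω} (hs : s ∈ S) (hsN : s ∈ Subgroup.normalizer (P : Set Ω)) :
    s ^ p ∈ P := by
  refine mem_of_cent hp.crn (S.pow_mem hs p) fun x hx => ?_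
  obtain ⟨i, hi⟩ := hp.conj hs hsN ⟨x, hx⟩
  have hcu := hp.cu hs hsN
  have h1 : ∀ n : ℕ, s ^ n * x * (s ^ n)⁻¹ = ((u : Ω) ^ i) ^ n * x := by
    intro n
    induction n with
    | zero => simp
    | succ n ih =>
      have h2 : Commute s (((u : Ω) ^ i) ^ n) := ((show Commute s (u : Ω) from hcu).zpow_right i).pow_right n
      rw [pow_succ' s]
      calc s * s ^ n * x * (s * s ^ n)⁻¹ = s * (s ^ n * x * (s ^ n)⁻¹) * s⁻¹ := by group
        _ = s * ((u : Ω) ^ i) ^ n * x * s⁻¹ := by rw [ih]; simp only [mul_assoc]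
        _ = ((u : Ω) ^ i) ^ n * (s * x * s⁻¹) := by rw [h2.eq]; simp only [mul_assoc]
        _ = _ := by rw [hi, pow_succ]; simp only [mul_assoc]
  have h2 := h1 p
  have h3 : ((u : Ω) ^ i) ^ p = 1 := by
    have h4 : (u : Ω) ^ p = 1 := congrArg Subtype.val (hp.exp u)
    rw [← zpow_natCast, ← zpow_mul, mul_comm, zpow_mul, zpow_natCast, h4, one_zpow]
  rw [h3, one_mul] at h2
  calc s ^ p * x = s ^ p * x * (s ^ p)⁻¹ * s ^ p := by group
    _ = x * s ^ p := by rw [h2]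

include hS hF in
/-- `N_S(P)` has exponent `p`. -/
theorem Pl.exp_T (hp2 : p ≠ 2) (hp : Pl F P p u w a a₁ h) {s : Ω} (hs : s ∈ S)
    (hsN : s ∈ Subgroup.normalizer (P : Set Ω)) : s ^ p = 1 := by
  have hPS := hp.crn.cen.1
  have hpr := (inferInstance : Fact p.Prime).1
  have hfP : Finite P := finite_of_le hPS
  have hfM : Finite (MulAut P) := finite_mulAut P
  set t := (a * (h * a₁ * h⁻¹) * a) ^ 2 with htdef
  have htx : ∀ x : P, (t : MulAut P) x = x⁻¹ := fun x => hp.tv.neg hp.ab x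
  set T := normalizerIn S P with hT
  have hTN : ∀ x ∈ T, x ∈ Subgroup.normalizer (P : Set Ω) := fun x hx => (mem_normalizerIn.1 hx).2
  have hTS : T ≤ S := normalizerIn_le S P
  obtain ⟨ψ, hψ, hψx⟩ := receptive_extend' (receptive_of_fullyNormalized hS hF hp.crn.fn) ((mem_autGroup F hPS).1 t.2)
    (le_normalizerIn hPS) hTS (fun x hx => hTN x hx) (by
      intro x hx
      have h1 : MulAut.congr (t : MulAut P) (conjAut P (hTN x hx)) = conjAut P (hTN x hx) := by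
        have h2 : MulAut.congr (t : MulAut P) (conjAut P (hTN x hx)) =
            (t : MulAut P) * conjAut P (hTN x hx) * (t : MulAut P)⁻¹ := rfl
        rw [h2]
        ext y
        obtain ⟨y', rfl⟩ := (t : MulAut P).surjective y
        rw [MulAut.mul_apply, MulAut.mul_apply, MulAut.inv_apply_self, htx, htx, map_inv]
      rw [h1]
      exact conjAut_mem_autInducedBy _ (hTS hx))
  have hsT : s ∈ T := mem_normalizerIn.2 ⟨hs, hsN⟩
  have hPT : ∀ x ∈ P, x ∈ T := fun x hx => le_normalizerIn hPS hx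
  set d := s⁻¹ * ψ ⟨s, hsT⟩ with hd
  have hdP : d ∈ P := by
    refine mem_of_cent hp.crn (S.mul_mem (S.inv_mem hs) (apply_mem F hψ _)) fun x hx => ?_
    have h1 : ψ (⟨s, hsT⟩ * ⟨x, hPT x hx⟩ * (⟨s, hsT⟩ : T)⁻¹) = (s * x * s⁻¹)⁻¹ := by
      have h2 : (⟨s, hsT⟩ * ⟨x, hPT x hx⟩ * (⟨s, hsT⟩ : T)⁻¹ : T) =
          ⟨(conjAut P hsN ⟨x, hx⟩ : P), hPT _ (conjAut P hsN ⟨x, hx⟩).2⟩ := rfl
      rw [h2, hψx, htx]
      rfl
    have h3 : ψ ⟨x, hPT x hx⟩ = x⁻¹ := by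
      have := hψx ⟨x, hx⟩
      rw [htx] at this
      exact this
    rw [map_mul, map_mul, map_inv, h3] at h1
    have h4 : ψ ⟨s, hsT⟩ * x * (ψ ⟨s, hsT⟩)⁻¹ = s * x * s⁻¹ := by
      have h5 := congrArg (fun y => y⁻¹) h1
      simp only [mul_inv_rev, inv_inv, ← mul_assoc] at h5
      rw [← h5]
    calc s⁻¹ * ψ ⟨s, hsT⟩ * x = s⁻¹ * (ψ ⟨s, hsT⟩ * x * (ψ ⟨s, hsT⟩)⁻¹) * ψ ⟨s, hsT⟩ := by group
      _ = s⁻¹ * (s * x * s⁻¹) * ψ ⟨s, hsT⟩ := by rw [h4]
      _ = x * (s⁻¹ * ψ ⟨s, hsT⟩) := by group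
  have hψs : ψ ⟨s, hsT⟩ = s * d := by rw [hd]; group
  have hspP := hp.pow_mem hs hsN
  have h3 : ψ (⟨s, hsT⟩ ^ p) = (s ^ p)⁻¹ := by
    have h4 : (⟨s, hsT⟩ ^ p : T) = ⟨((⟨s ^ p, hspP⟩ : P) : Ω), hPT _ hspP⟩ := rfl
    rw [h4, hψx, htx]
    rfl
  have h4 : (s * d) ^ p = s ^ p := by
    obtain ⟨i, hi⟩ := hp.conj hs hsN ⟨d, hdP⟩
    have hi' : s * d * s⁻¹ = (u : Ω) ^ i * d := hi
    have hc : ⁅d, s⁆ = (u : Ω) ^ (-i) := by
      rw [commutatorElement_def]
      have h6 : d * s * d⁻¹ * s⁻¹ = d * (s * d * s⁻¹)⁻¹ := by group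
      rw [h6, hi', mul_inv_rev, mul_inv_cancel_left, zpow_neg]
    have hcs : Commute ⁅d, s⁆ s := by
      rw [hc]
      exact ((show Commute s (u : Ω) from hp.cu hs hsN).zpow_right _).symm
    have hcd : Commute ⁅d, s⁆ d := by
      rw [hc]
      have : Commute (u : Ω) d := congrArg Subtype.val (hp.ab u ⟨d, hdP⟩)
      exact this.zpow_left _
    have hdp : d ^ p = 1 := congrArg Subtype.val (hp.exp ⟨d, hdP⟩)
    rw [H3.ClassTwo.mul_pow_eq hcs hcd, hdp, mul_one]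
    have h5 : p ∣ p.choose 2 := hpr.dvd_choose_self (by norm_num) (lt_of_le_of_ne hpr.two_le (Ne.symm hp2))
    obtain ⟨m, hm⟩ := h5
    have h7 : ⁅d, s⁆ ^ p = 1 := by
      rw [hc, ← zpow_natCast, ← zpow_mul, mul_comm, zpow_mul, zpow_natCast]
      have h4 : (u : Ω) ^ p = 1 := congrArg Subtype.val (hp.exp u)
      rw [h4, one_zpow]
    rw [hm, pow_mul, h7, one_pow, mul_one]
  rw [map_pow, hψs, h4] at h3
  have h5 : (s ^ p) ^ 2 = 1 := by
    rw [pow_two]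
    nth_rewrite 1 [h3]
    rw [inv_mul_cancel]
  have h6 : (s ^ p) ^ p = 1 := congrArg Subtype.val (hp.exp ⟨s ^ p, hspP⟩)
  have h7 : orderOf (s ^ p) ∣ Nat.gcd 2 p := Nat.dvd_gcd (orderOf_dvd_of_pow_eq_one h5) (orderOf_dvd_of_pow_eq_one h6)
  rw [(Nat.coprime_primes Nat.prime_two hpr).2 (Ne.symm hp2), Nat.dvd_one, orderOf_eq_one_iff] at h7
  exact h7

include hS hF in
theorem Pl.card_T (hp5 : 5 ≤ p) (hp : Pl F P p u w a a₁ h)
    (hr : ∀ E : Subgroup Ω, E ≤ S → IsElementaryAbelian p E → Nat.card E ≤ p ^ 2) :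
    Nat.card (normalizerIn S P) = p ^ 3 ∧ ∀ x ∈ S, x ^ p = 1 → x ∈ normalizerIn S P := by
  have hp2 : p ≠ 2 := by omega
  have hPS := hp.crn.cen.1
  have hpr := (inferInstance : Fact p.Prime).1
  set T := normalizerIn S P with hT
  have hTS : T ≤ S := normalizerIn_le S P
  have hfT : Finite T := finite_of_le hTS
  have hTexp : ∀ x : T, x ^ p = 1 := fun x =>
    Subtype.ext (hp.exp_T hS hF hp2 (hTS x.2) (mem_normalizerIn.1 x.2).2)
  have hmul : ∀ x y : S, x ^ p = 1 → y ^ p = 1 → (x * y) ^ p = 1 :=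
    H3.OmegaRankTwo.mul_pow_eq_one (by omega) (Nat.card S) hS (fun E hE => rank_sub le_rfl hr E hE) le_rfl
  -- `W = Ω₁(S)`
  set W := (Om p S hmul).map S.subtype with hW
  have hmemW : ∀ x, x ∈ W ↔ x ∈ S ∧ x ^ p = 1 := by
    intro x
    constructor
    · rintro ⟨y, hy, rfl⟩
      exact ⟨y.2, congrArg Subtype.val (mem_Om.1 hy)⟩
    · rintro ⟨hx, hxp⟩
      exact ⟨⟨x, hx⟩, Subtype.ext hxp, rfl⟩
  have hWS : W ≤ S := fun x hx => ((hmemW x).1 hx).1
  have hfW : Finite W := finite_of_le hWS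
  have hTW : T ≤ W := fun x hx => (hmemW x).2 ⟨hTS hx, congrArg Subtype.val (hTexp ⟨x, hx⟩)⟩
  have hcW : Nat.card W ≤ p ^ 3 :=
    H3.OmegaRankTwo.card_le_of_exponent (fun x => Subtype.ext ((hmemW x).1 x.2).2)
      (fun E hE => rank_sub hWS hr E hE)
  have hcT : Nat.card T ≤ Nat.card W := Subgroup.card_le_of_le hTW
  obtain ⟨k, hk⟩ := (hS.to_le hTS).exists_card_eq
  have hPT : P < T := by
    have h1 : P < S := lt_of_le_of_ne hPS hp.crn.ne
    exact H86.FusCentric.lt_inf_normalizer hS h1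
  have h2 : Nat.card P < Nat.card T := by
    have h3 := Set.Finite.card_lt_card (Set.toFinite _) (SetLike.coe_ssubset_coe.2 hPT)
    exact h3
  have hk3 : k = 3 := by
    rw [hp.card, hk] at h2
    have h3 := (Nat.pow_lt_pow_iff_right hpr.one_lt).1 h2
    have h4 : p ^ k ≤ p ^ 3 := by rw [← hk]; exact hcT.trans hcW
    have h5 := (Nat.pow_le_pow_iff_right hpr.one_lt).1 h4
    omega
  rw [hk3] at hk
  refine ⟨hk, fun x hx hxp => ?_⟩
  have h3 : T = W := Subgroup.eq_of_le_of_card_ge hTW (by rw [hk]; exact hcW)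
  rw [h3, hmemW]
  exact ⟨hx, hxp⟩

end

end H89.Rk2A
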