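import Cfsg.Agent.Lib.H89.Rk2C
import Cfsg.Agent.Lib.H28.PCube

/-! S5289: rank two, the case of an essential subgroup of order `p ^ 2`: the action on `N_S(P)`. -/

set_option autoImplicit false
set_option linter.unusedSectionVars false
open scoped commutatorElement
open Cfsg Cfsg.FusionSystem H86.FusBasic H86.FusSat H86.FusAlperin H89.Normal H89.Normal2

namespace H89.Rk2A

/-- A plane is generated by two independent elements. -/
theorem gen_plane {V : Type*} [Group V] [Finite V] {p : ℕ} [hp : Fact p.Prime] (hV : Nat.card V = p ^ 2)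
    (hVc : ∀ x y : V, x * y = y * x) (hVp : ∀ x : V, x ^ p = 1) {u v : V} (hu1 : u ≠ 1)
    (hv : v ∉ Subgroup.zpowers u) (x : V) : ∃ i j : ℤ, x = u ^ i * v ^ j := by
  let _ : CommGroup V := { (inferInstance : Group V) with mul_comm := hVc }
  have hcu : Nat.card (Subgroup.zpowers u) = p := by
    rw [Nat.card_zpowers]; exact orderOf_eq_prime (hVp u) hu1
  have h4 : Subgroup.zpowers u ⊔ Subgroup.zpowers v = ⊤ := by
    apply Subgroup.eq_top_of_card_eq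
    have h5 : Subgroup.zpowers u < Subgroup.zpowers u ⊔ Subgroup.zpowers v := by
      refine lt_of_le_of_ne le_sup_left fun h => hv ?_
      rw [h]
      exact (le_sup_right : Subgroup.zpowers v ≤ _) (Subgroup.mem_zpowers _)
    have h6 : Nat.card (Subgroup.zpowers u ⊔ Subgroup.zpowers v : Subgroup V) ∣ p ^ 2 := by
      rw [← hV]; exact Subgroup.card_subgroup_dvd_card _
    have h7 : p < Nat.card (Subgroup.zpowers u ⊔ Subgroup.zpowers v : Subgroup V) := by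
      have h8 := Set.Finite.card_lt_card (Set.toFinite _) (SetLike.coe_ssubset_coe.2 h5)
      rw [← hcu]
      exact h8
    obtain ⟨j, hj, hj'⟩ := (Nat.dvd_prime_pow hp.1).1 h6
    rw [hj'] at h7 ⊢
    interval_cases j
    · simp at h7; have := hp.1.pos; omega
    · simp at h7
    · exact hV.symm
  have h5 : x ∈ Subgroup.zpowers u ⊔ Subgroup.zpowers v := by
    rw [h4]; exact Subgroup.mem_top _
  obtain ⟨_, ⟨i, rfl⟩, _, ⟨j, rfl⟩, hij⟩ := Subgroup.mem_sup.1 h5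
  exact ⟨i, j, hij.symm⟩

theorem ind_plane {V : Type*} [Group V] {p : ℕ} [hp : Fact p.Prime]
    (hVc : ∀ x y : V, x * y = y * x) (hVp : ∀ x : V, x ^ p = 1) {u v : V} (hu1 : u ≠ 1)
    (hv : v ∉ Subgroup.zpowers u) {i j : ℤ} (h : u ^ i * v ^ j = 1) : (p : ℤ) ∣ i ∧ (p : ℤ) ∣ j := by
  have hv1 : v ≠ 1 := fun h1 => hv (by rw [h1]; exact Subgroup.one_mem _)
  have h1 : v ^ j = u ^ (-i) := by
    rw [zpow_neg, eq_inv_iff_mul_eq_one, hVc]; exact h
  have h2 : v ^ j = 1 := by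
    by_contra hne
    obtain ⟨m, hm⟩ := Rk2Act.zgen (hVp v) rfl hne
    apply hv
    rw [hm, h1, ← zpow_mul]
    exact ⟨_, rfl⟩
  rw [h2, mul_one] at h
  exact ⟨Rk2Act.dvd_of_zpow (hVp u) hu1 h, Rk2Act.dvd_of_zpow (hVp v) hv1 h2⟩

theorem exists_inv_mod {p : ℕ} [hp : Fact p.Prime] {n : ℤ} (h : ¬ (p : ℤ) ∣ n) (l : ℤ) :
    ∃ r : ℤ, (p : ℤ) ∣ n * r - l := by
  have h2 : IsCoprime (p : ℤ) n := (Prime.coprime_iff_not_dvd (Nat.prime_iff_prime_int.1 hp.1)).2 h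
  obtain ⟨a, b, hab⟩ := h2
  refine ⟨b * l, ⟨-a * l, ?_⟩⟩
  have : n * b = 1 - a * p := by linarith
  calc n * (b * l) - l = (n * b) * l - l := by ring
    _ = _ := by rw [this]; ring

variable {Ω : Type*} [Group Ω] {S : Subgroup Ω} {F : FusionSystem S} {p : ℕ} {P : Subgroup Ω}

/-- The result of the analysis of `T = N_S(P)`. -/
structure TD (F : FusionSystem S) (P T : Subgroup Ω) (p : ℕ) (u w g : Ω) (n : ℤ) : Prop where
  gT : g ∈ T
  dec : ∀ t ∈ T, ∃ i j k : ℤ, t = u ^ i * (g ^ j * w ^ k)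
  ind : ∀ i j k : ℤ, u ^ i * (g ^ j * w ^ k) = 1 → (p : ℤ) ∣ j ∧ (p : ℤ) ∣ k
  wg : w * g * w⁻¹ = u ^ n * g
  n0 : ¬ (p : ℤ) ∣ n
  cu : ∀ s ∈ S, s * u = u * s
  sg : ∀ s ∈ S, ∃ l : ℤ, s * g * s⁻¹ = u ^ l * g
  sw : ∀ s ∈ S, ∃ k m : ℤ, s * w * s⁻¹ = u ^ k * (g ^ m * w) ∧ ((p : ℤ) ∣ m → s ∈ T)
  αg : ∀ α ∈ F.autGroup T, ∀ x : T, (x : Ω) = g → ∃ k ν : ℤ, ((α x : T) : Ω) = u ^ k * g ^ ν
  ext : ∀ α ∈ F.autGroup T, ∃ ψ ∈ F.autGroup S, ∀ (x : T) (s : S), (s : Ω) = x → ((ψ s : S) : Ω) = ((α x : T) : Ω)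

section
variable [Finite S] [hpr : Fact p.Prime] (hS : IsPGroup p S) (hF : F.IsSaturated p)
  {u w : P} {a a₁ h : F.autGroup P}

include hS hF in
theorem Pl.exists_TD (hp5 : 5 ≤ p) (hp : Pl F P p u w a a₁ h) (hcT : Nat.card (normalizerIn S P) = p ^ 3)
    (hΩ : ∀ x ∈ S, x ^ p = 1 → x ∈ normalizerIn S P) (hne : normalizerIn S P ≠ S) :
    ∃ (g : Ω) (n : ℤ), TD F P (normalizerIn S P) p u w g n := by
  have hp2 : p ≠ 2 := by omega
  have hPS := hp.crn.cen.1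
  set T := normalizerIn S P with hT
  have hTS : T ≤ S := normalizerIn_le S P
  have hTN : ∀ x ∈ T, x ∈ Subgroup.normalizer (P : Set Ω) := fun x hx => (mem_normalizerIn.1 hx).2
  have hPT : P ≤ T := le_normalizerIn hPS
  have hfT : Finite T := finite_of_le hTS
  have hfP : Finite P := finite_of_le hPS
  have hfM : Finite (MulAut T) := finite_mulAut T
  have hTexp : ∀ x ∈ T, x ^ p = 1 := fun x hx => hp.exp_T hS hF hp2 (hTS hx) (hTN x hx)
  have hup : (u : Ω) ^ p = 1 := hTexp u (hPT u.2)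
  have hwp : (w : Ω) ^ p = 1 := hTexp w (hPT w.2)
  have hu1 : (u : Ω) ≠ 1 := fun h => hp.tv.u1 (Subtype.ext h)
  -- `S` normalizes `T`
  have hconjT : ∀ s ∈ S, ∀ t ∈ T, s * t * s⁻¹ ∈ T := by
    intro s hs t ht
    refine hΩ _ (S.mul_mem (S.mul_mem hs (hTS ht)) (S.inv_mem hs)) ?_
    rw [conj_pow, hTexp t ht]; group
  have hSN : ∀ s ∈ S, s ∈ Subgroup.normalizer (T : Set Ω) := by
    intro s hs
    rw [Subgroup.mem_normalizer_iff]
    intro x
    refine ⟨hconjT s hs x, fun hx => ?_⟩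
    have := hconjT s⁻¹ (S.inv_mem hs) _ hx
    have h2 : s⁻¹ * (s * x * s⁻¹) * s⁻¹⁻¹ = x := by group
    rwa [h2] at this
  -- elements of `P`
  have hdecP : ∀ x ∈ P, ∃ i j : ℤ, x = (u : Ω) ^ i * (w : Ω) ^ j := by
    intro x hx
    obtain ⟨i, j, hij⟩ := hp.tv.dec ⟨x, hx⟩
    exact ⟨i, j, congrArg Subtype.val hij⟩
  have huw : Commute (u : Ω) (w : Ω) := congrArg Subtype.val (hp.ab u w)
  have hTu : ∀ t ∈ T, t * u = u * t := fun t ht => hp.cu (hTS ht) (hTN t ht)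
  -- the element inducing `a`
  obtain ⟨g₁, hg₁N, hg₁S, hg₁a⟩ := mem_autInducedBy'.1 (show (a : MulAut P) ∈ autInducedBy S P from hp.tv.aQ)
  have hg₁T : g₁ ∈ T := mem_normalizerIn.2 ⟨hg₁S, hg₁N⟩
  have hg₁w : g₁ * (w : Ω) * g₁⁻¹ = u * w := by
    have h1 : (a : MulAut P) w = u * w := hp.tv.aw
    rw [hg₁a] at h1
    exact congrArg Subtype.val h1
  have hcentP : ∀ g ∈ S, g * u = u * g → g * w = w * g → g ∈ P := by
    intro g hg h1 h2
    refine mem_of_cent hp.crn hg fun x hx => ?_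
    obtain ⟨i, j, rfl⟩ := hdecP x hx
    exact ((show Commute g (u : Ω) from h1).zpow_right i).mul_right ((show Commute g (w : Ω) from h2).zpow_right j)
  have hcenT : ∀ t ∈ T, t * w = w * t → t * g₁ = g₁ * t → t ∈ Subgroup.zpowers (u : Ω) := by
    intro t ht h1 h2
    obtain ⟨i, j, hij⟩ := hdecP t (hcentP t (hTS ht) (hTu t ht) h1)
    have h3 : g₁ * t * g₁⁻¹ = t := by rw [← h2]; group
    have h4 : g₁ * t * g₁⁻¹ = (u : Ω) ^ i * ((u : Ω) ^ j * (w : Ω) ^ j) := by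
      have h5 : g₁ * ((u : Ω) ^ i * (w : Ω) ^ j) * g₁⁻¹ = (g₁ * (u : Ω) * g₁⁻¹) ^ i * (g₁ * (w : Ω) * g₁⁻¹) ^ j := by
        rw [conj_zpow, conj_zpow]; group
      have h6 : g₁ * (u : Ω) * g₁⁻¹ = u := by rw [hTu g₁ hg₁T]; group
      rw [hij, h5, h6, hg₁w, huw.mul_zpow]
    rw [h3, hij] at h4
    have h5 : (u : Ω) ^ j = 1 := by
      have h6 := mul_left_cancel h4
      exact mul_eq_right.1 h6.symm
    have h6 := Rk2Act.dvd_of_zpow hup hu1 h5
    obtain ⟨k, rfl⟩ := h6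
    rw [hij, zpow_mul (w : Ω), zpow_natCast, hwp, one_zpow, mul_one]
    exact ⟨i, rfl⟩
  set Y := Subgroup.center T with hY
  have hmemY : ∀ x : T, x ∈ Y ↔ (x : Ω) ∈ Subgroup.zpowers (u : Ω) := by
    intro x
    rw [hY, Subgroup.mem_center_iff]
    constructor
    · intro hx
      refine hcenT x x.2 ?_ ?_
      · exact (congrArg Subtype.val (hx ⟨w, hPT w.2⟩)).symm
      · exact (congrArg Subtype.val (hx ⟨g₁, hg₁T⟩)).symm
    · rintro ⟨i, hi⟩ y
      have hi : (u : Ω) ^ i = x := hi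
      apply Subtype.ext
      show (y : Ω) * x = x * y
      rw [← hi]
      exact ((show Commute (y : Ω) (u : Ω) from hTu y y.2).zpow_right i).eq
  have hnc : ¬ IsMulCommutative T := by
    intro hc
    have h1 := hc.is_comm.comm ⟨g₁, hg₁T⟩ ⟨w, hPT w.2⟩
    have h2 : g₁ * (w : Ω) = w * g₁ := congrArg Subtype.val h1
    rw [h2, mul_inv_cancel_right] at hg₁w
    exact hu1 (mul_eq_right.1 hg₁w.symm)
  have hcY : Nat.card Y = p := H28.PCube.card_center hcT hnc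
  have hcV : Nat.card (T ⧸ Y) = p ^ 2 := by
    have h1 := Subgroup.card_eq_card_quotient_mul_card_subgroup Y
    rw [hcT, hcY] at h1
    have h2 : p ^ 3 = p ^ 2 * p := by ring
    rw [h2] at h1
    exact (Nat.eq_of_mul_eq_mul_right hpr.1.pos h1).symm
  have hVc : ∀ x y : T ⧸ Y, x * y = y * x :=
    (IsPGroup.isMulCommutative_of_card_eq_prime_sq hcV).is_comm.comm
  have hVp : ∀ x : T ⧸ Y, x ^ p = 1 := by
    intro x
    obtain ⟨x, rfl⟩ := QuotientGroup.mk_surjective x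
    rw [← QuotientGroup.mk_pow]
    have : x ^ p = 1 := Subtype.ext (hTexp x x.2)
    rw [this]; rfl
  have hYinv : ∀ α : MulAut T, ∀ x ∈ Y, α x ∈ Y := by
    intro α x hx
    rw [hY, Subgroup.mem_center_iff] at hx ⊢
    intro y
    obtain ⟨y, rfl⟩ := α.surjective y
    rw [← map_mul, ← map_mul, hx]
  let σ : F.autGroup T →* MulAut (T ⧸ Y) := (quo Y hYinv).comp (F.autGroup T).subtype
  have hσ : ∀ (α : F.autGroup T) (x : T), σ α (x : T ⧸ Y) = (((α : MulAut T) x : T) : T ⧸ Y) := fun α x => rfl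
  let c : ∀ s ∈ S, F.autGroup T := fun s hs =>
    ⟨conjAut T (hSN s hs), autInducedBy_le_autGroup F hTS (conjAut_mem_autInducedBy _ hs)⟩
  have hcx : ∀ s (hs : s ∈ S) (x : T), (((c s hs : MulAut T) x : T) : Ω) = s * x * s⁻¹ := fun s hs x => rfl
  set Q₁ := (autInducedBy S T).subgroupOf (F.autGroup T) with hQ₁
  have hQ₁p : IsPGroup p Q₁ := (isPGroup_autInducedBy hS T).comap_subtype
  have hcQ : ∀ s hs, c s hs ∈ Q₁ := fun s hs => conjAut_mem_autInducedBy _ hs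
  have hVnt : Nontrivial (T ⧸ Y) := by
    apply Finite.one_lt_card_iff_nontrivial.1
    rw [hcV]
    exact Nat.one_lt_pow (by norm_num) hpr.1.one_lt
  obtain ⟨v₀, hv₀1, hv₀⟩ := Rk2Act.exists_fix (IsPGroup.of_card hcV) hVnt σ Q₁ hQ₁p
  have hQpk : ∀ q ∈ Q₁, ∃ k : ℕ, (σ q) ^ p ^ k = 1 := by
    intro q hq
    obtain ⟨k, hk⟩ := hQ₁p ⟨q, hq⟩
    refine ⟨k, ?_⟩
    rw [← map_pow]
    have : q ^ p ^ k = 1 := congrArg Subtype.val hk
    rw [this, map_one]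
  have hQx : ∀ q ∈ Q₁, ∀ x, ∃ i : ℤ, σ q x = v₀ ^ i * x := by
    intro q hq x
    obtain ⟨k, hk⟩ := hQpk q hq
    exact Rk2Act.mod_u hcV hVc hVp hv₀1 hk (hv₀ q hq) x
  obtain ⟨g, rfl⟩ := QuotientGroup.mk_surjective v₀
  set v₀ : T ⧸ Y := (g : T ⧸ Y) with hv₀def
  set wT : T := ⟨w, hPT w.2⟩ with hwT
  set wb : T ⧸ Y := (wT : T ⧸ Y) with hwb
  set uT : T := ⟨u, hPT u.2⟩ with huT
  have huY : uT ∈ Y := (hmemY uT).2 (Subgroup.mem_zpowers _)
  -- `S` centralizes `u`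
  have hcu : ∀ s ∈ S, s * u = u * s := by
    intro s hs
    have h1 : (c s hs : MulAut T) uT ∈ Y := hYinv _ _ huY
    rw [hmemY] at h1
    have h2 : s * (u : Ω) * s⁻¹ ∈ Subgroup.zpowers (u : Ω) := h1
    obtain ⟨m, hm⟩ := hS ⟨s, hs⟩
    have h3 := H89.SmallFus.comm_of_prime hup (m := m) (congrArg Subtype.val hm) h2
    calc s * u = s * (u : Ω) * s⁻¹ * s := by group
      _ = u * s := by rw [h3]
  -- if `s` fixes `w` modulo `Y` then `s ∈ T`
  have hmemT : ∀ s (hs : s ∈ S), σ (c s hs) wb = wb → s ∈ T := by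
    intro s hs h1
    have h2 : ((c s hs : MulAut T) wT : T ⧸ Y) = (wT : T ⧸ Y) := h1
    have h3 : wT⁻¹ * (c s hs : MulAut T) wT ∈ Y := QuotientGroup.eq.1 h2.symm
    rw [hmemY] at h3
    obtain ⟨i, hi⟩ := h3
    have hi : (u : Ω) ^ i = (w : Ω)⁻¹ * (s * w * s⁻¹) := hi
    have h4 : s * (w : Ω) * s⁻¹ = w * (u : Ω) ^ i := by rw [hi]; group
    have key : ∀ x ∈ P, s * x * s⁻¹ ∈ P := by
      intro x hx
      obtain ⟨k, l, rfl⟩ := hdecP x hx
      have h5 : s * ((u : Ω) ^ k * (w : Ω) ^ l) * s⁻¹ = (s * (u : Ω) * s⁻¹) ^ k * (s * (w : Ω) * s⁻¹) ^ l := by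
        rw [conj_zpow, conj_zpow]; group
      have h6 : s * (u : Ω) * s⁻¹ = u := by rw [hcu s hs]; group
      rw [h5, h6, h4]
      exact P.mul_mem (P.zpow_mem u.2 _) (P.zpow_mem (P.mul_mem w.2 (P.zpow_mem u.2 _)) _)
    exact mem_normalizerIn.2 ⟨hs, Subgroup.mem_normalizer_fintype (S := (P : Set Ω)) key⟩
  have hwv : wb ∉ Subgroup.zpowers v₀ := by
    rintro ⟨i, hi⟩
    have hi : v₀ ^ i = wb := hi
    apply hne
    apply le_antisymm hTS
    intro s hs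
    refine hmemT s hs ?_
    rw [← hi, map_zpow, hv₀ _ (hcQ s hs)]
  have hgen := gen_plane hcV hVc hVp hv₀1 hwv
  have hind : ∀ {i j : ℤ}, v₀ ^ i * wb ^ j = 1 → (p : ℤ) ∣ i ∧ (p : ℤ) ∣ j := ind_plane hVc hVp hv₀1 hwv
  have hv₀p : v₀ ^ p = 1 := hVp _
  have hwbp : wb ^ p = 1 := hVp _
  have hsw : ∀ s (hs : s ∈ S), ∃ m : ℤ, σ (c s hs) wb = v₀ ^ m * wb ∧ ((p : ℤ) ∣ m → s ∈ T) := by
    intro s hs
    obtain ⟨m, hm⟩ := hQx _ (hcQ s hs) wb
    refine ⟨m, hm, fun hpm => hmemT s hs ?_⟩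
    obtain ⟨k, rfl⟩ := hpm
    rw [hm, zpow_mul, zpow_natCast, hv₀p, one_zpow, one_mul]
  -- the claim
  have hclaim : ∀ α : F.autGroup T, σ α v₀ ∈ Subgroup.zpowers v₀ := by
    intro α
    by_contra hcon
    obtain ⟨j, i, hji⟩ := hgen (σ α v₀)
    have hpi : ¬ (p : ℤ) ∣ i := by
      rintro ⟨k, rfl⟩
      apply hcon
      rw [hji, zpow_mul wb, zpow_natCast, hwbp, one_zpow, mul_one]
      exact ⟨j, rfl⟩
    obtain ⟨s₀, hs₀, hs₀T⟩ : ∃ s ∈ S, s ∉ T := by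
      by_contra h
      push Not at h
      exact hne (le_antisymm hTS h)
    obtain ⟨m, hm, hm'⟩ := hsw s₀ hs₀
    have hpm : ¬ (p : ℤ) ∣ m := fun h => hs₀T (hm' h)
    have hpmi : ¬ (p : ℤ) ∣ m * i := fun h => by
      rcases (Nat.prime_iff_prime_int.1 hpr.1).dvd_or_dvd h with h | h
      · exact hpm h
      · exact hpi h
    obtain ⟨l, hl⟩ := exists_inv_mod hpmi j
    have hpow : ∀ n : ℕ, ((σ (c s₀ hs₀)) ^ n) wb = (v₀ ^ m) ^ n * wb := by
      intro n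
      induction n with
      | zero => simp
      | succ n ih =>
        rw [pow_succ', MulAut.mul_apply, ih, map_mul, map_pow, map_zpow, hv₀ _ (hcQ s₀ hs₀), hm, pow_succ, mul_assoc]
    have hfixpow : ∀ n : ℕ, ((σ (c s₀ hs₀)) ^ n) v₀ = v₀ := by
      intro n
      induction n with
      | zero => simp
      | succ n ih => rw [pow_succ', MulAut.mul_apply, ih, hv₀ _ (hcQ s₀ hs₀)]
    have hzpow : ∀ n : ℤ, ((σ (c s₀ hs₀)) ^ n) wb = (v₀ ^ m) ^ n * wb := by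
      intro n
      rcases Int.eq_nat_or_neg n with ⟨k, rfl | rfl⟩
      · rw [zpow_natCast, zpow_natCast, hpow]
      · apply ((σ (c s₀ hs₀)) ^ k).injective
        rw [zpow_neg, zpow_natCast, MulAut.apply_inv_self, zpow_neg, zpow_natCast, map_mul, hpow, map_inv, map_pow,
          map_zpow, hfixpow, inv_mul_cancel_left]
    set β : F.autGroup T := ((c s₀ hs₀) ^ l)⁻¹ * α with hβ
    have e : ∀ x y : T ⧸ Y, Commute x y := hVc
    have h1 : σ β v₀ = wb ^ i := by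
      rw [hβ, map_mul, MulAut.mul_apply, map_inv, hji]
      apply (σ ((c s₀ hs₀) ^ l)).injective
      rw [MulAut.apply_inv_self, map_zpow (σ _), map_zpow σ, hzpow, (e _ _).mul_zpow, ← zpow_mul, ← zpow_mul]
      congr 1
      obtain ⟨k, hk⟩ := hl
      have h2 : m * (l * i) = j + p * k := by linarith
      rw [h2, zpow_add, zpow_mul v₀ p, zpow_natCast, hv₀p, one_zpow, mul_one]
    set γ : F.autGroup T := β⁻¹ with hγ
    have h2 : σ γ wb ∈ Subgroup.zpowers v₀ := by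
      have h3 : σ γ (wb ^ i) = v₀ := by
        rw [← h1, hγ, map_inv, MulAut.inv_apply_self]
      have h4 : wb ^ i ≠ 1 := by
        intro h4
        have h5 : v₀ ^ (0 : ℤ) * wb ^ i = 1 := by rw [h4]; simp
        exact hpi (hind h5).2
      obtain ⟨k, hk⟩ := Rk2Act.zgen hwbp rfl h4
      rw [hk, map_zpow, h3]
      exact ⟨k, rfl⟩
    -- the image of `P`
    set φ : P →* Ω := (T.subtype.comp (γ : MulAut T).toMonoidHom).comp (Subgroup.inclusion hPT) with hφ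
    have hφF : φ ∈ F.Hom P := restrict_mem F ((mem_autGroup F hTS).1 γ.2) hPT
    have hconj : F.IsConj P φ.range := ⟨φ, hφF, rfl⟩
    have h5 := hp.crn.fn.2 _ hconj
    have hmemR : ∀ y : T, (y : Ω) ∈ φ.range ↔ ∃ x : T, (x : Ω) ∈ P ∧ (γ : MulAut T) x = y := by
      intro y
      constructor
      · rintro ⟨x, hx⟩
        exact ⟨⟨x, hPT x.2⟩, x.2, Subtype.ext hx⟩
      · rintro ⟨x, hx, rfl⟩
        exact ⟨⟨x, hx⟩, rfl⟩
    have hRT : ∀ y ∈ φ.range, y ∈ T := by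
      rintro _ ⟨x, rfl⟩
      exact ((γ : MulAut T) ⟨x, hPT x.2⟩).2
    have hYR : ∀ y : T, y ∈ Y → (y : Ω) ∈ φ.range := by
      intro y hy
      rw [hmemR]
      have h6 : (γ : MulAut T)⁻¹ y ∈ Y := hYinv _ y hy
      rw [hmemY] at h6
      refine ⟨(γ : MulAut T)⁻¹ y, ?_, MulAut.apply_inv_self T (γ : MulAut T) y⟩
      obtain ⟨k, hk⟩ := h6
      have hk : (u : Ω) ^ k = (((γ : MulAut T)⁻¹ y : T) : Ω) := hk
      rw [← hk]
      exact P.zpow_mem u.2 k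
    have hSR : S ≤ normalizerIn S φ.range := by
      intro s hs
      have hfR : Finite φ.range := finite_of_le (fun y hy => hTS (hRT y hy))
      refine mem_normalizerIn.2 ⟨hs, Subgroup.mem_normalizer_fintype (S := (φ.range : Set Ω)) fun y hy => ?_⟩
      have hyT := hRT y hy
      obtain ⟨x, hx, hxy⟩ := (hmemR ⟨y, hyT⟩).1 hy
      obtain ⟨k, l', hkl⟩ := hdecP x hx
      have hxb : (x : T ⧸ Y) = wb ^ l' := by
        have h7 : x = uT ^ k * wT ^ l' := Subtype.ext hkl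
        rw [h7]
        have h8 : ((uT ^ k * wT ^ l' : T) : T ⧸ Y) = ((uT : T) : T ⧸ Y) ^ k * wb ^ l' := rfl
        rw [h8, (QuotientGroup.eq_one_iff uT).2 huY, one_zpow, one_mul]
      have hyb : ((⟨y, hyT⟩ : T) : T ⧸ Y) ∈ Subgroup.zpowers v₀ := by
        rw [← hxy]
        have h7 : (((γ : MulAut T) x : T) : T ⧸ Y) = σ γ (x : T ⧸ Y) := rfl
        rw [h7, hxb, map_zpow]
        exact Subgroup.zpow_mem _ h2 _
      have hfix : σ (c s hs) ((⟨y, hyT⟩ : T) : T ⧸ Y) = ((⟨y, hyT⟩ : T) : T ⧸ Y) := by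
        obtain ⟨k', hk'⟩ := hyb
        have hk' : v₀ ^ k' = ((⟨y, hyT⟩ : T) : T ⧸ Y) := hk'
        rw [← hk', map_zpow, hv₀ _ (hcQ s hs)]
      have h7 : (⟨y, hyT⟩ : T)⁻¹ * (c s hs : MulAut T) ⟨y, hyT⟩ ∈ Y := by
        have h8 : (((c s hs : MulAut T) ⟨y, hyT⟩ : T) : T ⧸ Y) = ((⟨y, hyT⟩ : T) : T ⧸ Y) := hfix
        exact QuotientGroup.eq.1 h8.symm
      have h8 := hYR _ h7
      have h9 : s * y * s⁻¹ = y * (y⁻¹ * (s * y * s⁻¹)) := by group
      rw [h9]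
      exact Subgroup.mul_mem _ hy h8
    have h6 : Nat.card S ≤ Nat.card T := (Subgroup.card_le_of_le hSR).trans h5
    exact hne (Subgroup.eq_of_le_of_card_ge hTS h6)
  -- the subgroup of the elements acting unipotently
  let A₀ : Subgroup (F.autGroup T) :=
    { carrier := {α | σ α v₀ = v₀ ∧ (∀ x, ∃ i : ℤ, σ α x = v₀ ^ i * x) ∧ (α : MulAut T) uT = uT}
      mul_mem' := by
        rintro α β ⟨h1, h2, h3⟩ ⟨h4, h5, h6⟩
        refine ⟨by rw [map_mul, MulAut.mul_apply, h4, h1], fun x => ?_, ?_⟩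
        · obtain ⟨i, hi⟩ := h5 x
          obtain ⟨j, hj⟩ := h2 x
          refine ⟨i + j, ?_⟩
          rw [map_mul, MulAut.mul_apply, hi, map_mul, map_zpow, h1, hj, zpow_add, mul_assoc]
        · show ((α : MulAut T) * (β : MulAut T)) uT = uT
          rw [MulAut.mul_apply, h6, h3]
      one_mem' := ⟨by simp, fun x => ⟨0, by simp⟩, rfl⟩
      inv_mem' := by
        rintro α ⟨h1, h2, h3⟩
        have h4 : (σ α)⁻¹ v₀ = v₀ := by
          apply (σ α).injective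
          rw [MulAut.apply_inv_self, h1]
        refine ⟨by rw [map_inv, h4], fun x => ?_, ?_⟩
        · obtain ⟨i, hi⟩ := h2 ((σ α)⁻¹ x)
          rw [MulAut.apply_inv_self] at hi
          refine ⟨-i, ?_⟩
          have h5 : v₀ ^ (-i) * x = v₀ ^ (-i) * (v₀ ^ i * (σ α)⁻¹ x) := congrArg _ hi
          rw [map_inv, h5, ← mul_assoc, ← zpow_add, neg_add_cancel, zpow_zero, one_mul]
        · apply (α : MulAut T).injective
          rw [h3]
          exact MulAut.apply_inv_self T (α : MulAut T) uT }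
  have hYz : ∀ y ∈ Y, ∃ i : ℤ, y = uT ^ i := by
    intro y hy
    rw [hmemY] at hy
    obtain ⟨i, hi⟩ := hy
    exact ⟨i, Subtype.ext hi.symm⟩
  have hA₀n : A₀.Normal := by
    constructor
    rintro n ⟨h1, h2, h3⟩ γ
    obtain ⟨k, hk⟩ := hclaim γ
    obtain ⟨k', hk'⟩ := hclaim γ⁻¹
    have hk : v₀ ^ k = σ γ v₀ := hk
    have hk' : v₀ ^ k' = σ γ⁻¹ v₀ := hk'
    refine ⟨?_, fun x => ?_, ?_⟩
    · rw [map_mul, map_mul, MulAut.mul_apply, MulAut.mul_apply, ← hk', map_zpow, h1, hk', ← MulAut.mul_apply,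
        ← map_mul, mul_inv_cancel, map_one, MulAut.one_apply]
    · obtain ⟨i, hi⟩ := h2 (σ γ⁻¹ x)
      refine ⟨k * i, ?_⟩
      have h6 : σ γ (σ γ⁻¹ x) = x := by
        rw [← MulAut.mul_apply, ← map_mul, mul_inv_cancel, map_one, MulAut.one_apply]
      rw [map_mul, map_mul, MulAut.mul_apply, MulAut.mul_apply, hi, map_mul, map_zpow, ← hk, ← zpow_mul, h6]
    · show ((γ : MulAut T) * (n : MulAut T) * (γ : MulAut T)⁻¹) uT = uT
      obtain ⟨i, hi⟩ := hYz _ (hYinv (γ : MulAut T)⁻¹ uT huY)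
      rw [MulAut.mul_apply, MulAut.mul_apply, hi, map_zpow, h3, ← hi, MulAut.apply_inv_self]
  have hA₀p : IsPGroup p A₀ := by
    apply isPGroup_of_coprime
    rintro ⟨α, h1, h2, h3⟩ hc
    have hc1 : (orderOf α).Coprime p := by
      rw [← Subgroup.orderOf_coe] at hc
      exact hc
    have hc2 : (orderOf (α : MulAut T)).Coprime p := by
      rw [← Subgroup.orderOf_coe] at hc1
      exact hc1
    have hc3 : (orderOf (σ α)).Coprime p := Nat.Coprime.coprime_dvd_left (orderOf_map_dvd σ α) hc1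
    have hσ1 : ∀ x, σ α x = x := by
      intro x
      apply coprime_fix (IsPGroup.of_card hcV) hc3
      obtain ⟨i, hi⟩ := h2 x
      rw [hi, hVc (v₀ ^ i) x, inv_mul_cancel_left, map_zpow, h1]
    apply Subtype.ext
    apply Subtype.ext
    show (α : MulAut T) = 1
    ext x
    rw [MulAut.one_apply]
    congr 1
    apply coprime_fix (hS.to_le hTS) hc2
    have h4 : x⁻¹ * (α : MulAut T) x ∈ Y := by
      have h5 : (((α : MulAut T) x : T) : T ⧸ Y) = (x : T ⧸ Y) := hσ1 (x : T ⧸ Y)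
      exact QuotientGroup.eq.1 h5.symm
    obtain ⟨i, hi⟩ := hYz _ h4
    rw [hi, map_zpow, h3]
  have hcA₀ : ∀ s (hs : s ∈ S), c s hs ∈ A₀ := by
    intro s hs
    refine ⟨hv₀ _ (hcQ s hs), hQx _ (hcQ s hs), ?_⟩
    apply Subtype.ext
    show s * (u : Ω) * s⁻¹ = u
    rw [hcu s hs]; group
  have hTfn : F.IsFullyNormalized T := by
    refine ⟨hTS, fun Q _ => ?_⟩
    have h1 : normalizerIn S T = S := inf_eq_left.2 fun s hs => hSN s hs
    rw [h1]
    exact Nat.card_le_card_of_injective _ (Subgroup.inclusion_injective inf_le_left)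
  have hA₀S : ∀ α ∈ A₀, (α : MulAut T) ∈ autInducedBy S T := by
    intro α hα
    obtain ⟨k, hk, hkA⟩ := fullyAutomized_conj_le (fullyNormalized_spec hS hF hTfn).2
      (A := A₀.map (F.autGroup T).subtype) (by
        rintro _ ⟨x, -, rfl⟩
        exact x.2) (hA₀p.map _)
    have h1 := hA₀n.conj_mem α hα ⟨k, hk⟩⁻¹
    have h2 := hkA _ ⟨_, h1, rfl⟩
    have h3 : k * ((F.autGroup T).subtype (⟨k, hk⟩⁻¹ * α * (⟨k, hk⟩⁻¹)⁻¹)) * k⁻¹ = (α : MulAut T) := by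
      show k * (k⁻¹ * (α : MulAut T) * (k⁻¹)⁻¹) * k⁻¹ = α
      group
    rwa [h3] at h2
  have hext : ∀ α ∈ F.autGroup T, ∃ ψ ∈ F.autGroup S, ∀ (x : T) (s : S), (s : Ω) = x →
      ((ψ s : S) : Ω) = ((α x : T) : Ω) := by
    intro α hα
    obtain ⟨ψ, hψ, hψx⟩ := receptive_extend' (receptive_of_fullyNormalized hS hF hTfn) ((mem_autGroup F hTS).1 hα)
      hTS le_rfl (fun x hx => hSN x hx) (fun x hx => by
        have h1 := hA₀n.conj_mem _ (hcA₀ x hx) ⟨α, hα⟩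
        exact hA₀S _ h1)
    have hψS : ∀ x, ψ x ∈ S := fun x => apply_mem F hψ x
    have hψi : Function.Injective ψ := F.injective_of_mem hψ
    let f : S →* S := ψ.codRestrict S hψS
    have hfi : Function.Injective f := by
      intro x y hxy
      exact hψi (congrArg Subtype.val hxy)
    refine ⟨MulEquiv.ofBijective f (Finite.injective_iff_bijective.1 hfi), ?_, ?_⟩
    · rw [mem_autGroup F le_rfl]
      refine mem_of_agree F hψ le_rfl fun x hx => rfl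
    · rintro x s hsx
      have h1 : s = ⟨x, hTS x.2⟩ := Subtype.ext hsx
      rw [h1]
      exact hψx x
  -- lifting
  have hlift : ∀ x y : T, (x : T ⧸ Y) = (y : T ⧸ Y) → ∃ i : ℤ, (x : Ω) = (u : Ω) ^ i * y := by
    intro x y hxy
    have h1 : x⁻¹ * y ∈ Y := QuotientGroup.eq.1 hxy
    obtain ⟨i, hi⟩ := hYz _ h1
    refine ⟨-i, ?_⟩
    have h2 : (y : Ω) = x * (u : Ω) ^ i := by
      have h3 : y = x * uT ^ i := by rw [← hi]; group
      exact congrArg Subtype.val h3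
    have h4 : Commute (x : Ω) ((u : Ω) ^ i) := (show Commute (x : Ω) (u : Ω) from hTu x x.2).zpow_right i
    rw [h2, h4.eq, ← mul_assoc, ← zpow_add, neg_add_cancel, zpow_zero, one_mul]
  have hdecT : ∀ t ∈ T, ∃ i j k : ℤ, t = (u : Ω) ^ i * ((g : Ω) ^ j * (w : Ω) ^ k) := by
    intro t ht
    obtain ⟨j, k, hjk⟩ := hgen ((⟨t, ht⟩ : T) : T ⧸ Y)
    obtain ⟨i, hi⟩ := hlift ⟨t, ht⟩ (g ^ j * wT ^ k) hjk
    exact ⟨i, j, k, hi⟩
  have hindT : ∀ i j k : ℤ, (u : Ω) ^ i * ((g : Ω) ^ j * (w : Ω) ^ k) = 1 → (p : ℤ) ∣ j ∧ (p : ℤ) ∣ k := by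
    intro i j k hijk
    have h1 : uT ^ i * (g ^ j * wT ^ k) = 1 := Subtype.ext hijk
    have h2 := congrArg (fun x : T => (x : T ⧸ Y)) h1
    have h3 : ((uT ^ i * (g ^ j * wT ^ k) : T) : T ⧸ Y) = ((uT : T) : T ⧸ Y) ^ i * (v₀ ^ j * wb ^ k) := rfl
    have h4 : ((uT ^ i * (g ^ j * wT ^ k) : T) : T ⧸ Y) = 1 := h2
    rw [h3, (QuotientGroup.eq_one_iff uT).2 huY, one_zpow, one_mul] at h4
    exact hind h4
  -- the commutator of `w` and `g`
  obtain ⟨n, hn⟩ : ∃ n : ℤ, (w : Ω) * g * (w : Ω)⁻¹ = (u : Ω) ^ n * g := by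
    refine hlift (wT * g * wT⁻¹) g ?_
    have h1 : ((wT * g * wT⁻¹ : T) : T ⧸ Y) = wb * v₀ * wb⁻¹ := rfl
    rw [h1, hVc wb v₀, mul_inv_cancel_right]
  have hn0 : ¬ (p : ℤ) ∣ n := by
    rintro ⟨k, rfl⟩
    rw [zpow_mul, zpow_natCast, hup, one_zpow, one_mul] at hn
    have h1 : (g : Ω) * w = w * g := by
      calc (g : Ω) * w = (w : Ω) * g * (w : Ω)⁻¹ * w := by rw [hn]
        _ = w * g := by group
    have h2 := hcentP g (hTS g.2) (hTu g g.2) h1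
    obtain ⟨i, j, hij⟩ := hdecP g h2
    have h3 : (u : Ω) ^ i * ((g : Ω) ^ (-1 : ℤ) * (w : Ω) ^ j) = 1 := by
      rw [zpow_neg_one, hij]
      have h4 : Commute ((u : Ω) ^ i) ((w : Ω) ^ j) := (huw.zpow_left i).zpow_right j
      rw [h4.eq, mul_inv_rev]
      calc (u : Ω) ^ i * (((u : Ω) ^ i)⁻¹ * ((w : Ω) ^ j)⁻¹ * (w : Ω) ^ j)
          = ((u : Ω) ^ i * ((u : Ω) ^ i)⁻¹) * (((w : Ω) ^ j)⁻¹ * (w : Ω) ^ j) := by simp only [mul_assoc]
        _ = 1 := by rw [mul_inv_cancel, inv_mul_cancel, one_mul]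
    have h4 := (hindT _ _ _ h3).1
    have h5 : (p : ℤ) ∣ 1 := by
      have := (dvd_neg (a := (p : ℤ)) (b := 1)).1 h4
      exact this
    have h6 : p ∣ 1 := by exact_mod_cast h5
    exact hpr.1.one_lt.ne' (Nat.dvd_one.1 h6)
  refine ⟨g, n, g.2, hdecT, hindT, hn, hn0, hcu, ?_, ?_, ?_, hext⟩
  · intro s hs
    exact hlift ((c s hs : MulAut T) g) g (hv₀ _ (hcQ s hs))
  · intro s hs
    obtain ⟨m, hm, hm'⟩ := hsw s hs
    obtain ⟨k, hk⟩ := hlift ((c s hs : MulAut T) wT) (g ^ m * wT) hm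
    exact ⟨k, m, hk, hm'⟩
  · intro α hα x hx
    have hxg : x = g := Subtype.ext hx
    subst hxg
    obtain ⟨ν, hν⟩ := hclaim ⟨α, hα⟩
    have hν' : (((α x : T)) : T ⧸ Y) = ((x ^ ν : T) : T ⧸ Y) := hν.symm
    obtain ⟨k, hk⟩ := hlift (α x) (x ^ ν) hν'
    exact ⟨k, ν, hk⟩

end

end H89.Rk2A
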