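import Cfsg.Agent.Lib.H89.Rk2D

/-! S5289: rank two, the case of an essential subgroup of order `p ^ 2`: contradiction. -/

set_option autoImplicit false
set_option linter.unusedSectionVars false
open scoped commutatorElement
open Cfsg Cfsg.FusionSystem H86.FusBasic H86.FusSat H86.FusAlperin H89.Normal H89.Normal2

namespace H89.Rk2A

/-- Commutator formula in class two. -/
theorem comm_zz {G : Type*} [Group G] {U x y : G} (hU : ∀ z, z * U = U * z) {n : ℤ} (h : x * y * x⁻¹ = U ^ n * y)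
    (a b : ℤ) : x ^ a * y ^ b * (x ^ a)⁻¹ = U ^ (n * a * b) * y ^ b := by
  have key : ∀ {x y : G} {n : ℤ}, x * y * x⁻¹ = U ^ n * y → ∀ b : ℤ, x * y ^ b * x⁻¹ = U ^ (n * b) * y ^ b := by
    intro x y n h b
    have h1 : Commute (U ^ n) y := ((show Commute y U from hU y).zpow_right n).symm
    rw [← conj_zpow, h, h1.mul_zpow, ← zpow_mul]
  have h1 := key h b
  have h2 : y ^ b * x * (y ^ b)⁻¹ = U ^ (-(n * b)) * x := by
    have h3 : Commute x (U ^ (n * b)) := (show Commute x U from hU x).zpow_right _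
    have h4 : x * y ^ b = U ^ (n * b) * y ^ b * x := by rw [← h1]; group
    have h5 : y ^ b * x = U ^ (-(n * b)) * (x * y ^ b) := by
      rw [h4, ← mul_assoc, ← mul_assoc, ← zpow_add, neg_add_cancel, zpow_zero, one_mul]
    rw [h5]
    group
  have h3 := key h2 a
  have h4 : y ^ b * x ^ a = U ^ (-(n * b) * a) * x ^ a * y ^ b := by rw [← h3]; group
  have h5 : x ^ a * y ^ b = U ^ (n * a * b) * (y ^ b * x ^ a) := by
    rw [h4, ← mul_assoc, ← mul_assoc, ← zpow_add]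
    have : n * a * b + -(n * b) * a = 0 := by ring
    rw [this, zpow_zero, one_mul]
  rw [h5]
  group

/-- The final contradiction, in a group. -/
theorem final_false {G : Type*} [Group G] {p : ℕ} [hpr : Fact p.Prime] (hp5 : 5 ≤ p) (T : Subgroup G) (U g W : G)
    (hU : ∀ z, z * U = U * z) (hUp : U ^ p = 1) (hU1 : U ≠ 1) (hgp : g ^ p = 1) (hWp : W ^ p = 1) (hWT : W ∈ T) {n : ℤ}
    (hWg : W * g * W⁻¹ = U ^ n * g) (hn : ¬ (p : ℤ) ∣ n) (hsg : ∀ s, ∃ l : ℤ, s * g * s⁻¹ = U ^ l * g)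
    (hsW : ∀ s, ∃ k m : ℤ, s * W * s⁻¹ = U ^ k * (g ^ m * W) ∧ ((p : ℤ) ∣ m → s ∈ T))
    (hdec : ∀ t ∈ T, ∃ i j k : ℤ, t = U ^ i * (g ^ j * W ^ k))
    (hind : ∀ i j k : ℤ, U ^ i * (g ^ j * W ^ k) = 1 → (p : ℤ) ∣ j ∧ (p : ℤ) ∣ k)
    (hTexp : ∀ t ∈ T, t ^ p = 1) (hΩ : ∀ s, s ^ p = 1 → s ∈ T) (hne : T ≠ ⊤)
    (ψ : MulAut G) {κ : ℕ} (hκ : 2 * κ = p + 1) (hψU : ψ U = U ^ 2) (hψW : ψ W = W ^ κ) {k₁ ν : ℤ}
    (hψg : ψ g = U ^ k₁ * g ^ ν) : False := by
  have hUz : ∀ z, Commute z U := hU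
  have hUzz : ∀ (z : G) (i : ℤ), Commute z (U ^ i) := fun z i => (hUz z).zpow_right i
  have hpi := Nat.prime_iff_prime_int.1 hpr.1
  have hUd : ∀ i : ℤ, U ^ i = 1 → (p : ℤ) ∣ i := fun i hi => Rk2Act.dvd_of_zpow hUp hU1 hi
  have hUe : ∀ i j : ℤ, U ^ i = U ^ j → (p : ℤ) ∣ i - j := by
    intro i j hij
    apply hUd
    rw [zpow_sub, hij, mul_inv_cancel]
  have hz1 : ∀ x : G, x ^ p = 1 → ∀ i : ℤ, (p : ℤ) ∣ i → x ^ i = 1 := by
    rintro x hx _ ⟨k, rfl⟩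
    rw [zpow_mul, zpow_natCast, hx, one_zpow]
  -- `W ^ a` and `g ^ b` commute iff ...
  have hcomm : ∀ a b : ℤ, W ^ a * g ^ b = g ^ b * W ^ a → (p : ℤ) ∣ n * a * b := by
    intro a b hab
    have h1 := comm_zz hU hWg a b
    rw [hab, mul_inv_cancel_right] at h1
    exact hUd _ (mul_eq_right.1 h1.symm)
  -- the element `s`
  obtain ⟨s₀, hs₀⟩ : ∃ s, s ∉ T := by
    by_contra h
    push Not at h
    exact hne (Subgroup.eq_top_iff' T |>.2 h)
  obtain ⟨l, hl⟩ := hsg s₀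
  obtain ⟨r, hr⟩ := exists_inv_mod hn (-l)
  obtain ⟨s, hs⟩ : ∃ s, s = s₀ * W ^ r := ⟨_, rfl⟩
  have hsT : s ∉ T := by
    intro h
    apply hs₀
    have : s₀ = s * (W ^ r)⁻¹ := by rw [hs]; group
    rw [this]
    exact T.mul_mem h (T.inv_mem (T.zpow_mem hWT r))
  have hsg' : Commute s g := by
    have h1 : s * g * s⁻¹ = g := by
      have h2 : s * g * s⁻¹ = s₀ * (W ^ r * g ^ (1 : ℤ) * (W ^ r)⁻¹) * s₀⁻¹ := by rw [hs, zpow_one]; group
      rw [h2, comm_zz hU hWg r 1, zpow_one, mul_one]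
      have h3 : s₀ * (U ^ (n * r) * g) * s₀⁻¹ = U ^ (n * r) * (s₀ * g * s₀⁻¹) := by
        rw [← mul_assoc, (hUzz s₀ (n * r)).eq]; simp only [mul_assoc]
      rw [h3, hl, ← mul_assoc, ← zpow_add]
      have h4 : n * r + l = n * r - -l := by ring
      rw [h4, hz1 U hUp _ hr, one_mul]
    show s * g = g * s
    calc s * g = s * g * s⁻¹ * s := by group
      _ = g * s := by rw [h1]
  obtain ⟨k, m, hm, hmT⟩ := hsW s
  have hpm : ¬ (p : ℤ) ∣ m := fun h => hsT (hmT h)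
  -- powers of `s`
  have hsj : ∀ j : ℤ, s ^ j * W * (s ^ j)⁻¹ = U ^ (k * j) * (g ^ (m * j) * W) := by
    have hnat : ∀ j : ℕ, s ^ j * W * (s ^ j)⁻¹ = U ^ (k * j) * (g ^ (m * j) * W) := by
      intro j
      induction j with
      | zero => simp
      | succ j ih =>
        have h1 : s ^ (j + 1) * W * (s ^ (j + 1))⁻¹ = s * (s ^ j * W * (s ^ j)⁻¹) * s⁻¹ := by
          rw [pow_succ']; group
        have e1 : Commute s (U ^ (k * j)) := hUzz _ _
        have e2 : Commute s (g ^ (m * j)) := hsg'.zpow_right _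
        have e3 : Commute (g ^ (m * j)) (U ^ k) := hUzz _ _
        rw [h1, ih]
        have h2 : s * (U ^ (k * (j : ℤ)) * (g ^ (m * (j : ℤ)) * W)) * s⁻¹ =
            U ^ (k * (j : ℤ)) * (g ^ (m * (j : ℤ)) * (s * W * s⁻¹)) := by
          calc s * (U ^ (k * (j : ℤ)) * (g ^ (m * (j : ℤ)) * W)) * s⁻¹
              = (s * U ^ (k * (j : ℤ))) * (g ^ (m * (j : ℤ)) * W) * s⁻¹ := by simp only [mul_assoc]
            _ = U ^ (k * (j : ℤ)) * (s * g ^ (m * (j : ℤ))) * W * s⁻¹ := by rw [e1.eq]; simp only [mul_assoc]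
            _ = _ := by rw [e2.eq]; simp only [mul_assoc]
        rw [h2, hm]
        have h3 : U ^ (k * (j : ℤ)) * (g ^ (m * (j : ℤ)) * (U ^ k * (g ^ m * W))) =
            (U ^ (k * (j : ℤ)) * U ^ k) * ((g ^ (m * (j : ℤ)) * g ^ m) * W) := by
          calc U ^ (k * (j : ℤ)) * (g ^ (m * (j : ℤ)) * (U ^ k * (g ^ m * W)))
              = U ^ (k * (j : ℤ)) * (g ^ (m * (j : ℤ)) * U ^ k) * (g ^ m * W) := by simp only [mul_assoc]
            _ = _ := by rw [e3.eq]; simp only [mul_assoc]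
        rw [h3, ← zpow_add, ← zpow_add]
        congr 2
        · push_cast; ring
        · congr 2; push_cast; ring
    intro j
    rcases Int.eq_nat_or_neg j with ⟨q, rfl | rfl⟩
    · have := hnat q
      rwa [← zpow_natCast s q] at this
    · have h1 := hnat q
      have e1 : Commute (s ^ q) (U ^ (k * q)) := hUzz _ _
      have e2 : Commute (s ^ q) (g ^ (m * q)) := (hsg'.pow_left q).zpow_right _
      have h2 : W = U ^ (k * (q : ℤ)) * (g ^ (m * (q : ℤ)) * ((s ^ q)⁻¹ * W * s ^ q)) := by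
        have h3 : (s ^ q)⁻¹ * (s ^ q * W * (s ^ q)⁻¹) * s ^ q = W := by group
        rw [h1] at h3
        calc W = (s ^ q)⁻¹ * (U ^ (k * (q : ℤ)) * (g ^ (m * (q : ℤ)) * W)) * s ^ q := h3.symm
          _ = ((s ^ q)⁻¹ * U ^ (k * (q : ℤ))) * (g ^ (m * (q : ℤ)) * W) * s ^ q := by simp only [mul_assoc]
          _ = U ^ (k * (q : ℤ)) * ((s ^ q)⁻¹ * g ^ (m * (q : ℤ))) * W * s ^ q := by
              rw [e1.inv_left.eq]; simp only [mul_assoc]
          _ = U ^ (k * (q : ℤ)) * (g ^ (m * (q : ℤ)) * ((s ^ q)⁻¹ * W * s ^ q)) := by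
              rw [e2.inv_left.eq]; simp only [mul_assoc]
      have h4 : (s ^ q)⁻¹ * W * s ^ q = (g ^ (m * (q : ℤ)))⁻¹ * ((U ^ (k * (q : ℤ)))⁻¹ * W) := by
        rw [eq_inv_mul_iff_mul_eq, eq_inv_mul_iff_mul_eq]
        exact h2.symm
      rw [zpow_neg, zpow_natCast, inv_inv, h4, ← zpow_neg, ← zpow_neg, ← mul_assoc,
        (hUzz (g ^ (-(m * (q : ℤ)))) (-(k * (q : ℤ)))).eq, mul_assoc]
      congr 2
      · ring
      · congr 2; ring
  -- `s ^ p`
  have hspW : s ^ p * W * (s ^ p)⁻¹ = W := by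
    have h1 := hsj p
    rw [hz1 U hUp _ (dvd_mul_left _ _), hz1 g hgp _ (dvd_mul_left _ _), one_mul, one_mul, zpow_natCast] at h1
    exact h1
  have hsp1 : s ^ p ≠ 1 := fun h => hsT (hΩ s h)
  have hspT : s ^ p ∈ T := by
    obtain ⟨k', m', h1, h2⟩ := hsW (s ^ p)
    apply h2
    rw [hspW] at h1
    refine (hind k' m' 0 ?_).1
    rw [zpow_zero, mul_one]
    have h3 : W = (U ^ k' * g ^ m') * W := by rw [mul_assoc]; exact h1
    exact (mul_eq_right.1 h3.symm)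
  obtain ⟨n₀, hn₀⟩ : ∃ n₀ : ℤ, s ^ p = U ^ n₀ := by
    obtain ⟨i, j, q, hij⟩ := hdec _ hspT
    have hcW : Commute (s ^ p) W := by
      show s ^ p * W = W * s ^ p
      calc s ^ p * W = s ^ p * W * (s ^ p)⁻¹ * s ^ p := by group
        _ = W * s ^ p := by rw [hspW]
    have hcg : Commute (s ^ p) g := hsg'.pow_left p
    -- `g ^ j` commutes with `W`
    have h1 : Commute (g ^ j) W := by
      have h2 : g ^ j = (U ^ i)⁻¹ * s ^ p * (W ^ q)⁻¹ := by rw [hij]; group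
      rw [h2]
      exact (((hUzz W i).symm.inv_left).mul_left hcW).mul_left (((Commute.refl W).zpow_left q).inv_left)
    have h2 : (p : ℤ) ∣ j := by
      have h3 := hcomm 1 j (by rw [zpow_one]; exact h1.eq.symm)
      rw [mul_one] at h3
      rcases hpi.dvd_or_dvd h3 with h4 | h4
      · exact absurd h4 hn
      · exact h4
    have h3 : Commute (W ^ q) g := by
      have h4 : W ^ q = (g ^ j)⁻¹ * ((U ^ i)⁻¹ * s ^ p) := by rw [hij]; group
      rw [h4]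
      exact (((Commute.refl g).zpow_left j).inv_left).mul_left (((hUzz g i).symm.inv_left).mul_left hcg)
    have h4 : (p : ℤ) ∣ q := by
      have h5 := hcomm q 1 (by rw [zpow_one]; exact h3.eq)
      rw [mul_one] at h5
      rcases hpi.dvd_or_dvd h5 with h6 | h6
      · exact absurd h6 hn
      · exact h6
    refine ⟨i, ?_⟩
    rw [hij, hz1 g hgp _ h2, hz1 W hWp _ h4, one_mul, mul_one]
  have hpn₀ : ¬ (p : ℤ) ∣ n₀ := by
    intro h
    apply hsp1
    rw [hn₀, hz1 U hUp _ h]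
  have h2U : ∀ i : ℤ, ψ (U ^ i) = U ^ (2 * i) := by
    intro i
    rw [map_zpow, hψU, ← zpow_natCast U 2, ← zpow_mul]
    rfl
  -- relation 1
  have hR1 : (p : ℤ) ∣ κ * ν - 2 := by
    have h1 := congrArg ψ hWg
    rw [map_mul, map_mul, map_mul, map_inv, hψW, hψg, h2U] at h1
    have h2 : W ^ κ * (U ^ k₁ * g ^ ν) * (W ^ κ)⁻¹ = U ^ k₁ * (W ^ (κ : ℤ) * g ^ ν * (W ^ (κ : ℤ))⁻¹) := by
      rw [← mul_assoc (W ^ κ), (hUzz (W ^ κ) k₁).eq, zpow_natCast]; simp only [mul_assoc]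
    rw [h2, comm_zz hU hWg] at h1
    have h3 : U ^ (k₁ + n * κ * ν) = U ^ (2 * n + k₁) := by
      rw [zpow_add, zpow_add]
      have h4 : U ^ k₁ * (U ^ (n * (κ : ℤ) * ν) * g ^ ν) = (U ^ k₁ * U ^ (n * (κ : ℤ) * ν)) * g ^ ν := by
        simp only [mul_assoc]
      have h5 : U ^ (2 * n) * (U ^ k₁ * g ^ ν) = (U ^ (2 * n) * U ^ k₁) * g ^ ν := by simp only [mul_assoc]
      rw [h4, h5] at h1
      exact mul_right_cancel h1
    have h4 := hUe _ _ h3
    have h5 : k₁ + n * κ * ν - (2 * n + k₁) = n * (κ * ν - 2) := by ring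
    rw [h5] at h4
    rcases hpi.dvd_or_dvd h4 with h6 | h6
    · exact absurd h6 hn
    · exact h6
  have hp2 : ¬ (p : ℤ) ∣ 2 := by
    intro h
    have h1 : p ∣ 2 := by exact_mod_cast h
    have := Nat.le_of_dvd (by norm_num) h1
    omega
  have hpν : ¬ (p : ℤ) ∣ ν := by
    intro h
    apply hp2
    have h1 : (2 : ℤ) = κ * ν - (κ * ν - 2) := by ring
    rw [h1]
    exact dvd_sub (h.mul_left _) hR1
  -- `ψ s` commutes with `g`
  have hψsg : Commute (ψ s) g := by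
    have h1 : Commute (ψ s) (ψ g) := hsg'.map ψ
    rw [hψg] at h1
    have h2 : Commute (ψ s) (g ^ ν) := by
      have h3 : g ^ ν = (U ^ k₁)⁻¹ * (U ^ k₁ * g ^ ν) := by group
      rw [h3]
      exact (hUzz _ _).inv_right.mul_right h1
    obtain ⟨b, hb⟩ := exists_inv_mod hpν 1
    have h3 : g = (g ^ ν) ^ b := by
      rw [← zpow_mul]
      have h4 : g ^ (ν * b) = g ^ (ν * b - 1) * g ^ (1 : ℤ) := by rw [← zpow_add]; congr 1; ring
      rw [h4, hz1 g hgp _ hb, one_mul, zpow_one]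
    rw [h3]
    exact h2.zpow_right b
  obtain ⟨k', m', hm', -⟩ := hsW (ψ s)
  obtain ⟨μ, hμ⟩ := exists_inv_mod hpm m'
  set t := (s ^ μ)⁻¹ * ψ s with ht
  have htg : Commute t g := ((hsg'.zpow_left μ).inv_left).mul_left hψsg
  have htW : t * W * t⁻¹ = U ^ (k' - k * μ) * (g ^ (m' - m * μ) * W) := by
    have h1 : t * W * t⁻¹ = s ^ (-μ) * (ψ s * W * (ψ s)⁻¹) * (s ^ (-μ))⁻¹ := by rw [ht, zpow_neg]; group
    rw [h1, hm']
    have e1 : Commute (s ^ (-μ)) (U ^ k') := hUzz _ _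
    have e2 : Commute (s ^ (-μ)) (g ^ m') := (hsg'.zpow_left _).zpow_right _
    have h2 : s ^ (-μ) * (U ^ k' * (g ^ m' * W)) * (s ^ (-μ))⁻¹ = U ^ k' * (g ^ m' * (s ^ (-μ) * W * (s ^ (-μ))⁻¹)) := by
      calc s ^ (-μ) * (U ^ k' * (g ^ m' * W)) * (s ^ (-μ))⁻¹
          = (s ^ (-μ) * U ^ k') * (g ^ m' * W) * (s ^ (-μ))⁻¹ := by simp only [mul_assoc]
        _ = U ^ k' * (s ^ (-μ) * g ^ m') * W * (s ^ (-μ))⁻¹ := by rw [e1.eq]; simp only [mul_assoc]
        _ = _ := by rw [e2.eq]; simp only [mul_assoc]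
    rw [h2, hsj]
    have e3 : Commute (g ^ m') (U ^ (k * -μ)) := hUzz _ _
    calc U ^ k' * (g ^ m' * (U ^ (k * -μ) * (g ^ (m * -μ) * W)))
        = U ^ k' * (g ^ m' * U ^ (k * -μ)) * (g ^ (m * -μ) * W) := by simp only [mul_assoc]
      _ = (U ^ k' * U ^ (k * -μ)) * ((g ^ m' * g ^ (m * -μ)) * W) := by rw [e3.eq]; simp only [mul_assoc]
      _ = _ := by
          rw [← zpow_add, ← zpow_add]
          congr 2
          · ring
          · congr 2; ring
  have htT : t ∈ T := by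
    obtain ⟨k'', m'', h1, h2⟩ := hsW t
    apply h2
    rw [htW] at h1
    have h3 : g ^ (m' - m * μ) = 1 := by
      apply hz1 g hgp
      have : m' - m * μ = -(m * μ - m') := by ring
      rw [this]
      exact (dvd_neg).2 hμ
    rw [h3, one_mul] at h1
    refine (hind (k'' - (k' - k * μ)) m'' 0 ?_).1
    rw [zpow_zero, mul_one]
    have h4 : U ^ (k' - k * μ) = U ^ k'' * g ^ m'' := by
      have h5 : U ^ k'' * (g ^ m'' * W) = (U ^ k'' * g ^ m'') * W := by simp only [mul_assoc]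
      rw [h5] at h1
      exact mul_right_cancel h1
    rw [zpow_sub, ← (hUzz (U ^ k'') (k' - k * μ)).inv_right.eq.symm]
    have h6 : (U ^ (k' - k * μ))⁻¹ * U ^ k'' * g ^ m'' = (U ^ (k' - k * μ))⁻¹ * (U ^ k'' * g ^ m'') := by
      simp only [mul_assoc]
    rw [h6, ← h4, inv_mul_cancel]
  obtain ⟨i₂, j₂, ht'⟩ : ∃ i j : ℤ, t = U ^ i * g ^ j := by
    obtain ⟨i, j, q, hij⟩ := hdec t htT
    have h3 : Commute (W ^ q) g := by
      have h4 : W ^ q = (g ^ j)⁻¹ * ((U ^ i)⁻¹ * t) := by rw [hij]; group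
      rw [h4]
      exact (((Commute.refl g).zpow_left j).inv_left).mul_left (((hUzz g i).symm.inv_left).mul_left htg)
    have h4 : (p : ℤ) ∣ q := by
      have h5 := hcomm q 1 (by rw [zpow_one]; exact h3.eq)
      rw [mul_one] at h5
      rcases hpi.dvd_or_dvd h5 with h6 | h6
      · exact absurd h6 hn
      · exact h6
    exact ⟨i, j, by rw [hij, hz1 W hWp _ h4, mul_one]⟩
  have hst : Commute s t := by
    rw [ht']
    exact (hUzz _ _).mul_right (hsg'.zpow_right _)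
  have hψs : ψ s = s ^ μ * t := by rw [ht]; group
  -- relation 3
  have hR3 : (p : ℤ) ∣ μ - 2 := by
    have h1 : ψ (s ^ p) = U ^ (2 * n₀) := by rw [hn₀, h2U]
    rw [map_pow, hψs, (hst.zpow_left μ).mul_pow, hTexp t htT, mul_one] at h1
    have h2 : (s ^ μ) ^ p = U ^ (n₀ * μ) := by
      rw [← zpow_natCast, ← zpow_mul, mul_comm μ (p : ℤ), zpow_mul, zpow_natCast, hn₀, ← zpow_mul]
    rw [h2] at h1
    have h3 := hUe _ _ h1
    have h4 : n₀ * μ - 2 * n₀ = n₀ * (μ - 2) := by ring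
    rw [h4] at h3
    rcases hpi.dvd_or_dvd h3 with h6 | h6
    · exact absurd h6 hpn₀
    · exact h6
  -- relation 2
  have hpw : ∀ (a : ℤ) (q : ℕ), ∃ i : ℤ, (g ^ a * W) ^ q = U ^ i * (g ^ (a * q) * W ^ q) := by
    intro a q
    induction q with
    | zero => exact ⟨0, by simp⟩
    | succ q ih =>
      obtain ⟨i, hi⟩ := ih
      have h1 := comm_zz hU hWg q a
      refine ⟨i + n * q * a, ?_⟩
      have h2 : W ^ q * g ^ a = U ^ (n * q * a) * g ^ a * W ^ q := by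
        rw [zpow_natCast] at h1
        rw [← h1]; group
      rw [pow_succ, hi]
      have e3 : Commute (g ^ (a * (q : ℤ))) (U ^ (n * q * a)) := hUzz _ _
      calc U ^ i * (g ^ (a * (q : ℤ)) * W ^ q) * (g ^ a * W)
          = U ^ i * g ^ (a * (q : ℤ)) * (W ^ q * g ^ a) * W := by simp only [mul_assoc]
        _ = U ^ i * (g ^ (a * (q : ℤ)) * U ^ (n * q * a)) * g ^ a * (W ^ q * W) := by rw [h2]; simp only [mul_assoc]
        _ = (U ^ i * U ^ (n * q * a)) * ((g ^ (a * (q : ℤ)) * g ^ a) * (W ^ q * W)) := by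
            rw [e3.eq]; simp only [mul_assoc]
        _ = _ := by
            rw [← zpow_add, ← zpow_add, ← pow_succ]
            congr 3
            push_cast; ring
  have hR2 : (p : ℤ) ∣ m' * κ - ν * m := by
    have h1 := congrArg ψ hm
    rw [map_mul, map_mul, map_mul, map_mul, map_inv, hψW, map_zpow ψ g, hψg, h2U] at h1
    have h2 : ψ s * W ^ κ * (ψ s)⁻¹ = (ψ s * W * (ψ s)⁻¹) ^ κ := by rw [conj_pow]
    obtain ⟨i, hi⟩ := hpw m' κ
    rw [h2, hm', ((hUzz _ _).symm).mul_pow, hi, ((hUzz _ _).symm).mul_zpow, ← zpow_mul g ν m] at h1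
    -- all `U` powers to the left
    have h3 : ∃ e : ℤ, U ^ e * (g ^ (m' * κ - ν * m) * W ^ (0 : ℤ)) = 1 := by
      have h4 : (U ^ k') ^ κ * (U ^ i * (g ^ (m' * (κ : ℤ)) * W ^ κ)) = ((U ^ k') ^ κ * U ^ i * g ^ (m' * (κ : ℤ))) * W ^ κ := by
        simp only [mul_assoc]
      have h5 : U ^ (2 * k) * ((U ^ k₁) ^ m * g ^ (ν * m) * W ^ κ) = (U ^ (2 * k) * (U ^ k₁) ^ m * g ^ (ν * m)) * W ^ κ := by
        simp only [mul_assoc]
      rw [h4, h5] at h1
      have h6 := mul_right_cancel h1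
      refine ⟨k' * κ + i - (2 * k + k₁ * m), ?_⟩
      rw [zpow_zero, mul_one]
      have h7 : (U ^ k') ^ κ * U ^ i = U ^ (k' * κ + i) := by
        rw [← zpow_natCast, ← zpow_mul, ← zpow_add]
      have h8 : U ^ (2 * k) * (U ^ k₁) ^ m = U ^ (2 * k + k₁ * m) := by rw [← zpow_mul, ← zpow_add]
      rw [h7, h8] at h6
      rw [zpow_sub, zpow_sub g]
      have e4 : Commute (g ^ (m' * (κ : ℤ))) ((U ^ (2 * k + k₁ * m))⁻¹) := (hUzz _ _).inv_right
      calc U ^ (k' * (κ : ℤ) + i) * (U ^ (2 * k + k₁ * m))⁻¹ * (g ^ (m' * (κ : ℤ)) * (g ^ (ν * m))⁻¹)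
          = U ^ (k' * (κ : ℤ) + i) * ((U ^ (2 * k + k₁ * m))⁻¹ * g ^ (m' * (κ : ℤ))) * (g ^ (ν * m))⁻¹ := by
            simp only [mul_assoc]
        _ = (U ^ (k' * (κ : ℤ) + i) * g ^ (m' * (κ : ℤ))) * ((U ^ (2 * k + k₁ * m))⁻¹ * (g ^ (ν * m))⁻¹) := by
            rw [← e4.eq]; simp only [mul_assoc]
        _ = U ^ (2 * k + k₁ * m) * g ^ (ν * m) * ((U ^ (2 * k + k₁ * m))⁻¹ * (g ^ (ν * m))⁻¹) := by rw [h6]
        _ = U ^ (2 * k + k₁ * m) * (g ^ (ν * m) * (U ^ (2 * k + k₁ * m))⁻¹) * (g ^ (ν * m))⁻¹ := by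
            simp only [mul_assoc]
        _ = 1 := by
            rw [((hUzz (g ^ (ν * m)) (2 * k + k₁ * m)).inv_right).eq]; group
    obtain ⟨e, he⟩ := h3
    exact (hind _ _ _ he).1
  have hR2' : (p : ℤ) ∣ μ * κ - ν := by
    have h1 : (p : ℤ) ∣ m * (μ * κ - ν) := by
      have h2 : m * (μ * κ - ν) = (m' * κ - ν * m) + (m * μ - m') * κ := by ring
      rw [h2]
      exact dvd_add hR2 (hμ.mul_right _)
    rcases hpi.dvd_or_dvd h1 with h6 | h6
    · exact absurd h6 hpm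
    · exact h6
  -- conclusion: `p ∣ 3`
  have hκ'' : (2 : ℤ) * κ = p + 1 := by exact_mod_cast hκ
  have hκ' : (p : ℤ) ∣ 2 * κ - 1 := ⟨1, by linarith⟩
  have h3 : (p : ℤ) ∣ 3 := by
    -- `ν ≡ 2 κ ≡ 1`, `κ ν ≡ 2`
    have h4 : (p : ℤ) ∣ ν - 1 := by
      have : ν - 1 = (2 * κ - 1) + (μ - 2) * κ - (μ * κ - ν) := by ring
      rw [this]
      exact dvd_sub (dvd_add hκ' (hR3.mul_right _)) hR2'
    have h5 : (p : ℤ) ∣ κ - 2 := by
      have : (κ : ℤ) - 2 = (κ * ν - 2) - κ * (ν - 1) := by ring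
      rw [this]
      exact dvd_sub hR1 (h4.mul_left _)
    have : (3 : ℤ) = (2 * κ - 1) - 2 * (κ - 2) := by ring
    rw [this]
    exact dvd_sub hκ' (h5.mul_left _)
  have h4 : p ∣ 3 := by exact_mod_cast h3
  have := Nat.le_of_dvd (by norm_num) h4
  omega

end H89.Rk2A
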