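import Cfsg.Agent.Lib.H89.Rk2E

/-! S5289: rank two, no essential subgroup of order `p ^ 2`. -/

set_option autoImplicit false
set_option linter.unusedSectionVars false
open scoped commutatorElement
open Cfsg Cfsg.FusionSystem H86.FusBasic H86.FusSat H86.FusAlperin H89.Normal H89.Normal2

namespace H89.Rk2A

variable {Ω : Type*} [Group Ω] {S : Subgroup Ω} {F : FusionSystem S} {p : ℕ} {P : Subgroup Ω}

/-- A map of the system on `T` with values in `T` is an automorphism in the system. -/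
theorem exists_aut_of_maps [Finite S] {T : Subgroup Ω} (hTS : T ≤ S) {ψ : T →* Ω} (hψ : ψ ∈ F.Hom T)
    (h : ∀ x, ψ x ∈ T) : ∃ τ ∈ F.autGroup T, ∀ x : T, ((τ x : T) : Ω) = ψ x := by
  have hfT : Finite T := finite_of_le hTS
  have hinj : Function.Injective (ψ.codRestrict T h) := by
    intro x y hxy
    exact injective_of_mem F hψ (congrArg Subtype.val hxy)
  let τ : MulAut T := MulEquiv.ofBijective (ψ.codRestrict T h) (Finite.injective_iff_bijective.1 hinj)
  have hτ : ∀ x : T, ((τ x : T) : Ω) = ψ x := fun x => rfl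
  refine ⟨τ, (mem_autGroup' F hTS).2 ?_, hτ⟩
  have h1 : T.subtype.comp τ.toMonoidHom = ψ := by
    ext x
    rfl
  rw [h1]
  exact hψ

section
variable [Finite S] [hpr : Fact p.Prime] (hS : IsPGroup p S) (hF : F.IsSaturated p)
  {u w : P} {a a₁ h : F.autGroup P}

include hS hF in
theorem Pl.false (hp5 : 5 ≤ p) (hp : Pl F P p u w a a₁ h)
    (hr : ∀ E : Subgroup Ω, E ≤ S → IsElementaryAbelian p E → Nat.card E ≤ p ^ 2)
    (hnotE : ¬ (Nat.card S = p ^ 3 ∧ ∀ x ∈ S, x ^ p = 1)) : False := by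
  have hp2 : p ≠ 2 := by omega
  have hPS := hp.crn.cen.1
  have hfP : Finite P := finite_of_le hPS
  have hfM : Finite (MulAut P) := finite_mulAut P
  obtain ⟨hcT, hΩ⟩ := hp.card_T hS hF hp5 hr
  by_cases hne : normalizerIn S P = S
  · rw [hne] at hcT
    refine hnotE ⟨hcT, fun x hx => ?_⟩
    refine hp.exp_T hS hF hp2 hx ?_
    have : x ∈ normalizerIn S P := by rw [hne]; exact hx
    exact (mem_normalizerIn.1 this).2
  obtain ⟨g, n, td⟩ := hp.exists_TD hS hF hp5 hcT hΩ hne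
  set T := normalizerIn S P with hT
  have hTS : T ≤ S := normalizerIn_le S P
  have hTN : ∀ x ∈ T, x ∈ Subgroup.normalizer (P : Set Ω) := fun x hx => (mem_normalizerIn.1 hx).2
  have hPT : P ≤ T := le_normalizerIn hPS
  have hTexp : ∀ x ∈ T, x ^ p = 1 := fun x hx => hp.exp_T hS hF hp2 (hTS hx) (hTN x hx)
  have hodd : Odd p := hpr.1.odd_of_ne_two hp2
  obtain ⟨κ, hκ⟩ : ∃ κ : ℕ, 2 * κ = p + 1 := by
    obtain ⟨k, hk⟩ := hodd
    exact ⟨k + 1, by omega⟩
  have hκ' : (p : ℤ) ∣ (2 : ℕ) * κ - 1 := by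
    refine ⟨1, ?_⟩
    have : (2 : ℤ) * κ = p + 1 := by exact_mod_cast hκ
    push_cast
    linarith
  obtain ⟨hr1, hr2⟩ := hp.tv.torus hp.ab hp.exp 2 κ hκ'
  set r := a ^ 2 * (h * a₁ * h⁻¹) ^ κ * a ^ 2 * (a * (h * a₁ * h⁻¹) * a)⁻¹ with hrdef
  have hru : (r : MulAut P) u = u ^ 2 := hr1
  have hrw : (r : MulAut P) w = w ^ κ := hr2
  have hwκ : ∀ x : P, x ^ (κ * 2) = x := by
    intro x
    rw [mul_comm, hκ, pow_succ, hp.exp, one_mul]
  have hriu : (r : MulAut P)⁻¹ u = u ^ κ := by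
    apply (r : MulAut P).injective
    rw [MulAut.apply_inv_self, map_pow, hru, ← pow_mul, mul_comm, hwκ]
  have hriw : (r : MulAut P)⁻¹ w = w ^ 2 := by
    apply (r : MulAut P).injective
    rw [MulAut.apply_inv_self, map_pow, hrw, ← pow_mul, hwκ]
  have huw : Commute u w := hp.ab u w
  obtain ⟨ψ₁, hψ₁, hψ₁x⟩ := receptive_extend' (receptive_of_fullyNormalized hS hF hp.crn.fn)
    ((mem_autGroup F hPS).1 r.2) hPT hTS (fun x hx => hTN x hx) (by
      intro x hx
      have h2 : MulAut.congr (r : MulAut P) (conjAut P (hTN x hx)) =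
          (r : MulAut P) * conjAut P (hTN x hx) * (r : MulAut P)⁻¹ := rfl
      have hxu : conjAut P (hTN x hx) u = u := by
        apply Subtype.ext
        show x * (u : Ω) * x⁻¹ = u
        rw [hp.cu (hTS hx) (hTN x hx)]; group
      obtain ⟨i, hi⟩ := hp.conj (hTS hx) (hTN x hx) w
      have hxw : conjAut P (hTN x hx) w = u ^ i * w := Subtype.ext hi
      have h4N : x ^ 4 ∈ Subgroup.normalizer (P : Set Ω) := Subgroup.pow_mem _ (hTN x hx) 4
      have h4 : conjAut P h4N = (conjAut P (hTN x hx)) ^ 4 := by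
        ext y
        have h5 : ((conjAut P (hTN x hx)) ^ 4) y = conjAut P (hTN x hx) (conjAut P (hTN x hx) (conjAut P (hTN x hx)
            (conjAut P (hTN x hx) y))) := rfl
        rw [h5]
        show x ^ 4 * (y : Ω) * (x ^ 4)⁻¹ = x * (x * (x * (x * y * x⁻¹) * x⁻¹) * x⁻¹) * x⁻¹
        have h6 : x ^ 4 = x * x * x * x := by simp only [pow_succ, pow_zero, one_mul]
        rw [h6]
        group
      have h5 : ∀ k : ℕ, ((conjAut P (hTN x hx)) ^ k) w = (u ^ i) ^ k * w := by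
        intro k
        induction k with
        | zero => simp
        | succ k ih => rw [pow_succ', MulAut.mul_apply, ih, map_mul, map_pow, map_zpow, hxu, hxw, pow_succ, mul_assoc]
      have h6 : ∀ k : ℕ, ((conjAut P (hTN x hx)) ^ k) u = u := by
        intro k
        induction k with
        | zero => simp
        | succ k ih => rw [pow_succ', MulAut.mul_apply, ih, hxu]
      have h1 : MulAut.congr (r : MulAut P) (conjAut P (hTN x hx)) = conjAut P h4N := by
        rw [h2, h4]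
        have e1 : ((r : MulAut P) * conjAut P (hTN x hx) * (r : MulAut P)⁻¹) u = u := by
          rw [MulAut.mul_apply, MulAut.mul_apply, hriu, map_pow (conjAut P (hTN x hx)), hxu, map_pow, hru, ← pow_mul,
            mul_comm 2 κ, hwκ]
        have e2 : ((r : MulAut P) * conjAut P (hTN x hx) * (r : MulAut P)⁻¹) w = (u ^ i) ^ 4 * w := by
          have e3 : Commute (u ^ i) w := huw.zpow_left i
          rw [MulAut.mul_apply, MulAut.mul_apply, hriw, map_pow (conjAut P (hTN x hx)), hxw, e3.mul_pow, map_mul,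
            map_pow, map_pow, map_zpow, hru, hrw, ← pow_mul w, hwκ]
          congr 1
          rw [← zpow_natCast u 2, ← zpow_mul, ← zpow_natCast _ 2, ← zpow_mul, ← zpow_natCast _ 4, ← zpow_mul]
          congr 1
          push_cast; ring
        ext y
        obtain ⟨k, l, rfl⟩ := hp.tv.dec y
        rw [map_mul, map_zpow, map_zpow, e1, e2, map_mul, map_zpow, map_zpow, h5, h6]
      rw [h1]
      exact conjAut_mem_autInducedBy _ (S.pow_mem (hTS hx) 4))
  obtain ⟨τ, hτF, hτ⟩ := exists_aut_of_maps hTS hψ₁ (fun x => hΩ _ (apply_mem F hψ₁ x) (by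
    rw [← map_pow]
    have : x ^ p = 1 := Subtype.ext (hTexp x x.2)
    rw [this, map_one]))
  obtain ⟨ψ, hψF, hψ⟩ := td.ext τ hτF
  obtain ⟨k₁, ν, hg⟩ := td.αg τ hτF ⟨g, td.gT⟩ rfl
  have hψT : ∀ (s : S) (hs : (s : Ω) ∈ T), ((ψ s : S) : Ω) = ((τ ⟨s, hs⟩ : T) : Ω) := fun s hs => hψ ⟨s, hs⟩ s rfl
  -- the elements of `S`
  set U : S := ⟨u, hPS u.2⟩ with hU
  set W : S := ⟨w, hPS w.2⟩ with hW
  set g' : S := ⟨g, hTS td.gT⟩ with hg'
  have hmem : ∀ s : S, s ∈ T.subgroupOf S ↔ (s : Ω) ∈ T := fun s => Subgroup.mem_subgroupOf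
  have hzp : ∀ (x : S) (i : ℤ), ((x ^ i : S) : Ω) = (x : Ω) ^ i := fun x i => rfl
  refine final_false hp5 (T.subgroupOf S) U g' W (fun z => Subtype.ext (td.cu z z.2)) ?_ ?_ ?_ ?_ ?_ (n := n) ?_ td.n0
    ?_ ?_ ?_ ?_ ?_ ?_ ?_ ψ hκ ?_ ?_ (k₁ := k₁) (ν := ν) ?_
  · exact Subtype.ext (hTexp u (hPT u.2))
  · intro h1
    have h2 : (u : Ω) = 1 := congrArg Subtype.val h1
    exact hp.tv.u1 (Subtype.ext h2)
  · exact Subtype.ext (hTexp g td.gT)
  · exact Subtype.ext (hTexp w (hPT w.2))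
  · exact (hmem W).2 (hPT w.2)
  · exact Subtype.ext td.wg
  · intro s
    obtain ⟨l, hl⟩ := td.sg s s.2
    exact ⟨l, Subtype.ext hl⟩
  · intro s
    obtain ⟨k, m, h1, h2⟩ := td.sw s s.2
    exact ⟨k, m, Subtype.ext h1, fun h3 => (hmem s).2 (h2 h3)⟩
  · intro t ht
    obtain ⟨i, j, k, hijk⟩ := td.dec t ((hmem t).1 ht)
    exact ⟨i, j, k, Subtype.ext hijk⟩
  · intro i j k hijk
    exact td.ind i j k (congrArg Subtype.val hijk)
  · intro t ht
    exact Subtype.ext (hTexp t ((hmem t).1 ht))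
  · intro s hs
    exact (hmem s).2 (hΩ s s.2 (congrArg Subtype.val hs))
  · intro h1
    apply hne
    apply le_antisymm hTS
    intro s hs
    have : (⟨s, hs⟩ : S) ∈ T.subgroupOf S := by rw [h1]; exact Subgroup.mem_top _
    exact (hmem _).1 this
  · apply Subtype.ext
    rw [hψT U (hPT u.2), hτ]
    have h1 := hψ₁x u
    rw [hru] at h1
    exact h1
  · apply Subtype.ext
    rw [hψT W (hPT w.2), hτ]
    have h1 := hψ₁x w
    rw [hrw] at h1
    exact h1
  · apply Subtype.ext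
    rw [hψT g' td.gT]
    exact hg

end

end H89.Rk2A
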