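import Cfsg.Agent.Lib.H89.Rk2F

/-! S5289: rank two, the case `|Ω₁(P)| = p ^ 2`: contradiction. -/

set_option autoImplicit false
set_option linter.unusedSectionVars false
open scoped commutatorElement
open Cfsg Cfsg.FusionSystem H86.FusBasic H86.FusSat H86.FusAlperin H89.Normal H89.Normal2

namespace H89.Rk2A

variable {Ω : Type*} [Group Ω] {S : Subgroup Ω} {F : FusionSystem S} {p : ℕ} {P : Subgroup Ω}

section
variable [Finite S] [hpr : Fact p.Prime] (hS : IsPGroup p S) (hF : F.IsSaturated p)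

include hS in
theorem mul_pow_sub (hp5 : 5 ≤ p) (hr : ∀ E : Subgroup Ω, E ≤ S → IsElementaryAbelian p E → Nat.card E ≤ p ^ 2)
    {R : Subgroup Ω} (hRS : R ≤ S) (x y : R) (hx : x ^ p = 1) (hy : y ^ p = 1) : (x * y) ^ p = 1 := by
  have hfR : Finite R := finite_of_le hRS
  exact H3.OmegaRankTwo.mul_pow_eq_one (by omega) (Nat.card R) (hS.to_le hRS) (fun E hE => rank_sub hRS hr E hE)
    le_rfl x y hx hy

include hS hF in
theorem caseA_false (hp5 : 5 ≤ p) (hP : CRN F p P)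
    (hr : ∀ E : Subgroup Ω, E ≤ S → IsElementaryAbelian p E → Nat.card E ≤ p ^ 2)
    (hnotE : ¬ (Nat.card S = p ^ 3 ∧ ∀ x ∈ S, x ^ p = 1))
    (hcX : Nat.card (Om p P (fun x y => mul_pow_sub hS hp5 hr hP.cen.1 x y)) = p ^ 2) : False := by
  have hp2 : p ≠ 2 := by omega
  have hPS := hP.cen.1
  have hfP : Finite P := finite_of_le hPS
  have hfM : Finite (MulAut P) := finite_mulAut P
  have hmul : ∀ x y : P, x ^ p = 1 → y ^ p = 1 → (x * y) ^ p = 1 := fun x y => mul_pow_sub hS hp5 hr hP.cen.1 x y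
  have hVp : ∀ x : Om p P hmul, x ^ p = 1 := fun x => Subtype.ext (mem_Om.1 x.2)
  have hVc : ∀ x y : Om p P hmul, x * y = y * x :=
    (IsPGroup.isMulCommutative_of_card_eq_prime_sq hcX).is_comm.comm
  have hQp : IsPGroup p ((autInducedBy S P).subgroupOf (F.autGroup P)) := (isPGroup_autInducedBy hS P).comap_subtype
  obtain ⟨u, w, a, a₁, h, ht⟩ := Rk2Act.exists_tv hcX hVp hVc (rX F hmul) (rX_ker hS hmul hp2 hPS) _ hQp
    (fun N hN hNp => hP.hQn hS N hN hNp)
  obtain ⟨hab, -⟩ := caseA_abelian hS hmul hp2 hP hVc ht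
  have hexp := caseA_exponent hS hmul hp5 hP hVp ht hab
  have hcP : Nat.card P = p ^ 2 := by
    have h1 : Om p P hmul = ⊤ := by
      rw [Subgroup.eq_top_iff']
      exact hexp
    have h2 : Nat.card (Om p P hmul) = Nat.card P := by rw [h1]; exact Subgroup.card_top
    rw [← h2]
    exact hcX
  obtain ⟨u', w', a', a₁', h', ht'⟩ := Rk2Act.exists_tv hcP hexp hab (F.autGroup P).subtype (by
    rw [Subgroup.ker_subtype]
    exact IsPGroup.of_bot) _ hQp (fun N hN hNp => hP.hQn hS N hN hNp)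
  exact Pl.false hS hF hp5 ⟨hP, hcP, hexp, hab, ht'⟩ hr hnotE

end

end H89.Rk2A
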