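import Cfsg.Agent.Lib.H89.Rk2G

/-! S5289: rank two, the case `|Ω₁(P)| = p ^ 3`: the contradiction in a group. -/

set_option autoImplicit false
set_option linter.unusedSectionVars false
open scoped commutatorElement

namespace H89.Rk2A

theorem final_falseB {G : Type*} [Group G] {p : ℕ} [hpr : Fact p.Prime] (hp5 : 5 ≤ p) (P C : Subgroup G) [C.Normal]
    (u w s : G) (hCz : ∀ c ∈ C, ∀ g, g * c = c * g) (hCP : C ≤ P) (huP : u ∈ P) (hup : u ^ p = 1)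
    (hwp : w ^ p = 1) (hs : s ∉ P) (hsu : s * u = u * s)
    (hw : ∀ g, ∃ c ∈ C, ∃ m : ℤ, g * w * g⁻¹ = c * (u ^ m * w) ∧ ((p : ℤ) ∣ m → g ∈ P))
    (huw : ∃ c ∈ C, w * u = c * (u * w)) (hPu : ∀ x ∈ P, x * u = u * x → ∃ i : ℤ, ∃ c ∈ C, x = u ^ i * c)
    (huC : ∀ i : ℤ, u ^ i ∈ C → (p : ℤ) ∣ i) (hΩ : ∀ g, g ^ p = 1 → g ∈ P) (ψ : MulAut G) (hψC : ∀ c ∈ C, ψ c = c)
    (hψu : ∃ c ∈ C, ψ u = c * u ^ 2) {κ : ℕ} (hκ : 2 * κ = p + 1) (hψw : ∃ c ∈ C, ψ w = c * w ^ κ) : False := by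
  have hpi := Nat.prime_iff_prime_int.1 hpr.1
  have hp2 : ¬ (p : ℤ) ∣ 2 := by
    intro h
    have h1 : p ∣ 2 := by exact_mod_cast h
    have := Nat.le_of_dvd (by norm_num) h1
    omega
  have hz1 : ∀ x : G, x ^ p = 1 → ∀ i : ℤ, (p : ℤ) ∣ i → x ^ i = 1 := by
    rintro x hx _ ⟨k, rfl⟩
    rw [zpow_mul, zpow_natCast, hx, one_zpow]
  have hcc : ∀ c ∈ C, ∀ g, Commute g c := fun c hc g => hCz c hc g
  have hsu' : Commute s u := hsu
  let π : G →* G ⧸ C := QuotientGroup.mk' C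
  have hπC : ∀ c ∈ C, π c = 1 := fun c hc => (QuotientGroup.eq_one_iff c).2 hc
  have hπe : ∀ g, π g = 1 → g ∈ C := fun g hg => (QuotientGroup.eq_one_iff g).1 hg
  obtain ⟨c, hc, m, hm, hmP⟩ := hw s
  have hpm : ¬ (p : ℤ) ∣ m := fun h => hs (hmP h)
  set t := ψ s with ht
  have htu : Commute t u := by
    obtain ⟨c', hc', hc'u⟩ := hψu
    have h1 : Commute t (ψ u) := hsu'.map ψ
    rw [hc'u] at h1
    have h2 : Commute t (u ^ 2) := by
      have h3 : u ^ 2 = c'⁻¹ * (c' * u ^ 2) := by group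
      rw [h3]
      exact (hcc c' hc' t).inv_right.mul_right h1
    have h3 : u = (u ^ 2) ^ κ := by rw [← pow_mul, hκ, pow_succ, hup, one_mul]
    rw [h3]
    exact h2.pow_right κ
  obtain ⟨c', hc', m', hm', -⟩ := hw t
  -- in the quotient
  have euw : Commute (π u) (π w) := by
    obtain ⟨c₂, hc₂, h2⟩ := huw
    have h3 := congrArg π h2
    rw [map_mul, map_mul, map_mul, hπC c₂ hc₂, one_mul] at h3
    exact h3.symm
  have esu : Commute (π s) (π u) := hsu'.map π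
  have etu : Commute (π t) (π u) := htu.map π
  have hsw : π s * π w * (π s)⁻¹ = π u ^ m * π w := by
    rw [← map_inv, ← map_mul, ← map_mul, hm, map_mul, hπC c hc, one_mul, map_mul, map_zpow]
  have htw : π t * π w * (π t)⁻¹ = π u ^ m' * π w := by
    rw [← map_inv, ← map_mul, ← map_mul, hm', map_mul, hπC c' hc', one_mul, map_mul, map_zpow]
  have hpow : ∀ j : ℕ, π s ^ j * π w * (π s ^ j)⁻¹ = π u ^ (m * j) * π w := by
    intro j
    induction j with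
    | zero => simp
    | succ j ih =>
      have h1 : π s ^ (j + 1) * π w * (π s ^ (j + 1))⁻¹ = π s * (π s ^ j * π w * (π s ^ j)⁻¹) * (π s)⁻¹ := by
        rw [pow_succ']; group
      rw [h1, ih, ← mul_assoc, (esu.zpow_right (m * j)).eq, mul_assoc, mul_assoc, ← mul_assoc (π s), hsw, ← mul_assoc,
        ← zpow_add]
      congr 2
      push_cast; ring
  have hkey : (p : ℤ) ∣ m' - 4 * m := by
    obtain ⟨c₁, hc₁, h1⟩ := hψu
    obtain ⟨c₂, hc₂, h2⟩ := hψw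
    have h3 := congrArg (fun x => π (ψ x)) hm
    simp only [map_mul, map_inv, map_zpow, hψC c hc, h1, h2, hπC c hc, hπC c₁ hc₁, hπC c₂ hc₂, one_mul, map_pow] at h3
    rw [← ht, ← conj_pow, htw, (euw.zpow_left m').mul_pow, ← zpow_natCast (π u ^ m'), ← zpow_mul,
      ← zpow_natCast (π u) 2, ← zpow_mul] at h3
    have h4 := mul_right_cancel h3
    have h5 : u ^ (m' * κ - (2 : ℕ) * m) ∈ C := by
      apply hπe
      rw [map_zpow, zpow_sub, h4, mul_inv_cancel]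
    have h6 := huC _ h5
    have h7 : m' - 4 * m = 2 * (m' * κ - (2 : ℕ) * m) - m' * p := by
      have : (2 : ℤ) * κ = p + 1 := by exact_mod_cast hκ
      push_cast
      linear_combination (-m') * this
    rw [h7]
    exact dvd_sub (h6.mul_left _) (dvd_mul_left _ _)
  have hmem : ∀ g, π g * π w * (π g)⁻¹ = π w → g ∈ P := by
    intro g hg
    obtain ⟨c₁, hc₁, m₁, h1, h2⟩ := hw g
    apply h2
    apply huC
    apply hπe
    have h3 : π g * π w * (π g)⁻¹ = π u ^ m₁ * π w := by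
      rw [← map_inv, ← map_mul, ← map_mul, h1, map_mul, hπC c₁ hc₁, one_mul, map_mul, map_zpow]
    rw [hg] at h3
    rw [map_zpow]
    exact mul_eq_right.1 h3.symm
  have hπup : ∀ i : ℤ, (p : ℤ) ∣ i → π u ^ i = 1 := by
    intro i hi
    rw [← map_zpow, hz1 u hup i hi, map_one]
  -- `s ^ p ∈ P`
  have hspP : s ^ p ∈ P := by
    apply hmem
    rw [map_pow, hpow, hπup _ (dvd_mul_left _ _), one_mul]
  -- `d = t s ^ (-4) ∈ P`
  set d := (s ^ 4)⁻¹ * t with hd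
  have hdP : d ∈ P := by
    apply hmem
    have h1 : π d * π w * (π d)⁻¹ = (π s ^ 4)⁻¹ * (π t * π w * (π t)⁻¹) * (π s ^ 4) := by
      rw [hd, map_mul, map_inv, map_pow]; group
    rw [h1, htw]
    have h2 := hpow 4
    have h3 : π u ^ m' = π u ^ (m * (4 : ℕ)) := by
      have h4 : m' = m * (4 : ℕ) + (m' - 4 * m) := by push_cast; ring
      rw [h4, zpow_add, hπup _ hkey, mul_one]
    rw [h3, ← h2]
    group
  have hdu : Commute d u := ((hsu'.pow_left 4).inv_left).mul_left htu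
  obtain ⟨i₀, c₀, hc₀, hd'⟩ := hPu d hdP hdu
  obtain ⟨a, c₁, hc₁, hsp⟩ := hPu _ hspP (hsu'.pow_left p)
  have hsd : Commute s d := by
    rw [hd']
    exact (hsu'.zpow_right i₀).mul_right (hcc c₀ hc₀ s)
  have hts : t = s ^ 4 * d := by rw [hd]; group
  have hdp : d ^ p = c₀ ^ p := by
    rw [hd', ((hcc c₀ hc₀ (u ^ i₀))).mul_pow, ← zpow_natCast (u ^ i₀), ← zpow_mul, hz1 u hup _ (dvd_mul_left _ _), one_mul]
  have hpa : (p : ℤ) ∣ a := by
    have h1 : ψ (s ^ p) = (s ^ p) ^ 4 * c₀ ^ p := by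
      rw [map_pow, ← ht, hts, (hsd.pow_left 4).mul_pow, hdp, ← pow_mul, ← pow_mul, mul_comm 4 p]
    have h2 := congrArg π h1
    obtain ⟨c₂, hc₂, h3⟩ := hψu
    rw [hsp, map_mul, map_mul, map_zpow, h3, hψC c₁ hc₁, map_zpow, map_mul, map_mul, hπC _ (C.pow_mem hc₀ p), hπC _ hc₁,
      hπC _ hc₂, one_mul, mul_one, mul_one, map_pow, map_pow, map_mul, hπC _ hc₁, mul_one, map_zpow] at h2
    have h4 : u ^ (2 * a) ∈ C := by
      apply hπe
      rw [← zpow_natCast, ← zpow_mul, ← zpow_natCast, ← zpow_mul] at h2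
      have h5 : (2 : ℤ) * a = a * (4 : ℕ) - (2 : ℕ) * a := by push_cast; ring
      rw [h5, map_zpow, zpow_sub, h2, mul_inv_cancel]
    rcases hpi.dvd_or_dvd (huC _ h4) with h5 | h5
    · exact absurd h5 hp2
    · exact h5
  have hsp' : s ^ p = c₁ := by rw [hsp, hz1 u hup a hpa, one_mul]
  have hrel : c₁ = c₁ ^ 4 * c₀ ^ p := by
    have h1 : ψ (s ^ p) = (s ^ p) ^ 4 * c₀ ^ p := by
      rw [map_pow, ← ht, hts, (hsd.pow_left 4).mul_pow, hdp, ← pow_mul, ← pow_mul, mul_comm 4 p]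
    rw [hsp', hψC c₁ hc₁] at h1
    exact h1
  have hrel' : c₁ ^ 3 * c₀ ^ p = 1 := by
    have h1 : c₁ * (c₁ ^ 3 * c₀ ^ p) = c₁ := by
      rw [← mul_assoc, ← pow_succ']
      exact hrel.symm
    exact mul_eq_left.1 h1
  -- the element `y`
  have hψd : ψ d ∈ P ∧ Commute s (ψ d) ∧ Commute (ψ d) d ∧ (ψ d) ^ p = c₀ ^ p := by
    obtain ⟨c₂, hc₂, h3⟩ := hψu
    have h4 : ψ d = (c₂ * u ^ 2) ^ i₀ * c₀ := by rw [hd', map_mul, map_zpow, h3, hψC c₀ hc₀]
    have h5 : ∀ g : G, Commute g u → Commute g (ψ d) := by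
      intro g hg
      rw [h4]
      exact (((hcc c₂ hc₂ g).mul_right (hg.pow_right 2)).zpow_right i₀).mul_right (hcc c₀ hc₀ g)
    refine ⟨?_, h5 s hsu', (h5 d hdu).symm, ?_⟩
    · rw [h4]
      exact P.mul_mem (P.zpow_mem (P.mul_mem (hCP hc₂) (P.pow_mem huP 2)) _) (hCP hc₀)
    · rw [← map_pow, hdp, hψC _ (C.pow_mem hc₀ p)]
  obtain ⟨h1, h2, h3, h4⟩ := hψd
  have hy : (s ^ 6 * (ψ d * d)) ^ p = 1 := by
    have e1 : Commute (s ^ 6) (ψ d * d) := (h2.mul_right hsd).pow_left 6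
    have e2 : Commute c₁ (c₀ ^ p) := hcc _ (C.pow_mem hc₀ p) c₁
    rw [e1.mul_pow, h3.mul_pow, h4, hdp, ← pow_mul, mul_comm 6 p, pow_mul, hsp']
    calc c₁ ^ 6 * (c₀ ^ p * c₀ ^ p) = c₁ ^ 3 * (c₁ ^ 3 * c₀ ^ p) * c₀ ^ p := by
          rw [← mul_assoc, ← mul_assoc, ← pow_add]
      _ = 1 := by rw [hrel', mul_one, hrel']
  have hyP := hΩ _ hy
  have hs6 : s ^ 6 ∈ P := by
    have h5 : s ^ 6 = s ^ 6 * (ψ d * d) * (ψ d * d)⁻¹ := by group
    rw [h5]
    exact P.mul_mem hyP (P.inv_mem (P.mul_mem h1 hdP))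
  apply hs
  have hcop : Nat.Coprime 6 p := by
    have h6 : Nat.Coprime p 6 := by
      rw [hpr.1.coprime_iff_not_dvd]
      intro h
      have h7 : p ∣ 2 * 3 := h
      rcases (hpr.1.dvd_mul).1 h7 with h8 | h8
      · have := Nat.le_of_dvd (by norm_num) h8; omega
      · have := Nat.le_of_dvd (by norm_num) h8; omega
    exact h6.symm
  have h5 := Nat.gcd_eq_gcd_ab 6 p
  rw [hcop] at h5
  have h6 : s = (s ^ 6) ^ (Nat.gcdA 6 p) * (s ^ p) ^ (Nat.gcdB 6 p) := by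
    rw [← zpow_natCast s 6, ← zpow_natCast s p, ← zpow_mul, ← zpow_mul, ← zpow_add, ← h5]
    simp
  rw [h6]
  exact P.mul_mem (P.zpow_mem hs6 _) (P.zpow_mem hspP _)

end H89.Rk2A
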