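import Cfsg.Agent.Lib.H89.Rk2H

/-! S5289: rank two, the case `|Ω₁(P)| = p ^ 3`: setup. -/

set_option autoImplicit false
set_option linter.unusedSectionVars false
open scoped commutatorElement
open Cfsg Cfsg.FusionSystem H86.FusBasic H86.FusSat H86.FusAlperin H89.Normal H89.Normal2

namespace H89.Rk2A

theorem cen_inv {X : Type*} [Group X] (α : MulAut X) (x : X) (hx : x ∈ Subgroup.center X) : α x ∈ Subgroup.center X := by
  rw [Subgroup.mem_center_iff] at hx ⊢
  intro y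
  obtain ⟨y, rfl⟩ := α.surjective y
  rw [← map_mul, ← map_mul, hx]

/-- In an extraspecial group of order `p ^ 3`, an automorphism of order prime to `p` trivial modulo the centre is trivial. -/
theorem trivial_of_mod_center {X : Type*} [Group X] [Finite X] {p : ℕ} [hpr : Fact p.Prime]
    (hcX : Nat.card X = p ^ 3) (hnc : ¬ IsMulCommutative X) {β : MulAut X} (hβ : (orderOf β).Coprime p)
    (h : ∀ x : X, x⁻¹ * β x ∈ Subgroup.center X) : β = 1 := by
  have hX : IsPGroup p X := IsPGroup.of_card hcX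
  have hcY : Nat.card (Subgroup.center X) = p := H28.PCube.card_center hcX hnc
  have hcV : Nat.card (X ⧸ Subgroup.center X) = p ^ 2 := by
    have h1 := Subgroup.card_eq_card_quotient_mul_card_subgroup (Subgroup.center X)
    rw [hcX, hcY] at h1
    have h2 : p ^ 3 = p ^ 2 * p := by ring
    rw [h2] at h1
    exact (Nat.eq_of_mul_eq_mul_right hpr.1.pos h1).symm
  have hVc : ∀ x y : X ⧸ Subgroup.center X, x * y = y * x :=
    (IsPGroup.isMulCommutative_of_card_eq_prime_sq hcV).is_comm.comm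
  obtain ⟨x, y, hxy⟩ : ∃ x y : X, x * y ≠ y * x := by
    by_contra hcon
    push Not at hcon
    exact hnc ⟨⟨hcon⟩⟩
  have h1 : ⁅x, y⁆ ∈ Subgroup.center X := by
    rw [← QuotientGroup.eq_one_iff]
    show ((x * y * x⁻¹ * y⁻¹ : X) : X ⧸ Subgroup.center X) = 1
    rw [QuotientGroup.mk_mul, QuotientGroup.mk_mul, QuotientGroup.mk_mul, QuotientGroup.mk_inv, QuotientGroup.mk_inv,
      hVc (x : X ⧸ Subgroup.center X) y]
    group
  have h2 : ⁅x, y⁆ ≠ 1 := fun h => hxy (commutatorElement_eq_one_iff_mul_comm.1 h)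
  have h3 : β ⁅x, y⁆ = ⁅x, y⁆ := by
    rw [map_commutatorElement]
    obtain ⟨a, ha, hax⟩ : ∃ a ∈ Subgroup.center X, β x = x * a := ⟨_, h x, by group⟩
    obtain ⟨b, hb, hby⟩ : ∃ b ∈ Subgroup.center X, β y = y * b := ⟨_, h y, by group⟩
    rw [Subgroup.mem_center_iff] at ha hb
    rw [hax, hby, commutatorElement_def, commutatorElement_def]
    calc x * a * (y * b) * (x * a)⁻¹ * (y * b)⁻¹ = x * a * y * b * a⁻¹ * x⁻¹ * b⁻¹ * y⁻¹ := by group
      _ = x * (a * y) * (b * a⁻¹) * x⁻¹ * b⁻¹ * y⁻¹ := by group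
      _ = x * (y * a) * (a⁻¹ * b) * x⁻¹ * b⁻¹ * y⁻¹ := by rw [ha y, hb a⁻¹]
      _ = x * y * (b * x⁻¹) * b⁻¹ * y⁻¹ := by group
      _ = x * y * (x⁻¹ * b) * b⁻¹ * y⁻¹ := by rw [hb x⁻¹]
      _ = x * y * x⁻¹ * y⁻¹ := by group
  have h4 : Subgroup.zpowers (⟨⁅x, y⁆, h1⟩ : Subgroup.center X) = ⊤ := by
    apply zpowers_eq_top_of_prime_card (p := p) hcY
    intro h
    exact h2 (congrArg Subtype.val h)
  have h5 : ∀ c ∈ Subgroup.center X, β c = c := by
    intro c hc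
    have h6 : (⟨c, hc⟩ : Subgroup.center X) ∈ Subgroup.zpowers (⟨⁅x, y⁆, h1⟩ : Subgroup.center X) := by
      rw [h4]; exact Subgroup.mem_top _
    obtain ⟨i, hi⟩ := h6
    have hi : ⁅x, y⁆ ^ i = c := congrArg Subtype.val hi
    rw [← hi, map_zpow, h3]
  ext g
  rw [coprime_fix hX hβ (h5 _ (h g))]
  rfl

/-- The subgroup of the transvections with centre `u`. -/
def Un {V : Type*} [Group V] (u : V) : Subgroup (MulAut V) where
  carrier := {α | α u = u ∧ ∀ x, ∃ i : ℤ, α x = u ^ i * x}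
  mul_mem' := by
    rintro α β ⟨h1, h2⟩ ⟨h3, h4⟩
    refine ⟨by rw [MulAut.mul_apply, h3, h1], fun x => ?_⟩
    obtain ⟨i, hi⟩ := h4 x
    obtain ⟨j, hj⟩ := h2 x
    refine ⟨i + j, ?_⟩
    rw [MulAut.mul_apply, hi, map_mul, map_zpow, h1, hj, zpow_add, mul_assoc]
  one_mem' := ⟨by simp, fun x => ⟨0, by simp⟩⟩
  inv_mem' := by
    rintro α ⟨h1, h2⟩
    have h3 : α⁻¹ u = u := by
      apply α.injective
      rw [MulAut.apply_inv_self, h1]
    refine ⟨h3, fun x => ?_⟩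
    obtain ⟨i, hi⟩ := h2 (α⁻¹ x)
    rw [MulAut.apply_inv_self] at hi
    refine ⟨-i, ?_⟩
    have h5 : u ^ (-i) * x = u ^ (-i) * (u ^ i * α⁻¹ x) := congrArg _ hi
    rw [h5, ← mul_assoc, ← zpow_add, neg_add_cancel, zpow_zero, one_mul]

theorem mem_Un {V : Type*} [Group V] {u : V} {α : MulAut V} : α ∈ Un u ↔ α u = u ∧ ∀ x, ∃ i : ℤ, α x = u ^ i * x :=
  Iff.rfl

theorem Un_isPGroup {V : Type*} [Group V] {p : ℕ} (hVp : ∀ x : V, x ^ p = 1) (u : V) : IsPGroup p (Un u) := by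
  rintro ⟨α, h1, h2⟩
  refine ⟨1, Subtype.ext ?_⟩
  show α ^ p ^ 1 = 1
  rw [pow_one]
  ext x
  obtain ⟨i, hi⟩ := h2 x
  have h4 : ∀ n : ℕ, (α ^ n) x = (u ^ i) ^ n * x := by
    intro n
    induction n with
    | zero => simp
    | succ n ih =>
      rw [pow_succ', MulAut.mul_apply, ih, map_mul, map_pow, map_zpow, h1, hi, pow_succ, mul_assoc]
  rw [h4, hVp, one_mul]
  rfl

variable {Ω : Type*} [Group Ω] {S : Subgroup Ω} {F : FusionSystem S} {p : ℕ} {P : Subgroup Ω}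

section
variable [Finite S] [hpr : Fact p.Prime] (hS : IsPGroup p S) (hF : F.IsSaturated p)
  (hmul : ∀ x y : P, x ^ p = 1 → y ^ p = 1 → (x * y) ^ p = 1)

/-- The action of `Aut_F(P)` on `Ω₁(P) / Z(Ω₁(P))`. -/
def rV (F : FusionSystem S) (hmul : ∀ x y : P, x ^ p = 1 → y ^ p = 1 → (x * y) ^ p = 1) :
    F.autGroup P →* MulAut (Om p P hmul ⧸ Subgroup.center (Om p P hmul)) :=
  (quo (Subgroup.center (Om p P hmul)) cen_inv).comp (rX F hmul)

theorem rV_apply (α : F.autGroup P) (x : Om p P hmul) :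
    rV F hmul α (x : Om p P hmul ⧸ Subgroup.center (Om p P hmul)) = ((rX F hmul α x : Om p P hmul) : _ ⧸ _) := rfl

include hS in
theorem rV_ker (hp2 : p ≠ 2) (hPS : P ≤ S) (hcX : Nat.card (Om p P hmul) = p ^ 3)
    (hnc : ¬ IsMulCommutative (Om p P hmul)) : IsPGroup p (rV F hmul).ker := by
  have hfP : Finite P := finite_of_le hPS
  have hfM : Finite (MulAut P) := finite_mulAut P
  apply isPGroup_of_coprime
  rintro ⟨α, hk⟩ hc
  have hc' : (orderOf α).Coprime p := by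
    rw [← Subgroup.orderOf_coe] at hc
    exact hc
  have hβc : (orderOf (rX F hmul α)).Coprime p := Nat.Coprime.coprime_dvd_left (orderOf_map_dvd _ _) hc'
  have h1 : rX F hmul α = 1 := by
    refine trivial_of_mod_center hcX hnc hβc fun x => ?_
    rw [← QuotientGroup.eq]
    rw [MonoidHom.mem_ker] at hk
    rw [← rV_apply, hk]
    rfl
  have h2 : α ∈ (rX F hmul).ker := h1
  obtain ⟨k, hk'⟩ := rX_ker hS hmul hp2 hPS ⟨α, h2⟩
  have h3 : α ^ p ^ k = 1 := congrArg Subtype.val hk'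
  apply Subtype.ext
  show α = 1
  have h4 : orderOf α ∣ p ^ k := orderOf_dvd_of_pow_eq_one h3
  have h5 : orderOf α = 1 := Nat.eq_one_of_dvd_coprimes (hc'.symm.pow_left k).symm (dvd_refl _) h4
  exact orderOf_eq_one_iff.1 h5

/-- The situation of case B. -/
structure Bd (F : FusionSystem S) (p : ℕ) (P : Subgroup Ω) (hmul : ∀ x y : P, x ^ p = 1 → y ^ p = 1 → (x * y) ^ p = 1)
    (u w : Om p P hmul) (a a₁ h : F.autGroup P) : Prop where
  crn : CRN F p P
  card : Nat.card (Om p P hmul) = p ^ 3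
  nc : ¬ IsMulCommutative (Om p P hmul)
  ker : IsPGroup p (rV F hmul).ker
  tv : Rk2Act.Tv (rV F hmul) ((autInducedBy S P).subgroupOf (F.autGroup P)) p
    (u : Om p P hmul ⧸ Subgroup.center (Om p P hmul)) (w : Om p P hmul ⧸ Subgroup.center (Om p P hmul)) a a₁ h
  om : ∀ x ∈ S, x ^ p = 1 → x ∈ P

variable {hmul} {u w : Om p P hmul} {a a₁ h : F.autGroup P}

theorem Bd.card_center (B : Bd F p P hmul u w a a₁ h) : Nat.card (Subgroup.center (Om p P hmul)) = p := by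
  have hfP : Finite P := finite_of_le B.crn.cen.1
  exact H28.PCube.card_center B.card B.nc

theorem Bd.card_quo (B : Bd F p P hmul u w a a₁ h) :
    Nat.card (Om p P hmul ⧸ Subgroup.center (Om p P hmul)) = p ^ 2 := by
  have h1 := Subgroup.card_eq_card_quotient_mul_card_subgroup (Subgroup.center (Om p P hmul))
  rw [B.card, B.card_center] at h1
  have h2 : p ^ 3 = p ^ 2 * p := by ring
  rw [h2] at h1
  exact (Nat.eq_of_mul_eq_mul_right hpr.1.pos h1).symm

theorem Bd.quo_comm (B : Bd F p P hmul u w a a₁ h) (x y : Om p P hmul ⧸ Subgroup.center (Om p P hmul)) :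
    x * y = y * x := (IsPGroup.isMulCommutative_of_card_eq_prime_sq B.card_quo).is_comm.comm x y

theorem exp_quo (x : Om p P hmul ⧸ Subgroup.center (Om p P hmul)) : x ^ p = 1 := by
  obtain ⟨x, rfl⟩ := QuotientGroup.mk_surjective x
  rw [← QuotientGroup.mk_pow]
  have : x ^ p = 1 := Subtype.ext (mem_Om.1 x.2)
  rw [this]; rfl

/-- The commutator of `w` and `u`. -/
theorem Bd.z_mem (B : Bd F p P hmul u w a a₁ h) : ⁅w, u⁆ ∈ Subgroup.center (Om p P hmul) := by
  rw [← QuotientGroup.eq_one_iff]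
  show ((w * u * w⁻¹ * u⁻¹ : Om p P hmul) : Om p P hmul ⧸ Subgroup.center (Om p P hmul)) = 1
  rw [QuotientGroup.mk_mul, QuotientGroup.mk_mul, QuotientGroup.mk_mul, QuotientGroup.mk_inv, QuotientGroup.mk_inv,
    B.quo_comm (w : _ ⧸ Subgroup.center (Om p P hmul)) u]
  group

/-- Every element of `Ω₁(P)`. -/
theorem Bd.decX (B : Bd F p P hmul u w a a₁ h) (x : Om p P hmul) :
    ∃ i j : ℤ, ∃ y ∈ Subgroup.center (Om p P hmul), x = u ^ i * w ^ j * y := by
  obtain ⟨i, j, hij⟩ := B.tv.dec (x : _ ⧸ Subgroup.center (Om p P hmul))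
  rw [← QuotientGroup.mk_zpow, ← QuotientGroup.mk_zpow, ← QuotientGroup.mk_mul] at hij
  refine ⟨i, j, (u ^ i * w ^ j)⁻¹ * x, QuotientGroup.eq.1 hij.symm, by group⟩

theorem Bd.z_ne (B : Bd F p P hmul u w a a₁ h) : ⁅w, u⁆ ≠ 1 := by
  intro h1
  apply B.nc
  have h2 : Commute u w := (commutatorElement_eq_one_iff_mul_comm.1 h1).symm
  constructor
  constructor
  intro x y
  obtain ⟨i, j, c, hc, rfl⟩ := B.decX x
  obtain ⟨i', j', c', hc', rfl⟩ := B.decX y
  rw [Subgroup.mem_center_iff] at hc hc'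
  have e1 : ∀ g, Commute g c := hc
  have e2 : ∀ g, Commute g c' := hc'
  have e3 : Commute (u ^ i * w ^ j) (u ^ i' * w ^ j') :=
    Commute.mul_left (((Commute.refl u).zpow_zpow i i').mul_right (h2.zpow_zpow i j'))
      ((h2.symm.zpow_zpow j i').mul_right ((Commute.refl w).zpow_zpow j j'))
  exact Commute.mul_left (e3.mul_right (e2 _)) ((e1 _).symm.mul_right (e1 c').symm)

theorem Bd.zgen (B : Bd F p P hmul u w a a₁ h) {y : Om p P hmul} (hy : y ∈ Subgroup.center (Om p P hmul)) :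
    ∃ i : ℤ, y = ⁅w, u⁆ ^ i := by
  have h4 : Subgroup.zpowers (⟨⁅w, u⁆, B.z_mem⟩ : Subgroup.center (Om p P hmul)) = ⊤ := by
    apply zpowers_eq_top_of_prime_card (p := p) B.card_center
    intro h
    exact B.z_ne (congrArg Subtype.val h)
  have h6 : (⟨y, hy⟩ : Subgroup.center (Om p P hmul)) ∈
      Subgroup.zpowers (⟨⁅w, u⁆, B.z_mem⟩ : Subgroup.center (Om p P hmul)) := by
    rw [h4]; exact Subgroup.mem_top _
  obtain ⟨i, hi⟩ := h6
  exact ⟨i, (congrArg Subtype.val hi).symm⟩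

theorem Bd.z_pow (B : Bd F p P hmul u w a a₁ h) : ⁅w, u⁆ ^ p = 1 := Subtype.ext (mem_Om.1 (⁅w, u⁆).2)

end

end H89.Rk2A
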