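import Cfsg.Agent.Lib.H89.Rk2I

/-! S5289: rank two, the case `|Ω₁(P)| = p ^ 3`: the structure of `P` and `S`. -/

set_option autoImplicit false
set_option linter.unusedSectionVars false
open scoped commutatorElement
open Cfsg Cfsg.FusionSystem H86.FusBasic H86.FusSat H86.FusAlperin H89.Normal H89.Normal2

namespace H89.Rk2A

variable {Ω : Type*} [Group Ω] {S : Subgroup Ω} {F : FusionSystem S} {p : ℕ} {P : Subgroup Ω}

/-- Conjugation by an element of `N_S(P)`. -/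
def cj (F : FusionSystem S) (hPS : P ≤ S) {s : Ω} (hs : s ∈ S) (hsN : s ∈ Subgroup.normalizer (P : Set Ω)) :
    F.autGroup P := ⟨conjAut P hsN, autInducedBy_le_autGroup F hPS (conjAut_mem_autInducedBy _ hs)⟩

theorem cj_apply (hPS : P ≤ S) {s : Ω} (hs : s ∈ S) (hsN : s ∈ Subgroup.normalizer (P : Set Ω)) (x : P) :
    (((cj F hPS hs hsN : MulAut P) x : P) : Ω) = s * x * s⁻¹ := rfl

theorem cj_mem (hPS : P ≤ S) {s : Ω} (hs : s ∈ S) (hsN : s ∈ Subgroup.normalizer (P : Set Ω)) :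
    cj F hPS hs hsN ∈ (autInducedBy S P).subgroupOf (F.autGroup P) := conjAut_mem_autInducedBy _ hs

section
variable [Finite S] [hpr : Fact p.Prime] (hS : IsPGroup p S) (hF : F.IsSaturated p)
  {hmul : ∀ x y : P, x ^ p = 1 → y ^ p = 1 → (x * y) ^ p = 1} {u w : Om p P hmul} {a a₁ h : F.autGroup P}

theorem Bd.mod (B : Bd F p P hmul u w a a₁ h) {α : F.autGroup P} {x y : Om p P hmul}
    (hxy : rV F hmul α (x : Om p P hmul ⧸ Subgroup.center (Om p P hmul)) =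
      (y : Om p P hmul ⧸ Subgroup.center (Om p P hmul))) :
    ∃ i : ℤ, (α : MulAut P) x = ((⁅w, u⁆ : Om p P hmul) : P) ^ i * y := by
  rw [rV_apply] at hxy
  have h1 := QuotientGroup.eq.1 hxy.symm
  obtain ⟨i, hi⟩ := B.zgen h1
  refine ⟨i, ?_⟩
  have h2 : rX F hmul α x = ⁅w, u⁆ ^ i * y := by
    have h3 : ⁅w, u⁆ ^ i * y = y * ⁅w, u⁆ ^ i :=
      ((Subgroup.mem_center_iff.1 (Subgroup.zpow_mem _ B.z_mem i)) y).symm
    rw [h3, ← hi]; group
  exact congrArg Subtype.val h2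

include hS in
theorem inn_isPGroup (hPS : P ≤ S) : IsPGroup p ((Inn P).subgroupOf (F.autGroup P)) := by
  have hInn : IsPGroup p (Inn P) := by
    have : IsPGroup p P := hS.to_le hPS
    exact this.of_surjective (MulAut.conj.rangeRestrict) (MonoidHom.rangeRestrict_surjective _)
  exact hInn.of_injective (Subgroup.subgroupOfEquivOfLe (inn_le_autGroup F hPS)).toMonoidHom
      (Subgroup.subgroupOfEquivOfLe (inn_le_autGroup F hPS)).injective

include hS in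
theorem Bd.inner (B : Bd F p P hmul u w a a₁ h) (g : P) (x : Om p P hmul) :
    ∃ i : ℤ, g * (x : P) * g⁻¹ = ((⁅w, u⁆ : Om p P hmul) : P) ^ i * x := by
  have hPS := B.crn.cen.1
  set c := cj F hPS (hPS g.2) (Subgroup.le_normalizer g.2) with hc
  have h1 : c ∈ (Inn P).subgroupOf (F.autGroup P) := by
    rw [Subgroup.mem_subgroupOf]
    refine ⟨g, ?_⟩
    ext y
    rfl
  have h2 : rV F hmul c = 1 :=
    B.tv.opN ((Inn P).subgroupOf (F.autGroup P)) inferInstance (inn_isPGroup hS hPS) c h1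
  exact B.mod (α := c) (x := x) (y := x) (by rw [h2]; rfl)

theorem Bd.wu (B : Bd F p P hmul u w a a₁ h) (i j : ℤ) :
    w ^ i * u ^ j * (w ^ i)⁻¹ = ⁅w, u⁆ ^ (1 * i * j) * u ^ j := by
  refine comm_zz (U := ⁅w, u⁆) (fun z => (Subgroup.mem_center_iff.1 B.z_mem z)) (n := 1) ?_ i j
  rw [commutatorElement_def]; group

include hS in
/-- `P = Ω₁(P) C_P(Ω₁(P))`. -/
theorem Bd.dec (B : Bd F p P hmul u w a a₁ h) (g : P) :
    ∃ i j : ℤ, ∃ c : P, (∀ x : Om p P hmul, c * (x : P) = x * c) ∧ g = (w : P) ^ i * (u : P) ^ j * c ∧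
      (g * (u : P) = u * g → (p : ℤ) ∣ i) := by
  obtain ⟨i, hi⟩ := B.inner hS g u
  obtain ⟨j, hj⟩ := B.inner hS g w
  have hZc : ∀ x : Om p P hmul, Commute (x : P) ((⁅w, u⁆ : Om p P hmul) : P) := by
    intro x
    exact congrArg Subtype.val (Subgroup.mem_center_iff.1 B.z_mem x)
  have hwu : ∀ i j : ℤ, (w : P) ^ i * (u : P) ^ j * ((w : P) ^ i)⁻¹ =
      ((⁅w, u⁆ : Om p P hmul) : P) ^ (1 * i * j) * (u : P) ^ j := fun i j => congrArg Subtype.val (B.wu i j)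
  set Z := ((⁅w, u⁆ : Om p P hmul) : P) with hZ
  have hZwu : Z = (w : P) * u * (w : P)⁻¹ * (u : P)⁻¹ := rfl
  set x₀ := (w : P) ^ i * (u : P) ^ (-j) with hx₀
  have hx₀Z : Commute x₀ Z := ((hZc w).zpow_left i).mul_left ((hZc u).zpow_left (-j))
  have e1 : x₀ * u * x₀⁻¹ = Z ^ i * u := by
    have h1 := hwu i 1
    rw [zpow_one, one_mul, mul_one] at h1
    rw [← h1, hx₀]; group
  have e2 : x₀ * w * x₀⁻¹ = Z ^ j * w := by
    have h1 := hwu 1 (-j)
    rw [zpow_one, one_mul, one_mul] at h1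
    have h2 : (u : P) ^ (-j) * w = Z ^ j * w * (u : P) ^ (-j) := by
      have h3 : Z ^ j * ((w : P) * (u : P) ^ (-j) * (w : P)⁻¹) = (u : P) ^ (-j) := by
        rw [h1, ← mul_assoc, ← zpow_add, add_neg_cancel, zpow_zero, one_mul]
      calc (u : P) ^ (-j) * w = Z ^ j * ((w : P) * (u : P) ^ (-j) * (w : P)⁻¹) * w := by rw [h3]
        _ = _ := by group
    calc x₀ * w * x₀⁻¹ = (w : P) ^ i * ((u : P) ^ (-j) * w) * ((u : P) ^ (-j))⁻¹ * ((w : P) ^ i)⁻¹ := by rw [hx₀]; group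
      _ = (w : P) ^ i * Z ^ j * w * ((w : P) ^ i)⁻¹ := by rw [h2]; group
      _ = Z ^ j * w := by rw [(((hZc w).zpow_left i).zpow_right j).eq]; group
  have key : ∀ {y : P} {k : ℤ}, x₀ * y * x₀⁻¹ = Z ^ k * y → g * y * g⁻¹ = Z ^ k * y → Commute (x₀⁻¹ * g) y := by
    intro y k h1 h2
    have h3 : g * y * g⁻¹ = x₀ * y * x₀⁻¹ := h2.trans h1.symm
    show x₀⁻¹ * g * y = y * (x₀⁻¹ * g)
    calc x₀⁻¹ * g * y = x₀⁻¹ * (g * y * g⁻¹) * g := by group
      _ = x₀⁻¹ * (x₀ * y * x₀⁻¹) * g := by rw [h3]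
      _ = _ := by group
  have k1 := key e1 hi
  have k2 := key e2 hj
  refine ⟨i, -j, x₀⁻¹ * g, ?_, ?_, ?_⟩
  · intro x
    have k3 : Commute (x₀⁻¹ * g) Z := by
      rw [hZwu]
      exact ((k2.mul_right k1).mul_right k2.inv_right).mul_right k1.inv_right
    obtain ⟨i', j', y, hy, rfl⟩ := B.decX x
    obtain ⟨l, rfl⟩ := B.zgen hy
    exact ((k1.zpow_right i').mul_right (k2.zpow_right j')).mul_right (k3.zpow_right l)
  · rw [← hx₀]; group
  · intro hgu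
    have h1 : Z ^ i = 1 := by
      have h2 : g * (u : P) * g⁻¹ = u := by rw [hgu]; group
      rw [h2] at hi
      exact mul_eq_right.1 hi.symm
    have h2 : ⁅w, u⁆ ^ i = 1 := Subtype.ext h1
    exact Rk2Act.dvd_of_zpow B.z_pow B.z_ne h2

/-- The centralizer of `Ω₁(P)` in `S`. -/
theorem mem_K {k : Ω} : k ∈ centralizerIn S ((Om p P hmul).map P.subtype) ↔
    k ∈ S ∧ ∀ x : Om p P hmul, k * ((x : P) : Ω) = ((x : P) : Ω) * k := by
  rw [mem_centralizerIn]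
  constructor
  · rintro ⟨h1, h2⟩
    refine ⟨h1, fun x => ?_⟩
    have := h2 ((x : P) : Ω) ⟨x, x.2, rfl⟩
    first | exact this | exact this.symm
  · rintro ⟨h1, h2⟩
    refine ⟨h1, ?_⟩
    rintro _ ⟨x, hx, rfl⟩
    have := h2 ⟨x, hx⟩
    first | exact this | exact this.symm

include hS in
theorem Bd.cent_le (hp2 : p ≠ 2) (B : Bd F p P hmul u w a a₁ h) {k : Ω} (hk : k ∈ S)
    (hc : ∀ x : Om p P hmul, k * ((x : P) : Ω) = ((x : P) : Ω) * k) : k ∈ P := by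
  have hPS := B.crn.cen.1
  set K := centralizerIn S ((Om p P hmul).map P.subtype) with hK
  have hKS : K ≤ S := fun x hx => (mem_K.1 hx).1
  by_contra hkP
  have hlt : K ⊓ P < K := by
    refine lt_of_le_of_ne inf_le_left fun h1 => hkP ?_
    have h2 : k ∈ K := mem_K.2 ⟨hk, hc⟩
    rw [← h1] at h2
    exact h2.2
  have hfK : Finite K := finite_of_le hKS
  obtain ⟨k', ⟨hk'K, hk'N⟩, hk'⟩ := SetLike.exists_of_lt (H86.FusCentric.lt_inf_normalizer (hS.to_le hKS) hlt)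
  have hk'P : k' ∉ P := fun h1 => hk' ⟨hk'K, h1⟩
  have hfP : Finite P := finite_of_le hPS
  have hkN : k' ∈ Subgroup.normalizer (P : Set Ω) := by
    refine Subgroup.mem_normalizer_fintype (S := (P : Set Ω)) fun y hy => ?_
    obtain ⟨i, j, c, hc1, hc2, -⟩ := B.dec hS ⟨y, hy⟩
    have h1 : y = ((w : P) : Ω) ^ i * ((u : P) : Ω) ^ j * (c : Ω) := congrArg Subtype.val hc2
    have hcK : (c : Ω) ∈ K ⊓ P :=
      ⟨mem_K.2 ⟨hPS c.2, fun x => congrArg Subtype.val (hc1 x)⟩, c.2⟩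
    have h2 : k' * c * k'⁻¹ ∈ K ⊓ P := (Subgroup.mem_normalizer_iff.1 hk'N c).1 hcK
    have e1 : Commute k' ((w : P) : Ω) := (mem_K.1 hk'K).2 w
    have e2 : Commute k' ((u : P) : Ω) := (mem_K.1 hk'K).2 u
    have h3 : k' * y * k'⁻¹ = ((w : P) : Ω) ^ i * ((u : P) : Ω) ^ j * (k' * c * k'⁻¹) := by
      rw [h1]
      calc k' * (((w : P) : Ω) ^ i * ((u : P) : Ω) ^ j * (c : Ω)) * k'⁻¹
          = k' * (((w : P) : Ω) ^ i * ((u : P) : Ω) ^ j) * (c * k'⁻¹) := by group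
        _ = ((w : P) : Ω) ^ i * ((u : P) : Ω) ^ j * k' * (c * k'⁻¹) := by
            rw [((e1.zpow_right i).mul_right (e2.zpow_right j)).eq]
        _ = _ := by group
    show k' * y * k'⁻¹ ∈ P
    rw [h3]
    exact P.mul_mem (P.mul_mem (P.zpow_mem (w : P).2 _) (P.zpow_mem (u : P).2 _)) h2.2
  apply hk'P
  refine B.crn.mem (N := (rX F hmul).ker) inferInstance (rX_ker hS hmul hp2 hPS) (hKS hk'K) hkN ?_
  rw [MonoidHom.mem_ker]
  ext x
  show k' * ((x : P) : Ω) * k'⁻¹ = ((x : P) : Ω)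
  rw [(mem_K.1 hk'K).2 x]; group

include hS in
/-- `P` is normal in `S`. -/
theorem Bd.norm (hp2 : p ≠ 2) (B : Bd F p P hmul u w a a₁ h) {s : Ω} (hs : s ∈ S) :
    s ∈ Subgroup.normalizer (P : Set Ω) := by
  have hPS := B.crn.cen.1
  have hfP : Finite P := finite_of_le hPS
  have hX : ∀ x : Ω, x ∈ S → x ^ p = 1 → ∀ t ∈ S, t * x * t⁻¹ ∈ P ∧ (t * x * t⁻¹) ^ p = 1 := by
    intro x hx hxp t ht
    have h1 : (t * x * t⁻¹) ^ p = 1 := by rw [conj_pow, hxp]; group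
    exact ⟨B.om _ (S.mul_mem (S.mul_mem ht hx) (S.inv_mem ht)) h1, h1⟩
  have hXp : ∀ x : Om p P hmul, ((x : P) : Ω) ^ p = 1 := fun x => congrArg Subtype.val (mem_Om.1 x.2)
  refine Subgroup.mem_normalizer_fintype (S := (P : Set Ω)) fun y hy => ?_
  obtain ⟨i, j, c, hc1, hc2, -⟩ := B.dec hS ⟨y, hy⟩
  have h1 : y = ((w : P) : Ω) ^ i * ((u : P) : Ω) ^ j * (c : Ω) := congrArg Subtype.val hc2
  have h2 : s * c * s⁻¹ ∈ P := by
    refine B.cent_le hS hp2 (S.mul_mem (S.mul_mem hs (hPS c.2)) (S.inv_mem hs)) fun x => ?_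
    obtain ⟨h3, h4⟩ := hX _ (hPS (x : P).2) (hXp x) s⁻¹ (S.inv_mem hs)
    have h5 : (c : Ω) * (s⁻¹ * ((x : P) : Ω) * s⁻¹⁻¹) = (s⁻¹ * ((x : P) : Ω) * s⁻¹⁻¹) * c :=
      congrArg Subtype.val (hc1 ⟨⟨_, h3⟩, Subtype.ext h4⟩)
    calc s * c * s⁻¹ * ((x : P) : Ω) = s * ((c : Ω) * (s⁻¹ * ((x : P) : Ω) * s⁻¹⁻¹)) * s⁻¹ := by group
      _ = s * ((s⁻¹ * ((x : P) : Ω) * s⁻¹⁻¹) * c) * s⁻¹ := by rw [h5]
      _ = _ := by group
  show s * y * s⁻¹ ∈ P
  have h3 : s * y * s⁻¹ = (s * ((w : P) : Ω) * s⁻¹) ^ i * (s * ((u : P) : Ω) * s⁻¹) ^ j * (s * c * s⁻¹) := by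
    rw [h1, conj_zpow, conj_zpow]; group
  rw [h3]
  exact P.mul_mem (P.mul_mem (P.zpow_mem (hX _ (hPS (w : P).2) (hXp w) s hs).1 _)
    (P.zpow_mem (hX _ (hPS (u : P).2) (hXp u) s hs).1 _)) h2

/-- The centralizer of `Ω₁(P)` in `P`. -/
def KP (p : ℕ) (P : Subgroup Ω) (hmul : ∀ x y : P, x ^ p = 1 → y ^ p = 1 → (x * y) ^ p = 1) : Subgroup P :=
  Subgroup.centralizer (Om p P hmul : Set P)

theorem mem_KP {c : P} : c ∈ KP p P hmul ↔ ∀ x : Om p P hmul, c * (x : P) = x * c := by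
  unfold KP
  rw [Subgroup.mem_centralizer_iff]
  constructor
  · intro h1 x
    exact (h1 x x.2).symm
  · intro h1 x hx
    exact (h1 ⟨x, hx⟩).symm

theorem KP_inv (α : MulAut P) {c : P} (hc : c ∈ KP p P hmul) : α c ∈ KP p P hmul := by
  rw [mem_KP] at hc ⊢
  intro x
  have h1 := hc ⟨α⁻¹ x, Om_inv α⁻¹ _ x.2⟩
  have h2 := congrArg α h1
  rw [map_mul, map_mul] at h2
  have h3 : α ((⟨α⁻¹ x, Om_inv α⁻¹ _ x.2⟩ : Om p P hmul) : P) = x := MulAut.apply_inv_self P α x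
  rw [h3] at h2
  exact h2

include hS in
theorem Bd.cyc (hp2 : p ≠ 2) (B : Bd F p P hmul u w a a₁ h) : IsCyclic (KP p P hmul) := by
  have hPS := B.crn.cen.1
  have hfP : Finite P := finite_of_le hPS
  have hPp : IsPGroup p P := hS.to_le hPS
  by_contra hnc
  obtain ⟨A, -, hA, hcA⟩ := H3.RankTwo.exists_normal_rank_two hp2 (hPp.to_subgroup (KP p P hmul)) hnc
  have h1 : ∀ x : A, ((x : KP p P hmul) : P) ∈ Om p P hmul := by
    intro x
    exact congrArg Subtype.val (hA.2 x x.2)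
  have h2 : ∀ x : A, (⟨_, h1 x⟩ : Om p P hmul) ∈ Subgroup.center (Om p P hmul) := by
    intro x
    rw [Subgroup.mem_center_iff]
    intro y
    exact Subtype.ext (mem_KP.1 (x : KP p P hmul).2 y).symm
  have h3 : Nat.card A ≤ Nat.card (Subgroup.center (Om p P hmul)) := by
    refine Nat.card_le_card_of_injective (fun x : A => (⟨⟨_, h1 x⟩, h2 x⟩ : Subgroup.center (Om p P hmul))) ?_
    intro x y hxy
    have h4 : (((x : KP p P hmul) : P)) = ((y : KP p P hmul) : P) :=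
      congrArg (fun z : Subgroup.center (Om p P hmul) => ((z : Om p P hmul) : P)) hxy
    exact Subtype.ext (Subtype.ext h4)
  rw [hcA, B.card_center, pow_two] at h3
  have := hpr.1.one_lt
  nlinarith

end

end H89.Rk2A
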