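import Cfsg.Agent.Lib.H89.Rk2J

/-! S5289: rank two, the case `|Ω₁(P)| = p ^ 3`: `C_P(Ω₁(P))` is centralized by `S` and by the torus. -/

set_option autoImplicit false
set_option linter.unusedSectionVars false
open scoped commutatorElement
open Cfsg Cfsg.FusionSystem H86.FusBasic H86.FusSat H86.FusAlperin H89.Normal H89.Normal2

namespace H89.Rk2A

variable {Ω : Type*} [Group Ω] {S : Subgroup Ω} {F : FusionSystem S} {p : ℕ} {P : Subgroup Ω}

section
variable [Finite S] [hpr : Fact p.Prime] (hS : IsPGroup p S) (hF : F.IsSaturated p)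
  {hmul : ∀ x y : P, x ^ p = 1 → y ^ p = 1 → (x * y) ^ p = 1} {u w : Om p P hmul} {a a₁ h : F.autGroup P}

/-- The automorphisms trivial on `C_P(Ω₁(P))`. -/
def St (F : FusionSystem S) (hmul : ∀ x y : P, x ^ p = 1 → y ^ p = 1 → (x * y) ^ p = 1) : Subgroup (F.autGroup P) where
  carrier := {α | ∀ c ∈ KP p P hmul, (α : MulAut P) c = c}
  mul_mem' := by
    rintro α β h1 h2 c hc
    show (α : MulAut P) ((β : MulAut P) c) = c
    rw [h2 c hc, h1 c hc]
  one_mem' := fun c _ => rfl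
  inv_mem' := by
    rintro α h1 c hc
    show (α : MulAut P)⁻¹ c = c
    apply (α : MulAut P).injective
    rw [MulAut.apply_inv_self, h1 c hc]

theorem mem_St {α : F.autGroup P} : α ∈ St F hmul ↔ ∀ c ∈ KP p P hmul, (α : MulAut P) c = c := Iff.rfl

theorem St_conj {α : F.autGroup P} (hα : α ∈ St F hmul) (β : F.autGroup P) : β * α * β⁻¹ ∈ St F hmul := by
  intro c hc
  show (β : MulAut P) ((α : MulAut P) ((β : MulAut P)⁻¹ c)) = c
  rw [hα _ (KP_inv _ hc), MulAut.apply_inv_self]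

include hS in
theorem Bd.ker_le (hp2 : p ≠ 2) (B : Bd F p P hmul u w a a₁ h) : (rV F hmul).ker ≤ St F hmul := by
  intro α hα c hc
  have h1 : (α : MulAut P) ∈ Inn P := by
    rw [← B.crn.rad.2]
    refine ⟨α, ?_, rfl⟩
    have h2 : (rV F hmul).ker ≤ pCore p (F.autGroup P) := le_sSup ⟨inferInstance, B.ker⟩
    exact h2 hα
  obtain ⟨g, hg⟩ := h1
  rw [← hg]
  show g * c * g⁻¹ = c
  obtain ⟨i, j, c', hc', hg', -⟩ := B.dec hS g
  have hcyc := B.cyc hS hp2
  have e1 : Commute c' c := by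
    have h3 : (⟨c', mem_KP.2 hc'⟩ : KP p P hmul) * ⟨c, hc⟩ = ⟨c, hc⟩ * ⟨c', mem_KP.2 hc'⟩ :=
      (IsCyclic.isMulCommutative (α := KP p P hmul)).is_comm.comm _ _
    exact congrArg Subtype.val h3
  have e2 : Commute (w : P) c := (mem_KP.1 hc w).symm
  have e3 : Commute (u : P) c := (mem_KP.1 hc u).symm
  have e4 : Commute g c := by
    rw [hg']
    exact ((e2.zpow_left i).mul_left (e3.zpow_left j)).mul_left e1
  rw [e4.eq]; group

include hS in
theorem Bd.comm_mem (hp2 : p ≠ 2) (B : Bd F p P hmul u w a a₁ h) (r q : F.autGroup P) :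
    r * q * r⁻¹ * q⁻¹ ∈ St F hmul := by
  have hcyc := B.cyc hS hp2
  obtain ⟨g, hg⟩ := hcyc.exists_generator
  have hpow : ∀ q : F.autGroup P, ∃ e : ℤ, ∀ c ∈ KP p P hmul, (q : MulAut P) c = c ^ e := by
    intro q
    obtain ⟨e, he⟩ := hg ⟨(q : MulAut P) g, KP_inv _ g.2⟩
    have he : ((g : KP p P hmul) : P) ^ e = (q : MulAut P) g := congrArg Subtype.val he
    refine ⟨e, fun c hc => ?_⟩
    obtain ⟨k, hk⟩ := hg ⟨c, hc⟩
    have hk : ((g : KP p P hmul) : P) ^ k = c := congrArg Subtype.val hk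
    rw [← hk, map_zpow, ← he, ← zpow_mul, ← zpow_mul, mul_comm]
  obtain ⟨e, he⟩ := hpow q
  intro c hc
  show (r : MulAut P) ((q : MulAut P) ((r : MulAut P)⁻¹ ((q : MulAut P)⁻¹ c))) = c
  have hc' : (q : MulAut P)⁻¹ c ∈ KP p P hmul := KP_inv _ hc
  rw [he _ (KP_inv _ hc'), map_zpow, MulAut.apply_inv_self, ← he _ hc', MulAut.apply_inv_self]

/-- The torus element. -/
def tor (a a₁ h : F.autGroup P) (κ : ℕ) : F.autGroup P :=
  a ^ 2 * (h * a₁ * h⁻¹) ^ κ * a ^ 2 * (a * (h * a₁ * h⁻¹) * a)⁻¹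

theorem Bd.tor_apply (B : Bd F p P hmul u w a a₁ h) {κ : ℕ} (hκ : 2 * κ = p + 1) :
    rV F hmul (tor a a₁ h κ) (u : Om p P hmul ⧸ Subgroup.center (Om p P hmul)) = u ^ 2 ∧
    rV F hmul (tor a a₁ h κ) (w : Om p P hmul ⧸ Subgroup.center (Om p P hmul)) = w ^ κ := by
  have hfP : Finite P := finite_of_le B.crn.cen.1
  have hfM : Finite (MulAut P) := finite_mulAut P
  have hκ' : (p : ℤ) ∣ (2 : ℕ) * κ - 1 := by
    refine ⟨1, ?_⟩
    have : (2 : ℤ) * κ = p + 1 := by exact_mod_cast hκ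
    push_cast
    linarith
  exact B.tv.torus B.quo_comm exp_quo 2 κ hκ'

theorem Bd.tor_inv (B : Bd F p P hmul u w a a₁ h) {κ : ℕ} (hκ : 2 * κ = p + 1) :
    (rV F hmul (tor a a₁ h κ))⁻¹ (u : Om p P hmul ⧸ Subgroup.center (Om p P hmul)) = u ^ κ ∧
    (rV F hmul (tor a a₁ h κ))⁻¹ (w : Om p P hmul ⧸ Subgroup.center (Om p P hmul)) = w ^ 2 := by
  obtain ⟨h1, h2⟩ := B.tor_apply hκ
  have hwκ : ∀ x : Om p P hmul ⧸ Subgroup.center (Om p P hmul), x ^ (κ * 2) = x := by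
    intro x
    rw [mul_comm, hκ, pow_succ, exp_quo, one_mul]
  constructor
  · apply (rV F hmul (tor a a₁ h κ)).injective
    rw [MulAut.apply_inv_self, map_pow, h1, ← pow_mul, mul_comm 2 κ, hwκ]
  · apply (rV F hmul (tor a a₁ h κ)).injective
    rw [MulAut.apply_inv_self, map_pow, h2, ← pow_mul, hwκ]

/-- Conjugation by the torus element is the fourth power on `Aut_S(P)`, modulo the kernel. -/
theorem Bd.tor_conj (B : Bd F p P hmul u w a a₁ h) {κ : ℕ} (hκ : 2 * κ = p + 1) {q : F.autGroup P}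
    (hq : q ∈ (autInducedBy S P).subgroupOf (F.autGroup P)) :
    tor a a₁ h κ * q * (tor a a₁ h κ)⁻¹ * (q ^ 4)⁻¹ ∈ (rV F hmul).ker := by
  obtain ⟨h1, h2⟩ := B.tor_apply hκ
  obtain ⟨h3, h4⟩ := B.tor_inv hκ
  set ub : Om p P hmul ⧸ Subgroup.center (Om p P hmul) := (u : Om p P hmul ⧸ Subgroup.center (Om p P hmul)) with hub
  set wb : Om p P hmul ⧸ Subgroup.center (Om p P hmul) := (w : Om p P hmul ⧸ Subgroup.center (Om p P hmul)) with hwb
  set r := tor a a₁ h κ with hr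
  have hwκ : ∀ x : Om p P hmul ⧸ Subgroup.center (Om p P hmul), x ^ (κ * 2) = x := by
    intro x
    rw [mul_comm, hκ, pow_succ, exp_quo, one_mul]
  obtain ⟨i, hi⟩ := B.tv.Qx q hq wb
  have hqu : rV F hmul q ub = ub := B.tv.Qu q hq
  have hqn : ∀ n : ℕ, rV F hmul (q ^ n) ub = ub := by
    intro n
    induction n with
    | zero => simp
    | succ n ih => rw [pow_succ', map_mul, MulAut.mul_apply, ih, hqu]
  have hqw : ∀ n : ℕ, rV F hmul (q ^ n) wb = ub ^ (i * n) * wb := by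
    intro n
    induction n with
    | zero => simp
    | succ n ih =>
      rw [pow_succ', map_mul, MulAut.mul_apply, ih, map_mul, map_zpow, hqu, hi, ← mul_assoc, ← zpow_add]
      congr 2
      push_cast; ring
  have key : rV F hmul (r * q * r⁻¹) = rV F hmul (q ^ 4) := by
    have e1 : rV F hmul (r * q * r⁻¹) ub = ub := by
      rw [map_mul, map_mul, MulAut.mul_apply, MulAut.mul_apply, map_inv, h3, map_pow (rV F hmul q), hqu, map_pow, h1,
        ← pow_mul, mul_comm 2 κ, hwκ]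
    have e2 : rV F hmul (r * q * r⁻¹) wb = ub ^ (i * (4 : ℕ)) * wb := by
      have e3 : Commute (ub ^ i) wb := B.quo_comm _ _
      rw [map_mul, map_mul, MulAut.mul_apply, MulAut.mul_apply, map_inv, h4, map_pow (rV F hmul q), hi, e3.mul_pow,
        map_mul, map_pow, map_pow, map_zpow, h1, h2, ← pow_mul wb, hwκ]
      congr 1
      rw [← zpow_natCast ub 2, ← zpow_mul, ← zpow_natCast _ 2, ← zpow_mul]
      congr 1
      push_cast; ring
    ext y
    obtain ⟨k, l, rfl⟩ := B.tv.dec y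
    rw [map_mul, map_zpow, map_zpow, e1, e2, map_mul, map_zpow, map_zpow, hqw, hqn]
  rw [MonoidHom.mem_ker, map_mul, key, map_inv, mul_inv_cancel]

include hS in
theorem Bd.Q_le (hp5 : 5 ≤ p) (B : Bd F p P hmul u w a a₁ h) {κ : ℕ} (hκ : 2 * κ = p + 1) :
    (autInducedBy S P).subgroupOf (F.autGroup P) ≤ St F hmul := by
  have hp2 : p ≠ 2 := by omega
  intro q hq
  obtain ⟨r, hr⟩ : ∃ r, r = tor a a₁ h κ := ⟨_, rfl⟩
  have h1 : r * q * r⁻¹ * (q ^ 4)⁻¹ ∈ St F hmul := hr ▸ B.ker_le hS hp2 (B.tor_conj hκ hq)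
  have h2 : r * q * r⁻¹ * q⁻¹ ∈ St F hmul := B.comm_mem hS hp2 r q
  have h3 : q ^ 3 ∈ St F hmul := by
    have h4 := (St F hmul).mul_mem ((St F hmul).inv_mem h1) h2
    have h6 : q ^ 4 = q ^ 3 * q := pow_succ q 3
    have h5 : (r * q * r⁻¹ * (q ^ 4)⁻¹)⁻¹ * (r * q * r⁻¹ * q⁻¹) = q ^ 3 := by
      rw [h6]
      generalize q ^ 3 = q3
      group
    rw [← h5]
    exact h4
  have hQp : IsPGroup p ((autInducedBy S P).subgroupOf (F.autGroup P)) :=
    (isPGroup_autInducedBy hS P).comap_subtype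
  obtain ⟨k, hk⟩ := hQp ⟨q, hq⟩
  have hk' : q ^ p ^ k = 1 := congrArg Subtype.val hk
  have hcop : Nat.Coprime 3 (p ^ k) := by
    apply Nat.Coprime.pow_right
    rw [Nat.coprime_primes Nat.prime_three hpr.1]
    omega
  have h5 := Nat.gcd_eq_gcd_ab 3 (p ^ k)
  rw [hcop] at h5
  have h6 : q = (q ^ 3) ^ (Nat.gcdA 3 (p ^ k)) * (q ^ p ^ k) ^ (Nat.gcdB 3 (p ^ k)) := by
    rw [← zpow_natCast q 3, ← zpow_natCast q (p ^ k), ← zpow_mul, ← zpow_mul, ← zpow_add, ← h5]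
    simp
  rw [h6, hk', one_zpow, mul_one]
  exact (St F hmul).zpow_mem h3 _

include hS in
theorem Bd.tor_mem (hp5 : 5 ≤ p) (B : Bd F p P hmul u w a a₁ h) {κ : ℕ} (hκ : 2 * κ = p + 1) :
    tor a a₁ h κ ∈ St F hmul := by
  have h1 := B.Q_le hS hp5 hκ
  have ha := h1 B.tv.aQ
  have ha₁ := St_conj (h1 B.tv.a₁Q) h
  unfold tor
  exact (St F hmul).mul_mem ((St F hmul).mul_mem ((St F hmul).mul_mem ((St F hmul).pow_mem ha _)
    ((St F hmul).pow_mem ha₁ _)) ((St F hmul).pow_mem ha _)) ((St F hmul).inv_mem ((St F hmul).mul_mem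
    ((St F hmul).mul_mem ha ha₁) ha))

end

end H89.Rk2A
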