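import Cfsg.Agent.Lib.H89.Rk2K

/-! S5289: rank two, the case `|Ω₁(P)| = p ^ 3`: contradiction. -/

set_option autoImplicit false
set_option linter.unusedSectionVars false
open scoped commutatorElement
open Cfsg Cfsg.FusionSystem H86.FusBasic H86.FusSat H86.FusAlperin H89.Normal H89.Normal2

namespace H89.Rk2A

variable {Ω : Type*} [Group Ω] {S : Subgroup Ω} {F : FusionSystem S} {p : ℕ} {P : Subgroup Ω}

section
variable [Finite S] [hpr : Fact p.Prime] (hS : IsPGroup p S) (hF : F.IsSaturated p)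
  {hmul : ∀ x y : P, x ^ p = 1 → y ^ p = 1 → (x * y) ^ p = 1} {u w : Om p P hmul} {a a₁ h : F.autGroup P}

include hS hF in
/-- The torus element extends to `S`. -/
theorem Bd.tor_ext (hp2 : p ≠ 2) (B : Bd F p P hmul u w a a₁ h) {κ : ℕ} (hκ : 2 * κ = p + 1) :
    ∃ ψ ∈ F.autGroup S, ∀ (s : S) (x : P), (s : Ω) = x → ((ψ s : S) : Ω) = (((tor a a₁ h κ : F.autGroup P) : MulAut P) x : P) := by
  have hPS := B.crn.cen.1
  have hfP : Finite P := finite_of_le hPS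
  have hfM : Finite (MulAut P) := finite_mulAut P
  obtain ⟨h1, h2⟩ := B.tor_apply hκ
  obtain ⟨h3, h4⟩ := B.tor_inv hκ
  obtain ⟨r, hr⟩ : ∃ r, r = tor a a₁ h κ := ⟨_, rfl⟩
  rw [← hr] at h1 h2 h3 h4 ⊢
  have hwκ : ∀ x : Om p P hmul ⧸ Subgroup.center (Om p P hmul), x ^ (κ * 2) = x := by
    intro x
    rw [mul_comm, hκ, pow_succ, exp_quo, one_mul]
  obtain ⟨-, R, hR⟩ := (fullyNormalized_spec hS hF B.crn.fn).2
  set A₀ := (Un (u : Om p P hmul ⧸ Subgroup.center (Om p P hmul))).comap (rV F hmul) with hA₀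
  have hA₀p : IsPGroup p A₀ := (Un_isPGroup exp_quo _).comap_of_ker_isPGroup _ B.ker
  have hle : (autInducedBy S P).subgroupOf (F.autGroup P) ≤ A₀ := fun q hq => ⟨B.tv.Qu q hq, B.tv.Qx q hq⟩
  have hA₀eq : A₀ = (autInducedBy S P).subgroupOf (F.autGroup P) := by
    rw [← hR]
    exact R.is_maximal' hA₀p (by rw [hR]; exact hle)
  obtain ⟨ψ₁, hψ₁, hψ₁x⟩ := receptive_extend' (receptive_of_fullyNormalized hS hF B.crn.fn)
    ((mem_autGroup F hPS).1 r.2) hPS le_rfl (fun x hx => B.norm hS hp2 hx) (by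
      intro x hx
      have h5 : r * cj F hPS hx (B.norm hS hp2 hx) * r⁻¹ ∈ A₀ := by
        obtain ⟨h6, h7⟩ : rV F hmul (cj F hPS hx (B.norm hS hp2 hx)) ∈ Un (u : Om p P hmul ⧸ Subgroup.center (Om p P hmul)) :=
          hle (cj_mem hPS hx (B.norm hS hp2 hx))
        rw [hA₀, Subgroup.mem_comap, mem_Un]
        refine ⟨?_, fun y => ?_⟩
        · rw [map_mul, map_mul, MulAut.mul_apply, MulAut.mul_apply, map_inv, h3, map_pow (rV F hmul _), h6, map_pow, h1,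
            ← pow_mul, mul_comm 2 κ, hwκ]
        · obtain ⟨i, hi⟩ := h7 ((rV F hmul r)⁻¹ y)
          refine ⟨2 * i, ?_⟩
          rw [map_mul, map_mul, MulAut.mul_apply, MulAut.mul_apply, map_inv, hi, map_mul, map_zpow, h1,
            MulAut.apply_inv_self, zpow_mul, zpow_ofNat]
      rw [hA₀eq] at h5
      exact h5)
  obtain ⟨ψ, hψF, hψ⟩ := exists_aut_of_maps (F := F) le_rfl hψ₁ (fun x => apply_mem F hψ₁ x)
  refine ⟨ψ, hψF, fun s x hsx => ?_⟩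
  rw [hψ]
  have h5 : s = ⟨x, hPS x.2⟩ := Subtype.ext hsx
  rw [h5]
  exact hψ₁x x

include hS hF in
theorem Bd.false (hp5 : 5 ≤ p) (B : Bd F p P hmul u w a a₁ h) : False := by
  have hp2 : p ≠ 2 := by omega
  have hPS := B.crn.cen.1
  obtain ⟨κ, hκ⟩ : ∃ κ : ℕ, 2 * κ = p + 1 := by
    obtain ⟨k, hk⟩ := hpr.1.odd_of_ne_two hp2
    exact ⟨k + 1, by omega⟩
  obtain ⟨ψ, -, hψ⟩ := B.tor_ext hS hF hp2 hκ
  have hrSt := B.tor_mem hS hp5 hκ
  obtain ⟨hr1, hr2⟩ := B.tor_apply hκ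
  obtain ⟨r, hr⟩ : ∃ r, r = tor a a₁ h κ := ⟨_, rfl⟩
  rw [← hr] at hr1 hr2 hrSt hψ
  have hQ := B.Q_le hS hp5 hκ
  have hnorm : ∀ s : S, (s : Ω) ∈ Subgroup.normalizer (P : Set Ω) := fun s => B.norm hS hp2 s.2
  set K := centralizerIn S ((Om p P hmul).map P.subtype) with hK
  set C := K.subgroupOf S with hC
  have hKP : ∀ c ∈ K, c ∈ P := fun c hc => B.cent_le hS hp2 (mem_K.1 hc).1 (mem_K.1 hc).2
  have hKKP : ∀ (c : Ω) (hc : c ∈ K), (⟨c, hKP c hc⟩ : P) ∈ KP p P hmul := fun c hc =>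
    mem_KP.2 fun x => Subtype.ext ((mem_K.1 hc).2 x)
  have hCz : ∀ c ∈ C, ∀ g : S, g * c = c * g := by
    intro c hc g
    have hc' : (c : Ω) ∈ K := hc
    have h1 := hQ (cj_mem (F := F) hPS g.2 (hnorm g)) ⟨c, hKP c hc'⟩ (hKKP c hc')
    have h2 : (g : Ω) * c * (g : Ω)⁻¹ = c := congrArg Subtype.val h1
    apply Subtype.ext
    show (g : Ω) * c = c * g
    calc (g : Ω) * c = g * c * (g : Ω)⁻¹ * g := by group
      _ = c * g := by rw [h2]
  have hCn : C.Normal := by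
    constructor
    intro c hc g
    rw [hCz c hc g, mul_inv_cancel_right]
    exact hc
  obtain ⟨Z, hZ⟩ : ∃ Z : P, Z = ((⁅w, u⁆ : Om p P hmul) : P) := ⟨_, rfl⟩
  have hZK : (Z : Ω) ∈ K := by
    rw [hZ]
    exact mem_K.2 ⟨hPS (Subtype.prop _), fun x =>
      (congrArg (fun y : Om p P hmul => ((y : P) : Ω)) (Subgroup.mem_center_iff.1 B.z_mem x)).symm⟩
  set uS : S := ⟨((u : P) : Ω), hPS (u : P).2⟩ with huS
  set wS : S := ⟨((w : P) : Ω), hPS (w : P).2⟩ with hwS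
  set ZS : S := ⟨(Z : Ω), hPS Z.2⟩ with hZS
  have hZC : ZS ∈ C := hZK
  have hZCi : ∀ i : ℤ, ZS ^ i ∈ C := fun i => C.zpow_mem hZC i
  have hup : ((u : P) : Ω) ^ p = 1 := congrArg Subtype.val (mem_Om.1 u.2)
  have hwp : ((w : P) : Ω) ^ p = 1 := congrArg Subtype.val (mem_Om.1 w.2)
  -- action of elements of `S`
  have hmod : ∀ (α : F.autGroup P) (x y : Om p P hmul), rV F hmul α (x : Om p P hmul ⧸ Subgroup.center (Om p P hmul)) =
      (y : Om p P hmul ⧸ Subgroup.center (Om p P hmul)) → ∃ i : ℤ, (α : MulAut P) x = Z ^ i * y := by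
    intro α x y hxy
    rw [hZ]
    exact B.mod hxy
  have hguz : ∀ g : S, ∃ i : ℤ, g * uS * g⁻¹ = ZS ^ i * uS := by
    intro g
    obtain ⟨i, hi⟩ := hmod (cj F hPS g.2 (hnorm g)) u u (B.tv.Qu _ (cj_mem hPS g.2 (hnorm g)))
    have h1 : (g : Ω) * ((u : P) : Ω) * (g : Ω)⁻¹ = (Z : Ω) ^ i * ((u : P) : Ω) := congrArg Subtype.val hi
    exact ⟨i, Subtype.ext h1⟩
  have hgw : ∀ g : S, ∃ c ∈ C, ∃ m : ℤ, g * wS * g⁻¹ = c * (uS ^ m * wS) ∧ ((p : ℤ) ∣ m → g ∈ P.subgroupOf S) := by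
    intro g
    obtain ⟨m, hm⟩ := B.tv.Qx _ (cj_mem (F := F) hPS g.2 (hnorm g)) (w : Om p P hmul ⧸ Subgroup.center (Om p P hmul))
    obtain ⟨i, hi⟩ := hmod (cj F hPS g.2 (hnorm g)) w (u ^ m * w) hm
    have h1 : (g : Ω) * ((w : P) : Ω) * (g : Ω)⁻¹ = (Z : Ω) ^ i * (((u : P) : Ω) ^ m * ((w : P) : Ω)) :=
      congrArg Subtype.val hi
    refine ⟨ZS ^ i, hZCi i, m, Subtype.ext h1, fun hpm => ?_⟩
    rw [Subgroup.mem_subgroupOf]
    refine B.crn.mem (N := (rV F hmul).ker) inferInstance B.ker g.2 (hnorm g) ?_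
    show cj F hPS g.2 (hnorm g) ∈ (rV F hmul).ker
    rw [MonoidHom.mem_ker]
    have h1 : (u : Om p P hmul ⧸ Subgroup.center (Om p P hmul)) ^ m = 1 := by
      obtain ⟨l, rfl⟩ := hpm
      rw [zpow_mul, zpow_natCast, exp_quo, one_zpow]
    rw [h1, one_mul] at hm
    ext y
    obtain ⟨k, l, rfl⟩ := B.tv.dec y
    rw [map_mul, map_zpow, map_zpow, hm, B.tv.Qu _ (cj_mem hPS g.2 (hnorm g))]
    rfl
  -- the element `s`
  obtain ⟨s₀, hs₀, hs₀P⟩ : ∃ s ∈ S, s ∉ P := by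
    by_contra hcon
    push Not at hcon
    exact B.crn.ne (le_antisymm hPS hcon)
  obtain ⟨i, hi⟩ := hguz ⟨s₀, hs₀⟩
  have hwu := congrArg (fun y : Om p P hmul => (⟨((y : P) : Ω), hPS (y : P).2⟩ : S)) (B.wu i 1)
  have hwu' : wS ^ i * uS * (wS ^ i)⁻¹ = ZS ^ i * uS := by
    have h1 := B.wu i 1
    rw [zpow_one, one_mul, mul_one] at h1
    apply Subtype.ext
    have h2 := congrArg (fun y : Om p P hmul => ((y : P) : Ω)) h1
    show ((w : P) : Ω) ^ i * ((u : P) : Ω) * (((w : P) : Ω) ^ i)⁻¹ = (Z : Ω) ^ i * ((u : P) : Ω)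
    rw [hZ]
    exact h2
  have hs : (wS ^ i)⁻¹ * ⟨s₀, hs₀⟩ ∉ P.subgroupOf S := by
    intro h1
    rw [Subgroup.mem_subgroupOf] at h1
    apply hs₀P
    have h2 : s₀ = ((w : P) : Ω) ^ i * ((((w : P) : Ω) ^ i)⁻¹ * s₀) := by group
    rw [h2]
    exact P.mul_mem (P.zpow_mem (w : P).2 _) h1
  have hsu : (wS ^ i)⁻¹ * ⟨s₀, hs₀⟩ * uS = uS * ((wS ^ i)⁻¹ * ⟨s₀, hs₀⟩) := by
    have h1 : (⟨s₀, hs₀⟩ : S) * uS * (⟨s₀, hs₀⟩ : S)⁻¹ = wS ^ i * uS * (wS ^ i)⁻¹ := hi.trans hwu'.symm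
    calc (wS ^ i)⁻¹ * ⟨s₀, hs₀⟩ * uS = (wS ^ i)⁻¹ * ((⟨s₀, hs₀⟩ : S) * uS * (⟨s₀, hs₀⟩ : S)⁻¹) * ⟨s₀, hs₀⟩ := by group
      _ = (wS ^ i)⁻¹ * (wS ^ i * uS * (wS ^ i)⁻¹) * ⟨s₀, hs₀⟩ := by rw [h1]
      _ = _ := by group
  refine final_falseB hp5 (P.subgroupOf S) C uS wS _ hCz ?_ ?_ ?_ ?_ hs hsu hgw ?_ ?_ ?_ ?_ ψ ?_ ?_ hκ ?_
  · intro c hc
    exact hKP c hc
  · exact (u : P).2
  · exact Subtype.ext hup
  · exact Subtype.ext hwp
  · refine ⟨ZS, hZC, ?_⟩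
    apply Subtype.ext
    show ((w : P) : Ω) * ((u : P) : Ω) = (Z : Ω) * (((u : P) : Ω) * ((w : P) : Ω))
    rw [hZ]
    show ((w : P) : Ω) * ((u : P) : Ω) = ((w : P) : Ω) * ((u : P) : Ω) * ((w : P) : Ω)⁻¹ * ((u : P) : Ω)⁻¹ *
      (((u : P) : Ω) * ((w : P) : Ω))
    group
  · intro x hx hxu
    obtain ⟨i, j, c, hc1, hc2, hc3⟩ := B.dec hS ⟨(x : Ω), hx⟩
    have hxu' : (x : Ω) * ((u : P) : Ω) = ((u : P) : Ω) * (x : Ω) := congrArg Subtype.val hxu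
    have h1 : (p : ℤ) ∣ i := hc3 (Subtype.ext hxu')
    have h2 : (w : P) ^ i = 1 := by
      obtain ⟨l, rfl⟩ := h1
      have h3 : (w : P) ^ p = 1 := mem_Om.1 w.2
      rw [zpow_mul, zpow_natCast, h3, one_zpow]
    rw [h2, one_mul] at hc2
    refine ⟨j, ⟨c, hPS c.2⟩, ?_, ?_⟩
    · exact mem_K.2 ⟨hPS c.2, fun x => congrArg Subtype.val (hc1 x)⟩
    · have h3 : (x : Ω) = ((u : P) : Ω) ^ j * (c : Ω) := congrArg Subtype.val hc2
      exact Subtype.ext h3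
  · intro j hj
    have h1 := mem_K.1 (show ((uS ^ j : S) : Ω) ∈ K from hj)
    have h2 : w * u ^ j = u ^ j * w := by
      apply Subtype.ext
      apply Subtype.ext
      exact (h1.2 w).symm
    have h3 := B.wu 1 j
    rw [zpow_one, h2, one_mul, one_mul, mul_inv_cancel_right] at h3
    exact Rk2Act.dvd_of_zpow B.z_pow B.z_ne (mul_eq_right.1 h3.symm)
  · intro g hg
    exact B.om g g.2 (congrArg Subtype.val hg)
  · intro c hc
    apply Subtype.ext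
    rw [hψ c ⟨c, hKP c hc⟩ rfl, hrSt _ (hKKP c hc)]
  · obtain ⟨j, hj⟩ := hmod r u (u ^ 2) hr1
    refine ⟨ZS ^ j, hZCi j, Subtype.ext ?_⟩
    rw [hψ uS u rfl, hj]
    rfl
  · obtain ⟨j, hj⟩ := hmod r w (w ^ κ) hr2
    refine ⟨ZS ^ j, hZCi j, Subtype.ext ?_⟩
    rw [hψ wS w rfl, hj]
    rfl

include hS hF in
theorem CRN.false (hp5 : 5 ≤ p) (hP : CRN F p P)
    (hr : ∀ E : Subgroup Ω, E ≤ S → IsElementaryAbelian p E → Nat.card E ≤ p ^ 2)
    (hnotE : ¬ (Nat.card S = p ^ 3 ∧ ∀ x ∈ S, x ^ p = 1)) : False := by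
  have hp2 : p ≠ 2 := by omega
  have hPS := hP.cen.1
  have hfP : Finite P := finite_of_le hPS
  have hfM : Finite (MulAut P) := finite_mulAut P
  have hPp : IsPGroup p P := hS.to_le hPS
  have hmul : ∀ x y : P, x ^ p = 1 → y ^ p = 1 → (x * y) ^ p = 1 := fun x y => mul_pow_sub hS hp5 hr hP.cen.1 x y
  have hXexp : ∀ x : Om p P hmul, x ^ p = 1 := fun x => Subtype.ext (mem_Om.1 x.2)
  have hrP : ∀ E : Subgroup P, IsElementaryAbelian p E → Nat.card E ≤ p ^ 2 := fun E hE => rank_sub hPS hr E hE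
  have hbig := Om_big hS hmul hp2 hP
  have hsub : ∀ E : Subgroup (Om p P hmul), IsElementaryAbelian p E → Nat.card E ≤ p ^ 2 := by
    intro E hE
    have e := E.equivMapOfInjective (Om p P hmul).subtype (Subgroup.subtype_injective _)
    have h1 := hrP (E.map (Om p P hmul).subtype) ?_
    · rwa [← Nat.card_congr e.toEquiv] at h1
    · obtain ⟨h2, h3⟩ := hE
      refine ⟨?_, ?_⟩
      · constructor
        constructor
        rintro ⟨_, x, hx, rfl⟩ ⟨_, y, hy, rfl⟩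
        have h4 := h2.is_comm.comm ⟨x, hx⟩ ⟨y, hy⟩
        exact Subtype.ext (congrArg (fun z : E => ((z : Om p P hmul) : P)) h4)
      · rintro _ ⟨x, hx, rfl⟩
        exact congrArg Subtype.val (h3 x hx)
  have hle3 : Nat.card (Om p P hmul) ≤ p ^ 3 := H3.OmegaRankTwo.card_le_of_exponent hXexp hsub
  obtain ⟨k, hk⟩ := (hPp.to_subgroup (Om p P hmul)).exists_card_eq
  have hk1 : 1 < k := by
    rw [hk] at hbig
    by_contra hcon
    have h1 : p ^ k ≤ p ^ 1 := Nat.pow_le_pow_right hpr.1.pos (by omega)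
    rw [pow_one] at h1
    omega
  have hk3 : k ≤ 3 := by
    rw [hk] at hle3
    exact (Nat.pow_le_pow_iff_right hpr.1.one_lt).1 hle3
  obtain rfl | rfl : k = 2 ∨ k = 3 := by omega
  · exact caseA_false hS hF hp5 hP hr hnotE hk
  -- case B
  have hnc : ¬ IsMulCommutative (Om p P hmul) := by
    intro hc
    have h1 := hrP (Om p P hmul) ⟨hc, fun x hx => hx⟩
    rw [hk] at h1
    have := (Nat.pow_le_pow_iff_right hpr.1.one_lt).1 h1
    omega
  have hom : ∀ x ∈ S, x ^ p = 1 → x ∈ P := by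
    intro x hx hxp
    have hmulS : ∀ x y : S, x ^ p = 1 → y ^ p = 1 → (x * y) ^ p = 1 := fun x y => mul_pow_sub hS hp5 hr le_rfl x y
    set W := (Om p S hmulS).map S.subtype with hW
    have hmemW : ∀ x, x ∈ W ↔ x ∈ S ∧ x ^ p = 1 := by
      intro x
      constructor
      · rintro ⟨y, hy, rfl⟩
        exact ⟨y.2, congrArg Subtype.val (mem_Om.1 hy)⟩
      · rintro ⟨hx, hxp⟩
        exact ⟨⟨x, hx⟩, Subtype.ext hxp, rfl⟩
    have hWS : W ≤ S := fun x hx => ((hmemW x).1 hx).1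
    have hfW : Finite W := finite_of_le hWS
    have hcW : Nat.card W ≤ p ^ 3 :=
      H3.OmegaRankTwo.card_le_of_exponent (fun x => Subtype.ext ((hmemW x).1 x.2).2)
        (fun E hE => rank_sub hWS hr E hE)
    set X := (Om p P hmul).map P.subtype with hX
    have hXW : X ≤ W := by
      rintro _ ⟨y, hy, rfl⟩
      exact (hmemW _).2 ⟨hPS y.2, congrArg Subtype.val (mem_Om.1 hy)⟩
    have hcX : Nat.card X = p ^ 3 := by
      rw [← hk]
      exact (Nat.card_congr ((Om p P hmul).equivMapOfInjective P.subtype (Subgroup.subtype_injective _)).toEquiv).symm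
    have h3 : X = W := Subgroup.eq_of_le_of_card_ge hXW (by rw [hcX]; exact hcW)
    have h4 : x ∈ X := by
      rw [h3]
      exact (hmemW x).2 ⟨hx, hxp⟩
    obtain ⟨y, -, rfl⟩ := h4
    exact y.2
  have hker := rV_ker hS hmul hp2 hPS hk hnc (F := F)
  have hcY : Nat.card (Subgroup.center (Om p P hmul)) = p := H28.PCube.card_center hk hnc
  have hcV : Nat.card (Om p P hmul ⧸ Subgroup.center (Om p P hmul)) = p ^ 2 := by
    have h1 := Subgroup.card_eq_card_quotient_mul_card_subgroup (Subgroup.center (Om p P hmul))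
    rw [hk, hcY] at h1
    have h2 : p ^ 3 = p ^ 2 * p := by ring
    rw [h2] at h1
    exact (Nat.eq_of_mul_eq_mul_right hpr.1.pos h1).symm
  have hVc : ∀ x y : Om p P hmul ⧸ Subgroup.center (Om p P hmul), x * y = y * x :=
    (IsPGroup.isMulCommutative_of_card_eq_prime_sq hcV).is_comm.comm
  have hQp : IsPGroup p ((autInducedBy S P).subgroupOf (F.autGroup P)) := (isPGroup_autInducedBy hS P).comap_subtype
  obtain ⟨u, w, a, a₁, h, ht⟩ := Rk2Act.exists_tv hcV exp_quo hVc (rV F hmul) hker _ hQp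
    (fun N hN hNp => hP.hQn hS N hN hNp)
  obtain ⟨u, rfl⟩ := QuotientGroup.mk_surjective u
  obtain ⟨w, rfl⟩ := QuotientGroup.mk_surjective w
  exact Bd.false hS hF hp5 ⟨hP, hk, hnc, hker, ht, hom⟩

end

end H89.Rk2A
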