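import Cfsg.Agent.Lib.H89.Rk2A
import Cfsg.Agent.Lib.H89.Normal
import Cfsg.Prelude

/-! S5214: a 2-group with `Ω₁(S) = Z(S)` and `S / Z(S)` abelian is resistant. -/

set_option autoImplicit false
set_option linter.unusedSectionVars false
open scoped commutatorElement
open Cfsg Cfsg.FusionSystem H86.FusBasic H86.FusSat H86.FusAlperin H89.Normal H89.Normal2

namespace H89.SuzRes

variable {Ω : Type*} [Group Ω] {S : Subgroup Ω} {F : FusionSystem S}

theorem isNormal [Finite S] {p : ℕ} [hp : Fact p.Prime] (hS : IsPGroup p S) (hF : F.IsSaturated p)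
    (hZ : ∀ x : S, x ^ p = 1 ↔ x ∈ Subgroup.center S) (hab : ∀ x y : S, x⁻¹ * y⁻¹ * x * y ∈ Subgroup.center S) :
    F.IsNormal S := by
  refine isNormal_of_essential hS hF fun P hP => ?_
  by_cases hPS' : P = S
  · subst hPS'
    exact ⟨le_rfl, fun α _ x _ => (α x).2⟩
  exfalso
  rcases hP with hP | hP
  · exact hPS' hP
  have hC : Rk2A.CRN F p P := ⟨hP.2.1, hP.1, radical_of_essential hS hP, hPS'⟩
  have hPS := hP.1.1
  have hZP : ∀ x : S, x ∈ Subgroup.center S → (x : Ω) ∈ P := by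
    intro x hx
    refine hC.cen.2 P (isConj_refl F hPS) (mem_centralizerIn.2 ⟨x.2, fun y hy => ?_⟩)
    have h1 := Subgroup.mem_center_iff.1 hx ⟨y, hPS hy⟩
    have h2 : y * (x : Ω) = x * y := congrArg Subtype.val h1
    first | exact h2 | exact h2.symm
  let N : Subgroup (F.autGroup P) :=
    { carrier := {α | (∀ x : P, x ^ p = 1 → (α : MulAut P) x = x) ∧ ∀ x : P, (x⁻¹ * (α : MulAut P) x) ^ p = 1}
      mul_mem' := by
        rintro α β ⟨h1, h2⟩ ⟨h3, h4⟩
        refine ⟨fun x hx => ?_, fun x => ?_⟩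
        · show (α : MulAut P) ((β : MulAut P) x) = x
          rw [h3 x hx, h1 x hx]
        · show (x⁻¹ * (α : MulAut P) ((β : MulAut P) x)) ^ p = 1
          have h5 : x⁻¹ * (α : MulAut P) ((β : MulAut P) x) = (x⁻¹ * (α : MulAut P) x) * (x⁻¹ * (β : MulAut P) x) := by
            have h6 : (β : MulAut P) x = x * (x⁻¹ * (β : MulAut P) x) := by group
            nth_rewrite 1 [h6]
            rw [map_mul, h1 _ (h4 x)]
            group
          rw [h5]
          have hc : Commute (x⁻¹ * (α : MulAut P) x) (x⁻¹ * (β : MulAut P) x) := by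
            have h7 : (⟨((x⁻¹ * (α : MulAut P) x : P) : Ω), hPS (Subtype.prop _)⟩ : S) ∈ Subgroup.center S := by
              rw [← hZ]
              have h9 : ((x⁻¹ * (α : MulAut P) x : P) : Ω) ^ p = 1 := congrArg Subtype.val (h2 x)
              exact Subtype.ext h9
            have h8 := Subgroup.mem_center_iff.1 h7 ⟨((x⁻¹ * (β : MulAut P) x : P) : Ω), hPS (Subtype.prop _)⟩
            exact Subtype.ext (congrArg Subtype.val h8).symm
          rw [hc.mul_pow, h2, h4, one_mul]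
      one_mem' := ⟨fun x _ => rfl, fun x => by
        show (x⁻¹ * x) ^ p = 1
        rw [inv_mul_cancel, one_pow]⟩
      inv_mem' := by
        rintro α ⟨h1, h2⟩
        have h3 : ∀ x : P, x ^ p = 1 → (α : MulAut P)⁻¹ x = x := by
          intro x hx
          apply (α : MulAut P).injective
          rw [MulAut.apply_inv_self, h1 x hx]
        refine ⟨h3, fun x => ?_⟩
        show (x⁻¹ * (α : MulAut P)⁻¹ x) ^ p = 1
        have h4 := h2 ((α : MulAut P)⁻¹ x)
        rw [MulAut.apply_inv_self] at h4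
        have h5 : x⁻¹ * (α : MulAut P)⁻¹ x = (((α : MulAut P)⁻¹ x)⁻¹ * x)⁻¹ := by group
        rw [h5, inv_pow, h4, inv_one] }
  have hNn : N.Normal := by
    constructor
    rintro α ⟨h1, h2⟩ β
    refine ⟨fun x hx => ?_, fun x => ?_⟩
    · show (β : MulAut P) ((α : MulAut P) ((β : MulAut P)⁻¹ x)) = x
      rw [h1 _ (by rw [← map_pow, hx, map_one]), MulAut.apply_inv_self]
    · show (x⁻¹ * (β : MulAut P) ((α : MulAut P) ((β : MulAut P)⁻¹ x))) ^ p = 1
      have h3 : x⁻¹ * (β : MulAut P) ((α : MulAut P) ((β : MulAut P)⁻¹ x)) =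
          (β : MulAut P) (((β : MulAut P)⁻¹ x)⁻¹ * (α : MulAut P) ((β : MulAut P)⁻¹ x)) := by
        rw [map_mul, map_inv, MulAut.apply_inv_self]
      rw [h3, ← map_pow, h2, map_one]
  have hNp : IsPGroup p N := by
    rintro ⟨α, h1, h2⟩
    refine ⟨1, Subtype.ext (Subtype.ext ?_)⟩
    show (α : MulAut P) ^ p ^ 1 = 1
    rw [pow_one]
    ext x
    have h4 : ∀ n : ℕ, ((α : MulAut P) ^ n) x = x * (x⁻¹ * (α : MulAut P) x) ^ n := by
      intro n
      induction n with
      | zero => simp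
      | succ n ih =>
        rw [pow_succ', MulAut.mul_apply, ih, map_mul, map_pow, h1 _ (h2 x), pow_succ' (x⁻¹ * (α : MulAut P) x),
          ← mul_assoc, mul_inv_cancel_left]
    rw [h4, h2, mul_one]
    rfl
  obtain ⟨g, hg, hgN, hgP⟩ := hC.ex hS
  refine hgP (hC.mem hNn hNp hg hgN ⟨fun x hx => ?_, fun x => ?_⟩)
  · apply Subtype.ext
    show g * (x : Ω) * g⁻¹ = x
    have h1 : (⟨(x : Ω), hPS x.2⟩ : S) ∈ Subgroup.center S := by
      rw [← hZ]
      have h9 : (x : Ω) ^ p = 1 := congrArg Subtype.val hx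
      exact Subtype.ext h9
    have h2 := Subgroup.mem_center_iff.1 h1 ⟨g, hg⟩
    have h3 : g * (x : Ω) = x * g := congrArg Subtype.val h2
    rw [h3, mul_inv_cancel_right]
  · apply Subtype.ext
    show ((x : Ω)⁻¹ * (g * (x : Ω) * g⁻¹)) ^ p = 1
    have h1 := (hZ _).2 (hab ⟨(x : Ω), hPS x.2⟩ ⟨g⁻¹, S.inv_mem hg⟩)
    have h2 : ((x : Ω)⁻¹ * g⁻¹⁻¹ * x * g⁻¹) ^ p = 1 := congrArg Subtype.val h1
    rw [inv_inv] at h2
    rw [← h2]
    group

end H89.SuzRes
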