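import Cfsg.Agent.Lib.H89.MaxCl
import Cfsg.Agent.Lib.H89.Normal

/-!
S5270: `C_S(Z₂(S))` is essential as soon as `Aut_F(Z₂(S))` moves `Z(S)`.
-/

set_option autoImplicit false
open scoped commutatorElement
open Cfsg Cfsg.FusionSystem H86.FusBasic H86.FusSat H86.FusCentric H86.FusAlperin

namespace H89.Z2Ess

variable {Ω : Type*} [Group Ω] {S : Subgroup Ω}

/-- Facts about the second centre of a `p`-group of maximal class. -/
theorem z2_facts [Finite S] {p : ℕ} [hp : Fact p.Prime] {n : ℕ} (hn : Nat.card S = p ^ n)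
    (h4 : 4 ≤ n) (hmax : S.lowerCentralSeries (n - 2) ≠ ⊥) {Z Z2 E : Subgroup Ω}
    (hZ : Z = (Subgroup.center S).map S.subtype)
    (hZ2 : Z2 = (Subgroup.upperCentralSeries S 2).map S.subtype)
    (hE : E = S ⊓ Subgroup.centralizer (Z2 : Set Ω)) :
    Nat.card Z = p ∧ Nat.card Z2 = p ^ 2 ∧ Z ≤ Z2 ∧ Z2 ≤ E ∧ (∀ x ∈ Z2, ∀ y ∈ Z2, x * y = y * x) ∧
      (∀ s ∈ S, ∀ x ∈ Z2, s * x * s⁻¹ ∈ Z2) ∧ (∀ s ∈ S, ∀ x ∈ Z2, s * x * s⁻¹ * x⁻¹ ∈ Z) ∧
      (E.subgroupOf S).index = p := by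
  have hS : IsPGroup p S := IsPGroup.of_card hn
  have hcl := H89.MaxCl.class_eq_of_lcs (by omega) hn hmax
  obtain ⟨-, hc1⟩ := H89.MaxCl.upper_eq (by omega) hn hcl (i := 1) (by omega)
  obtain ⟨-, hc2⟩ := H89.MaxCl.upper_eq (by omega) hn hcl (i := 2) (by omega)
  rw [Subgroup.upperCentralSeries_one, pow_one] at hc1
  have hcZ : Nat.card Z = p := by
    rw [hZ, Subgroup.card_map_of_injective S.subtype_injective, hc1]
  have hcZ2 : Nat.card Z2 = p ^ 2 := by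
    rw [hZ2, Subgroup.card_map_of_injective S.subtype_injective, hc2]
  have hZmem : ∀ x, x ∈ Z ↔ x ∈ S ∧ ∀ s ∈ S, s * x = x * s := by
    intro x
    rw [hZ]
    constructor
    · rintro ⟨y, hy, rfl⟩
      exact ⟨y.2, fun s hs => congrArg Subtype.val (Subgroup.mem_center_iff.1 hy ⟨s, hs⟩)⟩
    · rintro ⟨hx, h⟩
      exact ⟨⟨x, hx⟩, Subgroup.mem_center_iff.2 fun s => Subtype.ext (h s s.2), rfl⟩
  have hZ2mem : ∀ x, x ∈ Z2 ↔ x ∈ S ∧ ∀ s ∈ S, x * s * x⁻¹ * s⁻¹ ∈ Z := by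
    intro x
    rw [hZ2, hZ, ← Subgroup.upperCentralSeries_one]
    constructor
    · rintro ⟨y, hy, rfl⟩
      exact ⟨y.2, fun s hs => ⟨_, Subgroup.mem_upperCentralSeries_succ_iff.1 hy ⟨s, hs⟩, rfl⟩⟩
    · rintro ⟨hx, h⟩
      refine ⟨⟨x, hx⟩, Subgroup.mem_upperCentralSeries_succ_iff.2 fun s => ?_, rfl⟩
      obtain ⟨y, hy, hyx⟩ := h s s.2
      have : y = ⁅(⟨x, hx⟩ : S), s⁆ := Subtype.ext hyx
      rw [← this]
      exact hy
  have hZS : Z ≤ S := fun x hx => ((hZmem x).1 hx).1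
  have hZZ2 : Z ≤ Z2 := by
    intro x hx
    refine (hZ2mem x).2 ⟨hZS hx, fun s hs => ?_⟩
    have := ((hZmem x).1 hx).2 s hs
    rw [← this, mul_inv_cancel_right, mul_inv_cancel]
    exact Z.one_mem
  have hZ2S : Z2 ≤ S := fun x hx => ((hZ2mem x).1 hx).1
  have hfZ2 : Finite Z2 := finite_of_le hZ2S
  have hab : ∀ x ∈ Z2, ∀ y ∈ Z2, x * y = y * x := by
    intro x hx y hy
    have h1 : IsMulCommutative Z2 := IsPGroup.isMulCommutative_of_card_eq_prime_sq hcZ2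
    exact congrArg Subtype.val (h1.is_comm.comm ⟨x, hx⟩ ⟨y, hy⟩)
  have hcomm : ∀ s ∈ S, ∀ x ∈ Z2, s * x * s⁻¹ * x⁻¹ ∈ Z := by
    intro s hs x hx
    have h1 := Z.inv_mem (((hZ2mem x).1 hx).2 s hs)
    have h2 : (x * s * x⁻¹ * s⁻¹)⁻¹ = s * x * s⁻¹ * x⁻¹ := by group
    rwa [h2] at h1
  have hnorm : ∀ s ∈ S, ∀ x ∈ Z2, s * x * s⁻¹ ∈ Z2 := by
    intro s hs x hx
    have h1 := Z2.mul_mem (hZZ2 (hcomm s hs x hx)) hx
    have h2 : s * x * s⁻¹ * x⁻¹ * x = s * x * s⁻¹ := by group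
    rwa [h2] at h1
  have hZ2E : Z2 ≤ E := by
    intro x hx
    rw [hE]
    exact ⟨hZ2S hx, Subgroup.mem_centralizer_iff.2 fun y hy => hab y hy x hx⟩
  refine ⟨hcZ, hcZ2, hZZ2, hZ2E, hab, hnorm, hcomm, ?_⟩
  -- an element of `Z₂` outside `Z`
  obtain ⟨z, hz2, hz⟩ : ∃ z ∈ Z2, z ∉ Z := by
    by_contra hcon
    have h1 : Z2 ≤ Z := fun x hx => by
      by_contra h
      exact hcon ⟨x, hx, h⟩
    have h2 := le_antisymm hZZ2 h1
    rw [← h2, hcZ] at hcZ2
    have : 1 = 2 := Nat.pow_right_injective hp.out.two_le (by show p ^ 1 = p ^ 2; rw [pow_one, ← hcZ2])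
    omega
  have hZ2gen : Z2 = Subgroup.zpowers z ⊔ Z := by
    have hle : Subgroup.zpowers z ⊔ Z ≤ Z2 := sup_le (by simpa using hz2) hZZ2
    symm
    apply Subgroup.eq_of_le_of_card_ge hle
    have hf : Finite ↥(Subgroup.zpowers z ⊔ Z) := Finite.of_injective _ (Subgroup.inclusion_injective hle)
    have h1 : Nat.card Z ∣ Nat.card ↥(Subgroup.zpowers z ⊔ Z) := Subgroup.card_dvd_of_le le_sup_right
    have h2 : Nat.card ↥(Subgroup.zpowers z ⊔ Z) ∣ p ^ 2 := hcZ2 ▸ Subgroup.card_dvd_of_le hle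
    obtain ⟨k, hk, hk'⟩ := (Nat.dvd_prime_pow hp.out).1 h2
    have h3 : Nat.card Z < Nat.card ↥(Subgroup.zpowers z ⊔ Z) := by
      have hlt : Z < Subgroup.zpowers z ⊔ Z := lt_of_le_not_ge le_sup_right fun h =>
        hz (h ((le_sup_left : Subgroup.zpowers z ≤ _) (Subgroup.mem_zpowers z)))
      exact Set.ncard_lt_ncard hlt (Set.toFinite _)
    rw [hcZ2, hk']
    rw [hcZ, hk'] at h3
    have h4 : 1 < k := by
      have : p ^ 1 < p ^ k := by rwa [pow_one]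
      exact (Nat.pow_lt_pow_iff_right hp.out.one_lt).1 this
    exact Nat.pow_le_pow_right hp.out.pos (by omega)
  -- the homomorphism `s ↦ [s, z]`
  have hzS := hZ2S hz2
  have hzc : ∀ s : S, (s : Ω) * z * (s : Ω)⁻¹ * z⁻¹ ∈ Z := fun s => hcomm s s.2 z hz2
  let f : S →* Z :=
    { toFun := fun s => ⟨(s : Ω) * z * (s : Ω)⁻¹ * z⁻¹, hzc s⟩
      map_one' := by
        apply Subtype.ext
        show (1 : Ω) * z * (1 : Ω)⁻¹ * z⁻¹ = 1
        group
      map_mul' := by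
        intro a b
        apply Subtype.ext
        show ((a : Ω) * b) * z * ((a : Ω) * b)⁻¹ * z⁻¹ =
          ((a : Ω) * z * (a : Ω)⁻¹ * z⁻¹) * ((b : Ω) * z * (b : Ω)⁻¹ * z⁻¹)
        have h1 := ((hZmem _).1 (hzc b)).2 ((a : Ω) * z * (a : Ω)⁻¹ * z⁻¹) (hZS (hzc a))
        have h2 := ((hZmem _).1 (hzc b)).2 a a.2
        rw [h1]
        calc ((a : Ω) * b) * z * ((a : Ω) * b)⁻¹ * z⁻¹
            = ((a : Ω) * ((b : Ω) * z * (b : Ω)⁻¹ * z⁻¹)) * z * (a : Ω)⁻¹ * z⁻¹ := by group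
          _ = (((b : Ω) * z * (b : Ω)⁻¹ * z⁻¹) * (a : Ω)) * z * (a : Ω)⁻¹ * z⁻¹ := by rw [h2]
          _ = _ := by group }
  have hker : f.ker = E.subgroupOf S := by
    ext s
    rw [MonoidHom.mem_ker, Subgroup.mem_subgroupOf, hE]
    constructor
    · intro h
      have h1 : (s : Ω) * z * (s : Ω)⁻¹ * z⁻¹ = 1 := congrArg Subtype.val h
      refine ⟨s.2, ?_⟩
      rw [hZ2gen]
      have h2 : (s : Ω) * z = z * s := by
        calc (s : Ω) * z = ((s : Ω) * z * (s : Ω)⁻¹ * z⁻¹) * (z * s) := by group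
          _ = z * s := by rw [h1, one_mul]
      have h3 : Subgroup.zpowers z ⊔ Z ≤ Subgroup.centralizer {(s : Ω)} := by
        rw [sup_le_iff]
        refine ⟨?_, fun y hy => ?_⟩
        · rw [Subgroup.zpowers_le, Subgroup.mem_centralizer_singleton_iff]
          exact h2.symm
        · rw [Subgroup.mem_centralizer_singleton_iff]
          exact (((hZmem y).1 hy).2 s s.2).symm
      refine Subgroup.mem_centralizer_iff.2 fun y hy => ?_
      exact Subgroup.mem_centralizer_singleton_iff.1 (h3 hy)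
    · rintro ⟨-, h⟩
      apply Subtype.ext
      show (s : Ω) * z * (s : Ω)⁻¹ * z⁻¹ = 1
      rw [← Subgroup.mem_centralizer_iff.1 h z hz2]
      group
  have h5 : f.ker.index ∣ p := by
    rw [Subgroup.index_ker, ← hcZ]
    exact Subgroup.card_subgroup_dvd_card _
  rw [← hker]
  rcases (Nat.dvd_prime hp.out).1 h5 with h6 | h6
  · exfalso
    rw [Subgroup.index_eq_one, hker, Subgroup.subgroupOf_eq_top] at h6
    apply hz
    refine (hZmem z).2 ⟨hzS, fun s hs => ?_⟩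
    have h7 := h6 hs
    rw [hE] at h7
    exact (Subgroup.mem_centralizer_iff.1 h7.2 z hz2).symm
  · exact h6

/-- S5270 -/
theorem centralizer_z2_essential [Finite S] {p : ℕ} [hp : Fact p.Prime] (hS : IsPGroup p S)
    {n : ℕ} (hn : Nat.card S = p ^ n) (h4 : 4 ≤ n) (hmax : S.lowerCentralSeries (n - 2) ≠ ⊥)
    {F : FusionSystem S} (hF : F.IsSaturated p) {Z Z2 : Subgroup Ω}
    (hZ : Z = (Subgroup.center S).map S.subtype)
    (hZ2 : Z2 = (Subgroup.upperCentralSeries S 2).map S.subtype)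
    (φ : Z2 →* Ω) (hφ : φ ∈ F.Hom Z2) (hφr : φ.range = Z2)
    (hmove : ∃ (z : Ω) (hz : z ∈ Z2), z ∈ Z ∧ φ ⟨z, hz⟩ ∉ Z) :
    F.IsEssential p (S ⊓ Subgroup.centralizer (Z2 : Set Ω)) := by
  obtain ⟨E, hE⟩ : ∃ E, E = S ⊓ Subgroup.centralizer (Z2 : Set Ω) := ⟨_, rfl⟩
  obtain ⟨hcZ, hcZ2, hZZ2, hZ2E, hab, hnorm, hcomm, hidx⟩ := z2_facts hn h4 hmax hZ hZ2 hE
  rw [← hE]
  have hES : E ≤ S := by rw [hE]; exact inf_le_left
  have hZ2S := hZ2E.trans hES
  have hfE : Finite E := finite_of_le hES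
  have hfZ2 : Finite Z2 := finite_of_le hZ2S
  have hlt : E < S := by
    refine lt_of_le_of_ne hES fun h => ?_
    rw [h, Subgroup.subgroupOf_self, Subgroup.index_top] at hidx
    exact hp.out.one_lt.ne hidx
  have hZ2N : ∀ s ∈ S, s ∈ Subgroup.normalizer (Z2 : Set Ω) := by
    intro s hs
    rw [Subgroup.mem_normalizer_iff]
    intro x
    refine ⟨hnorm s hs x, fun h => ?_⟩
    have h1 := hnorm s⁻¹ (S.inv_mem hs) _ h
    have h2 : s⁻¹ * (s * x * s⁻¹) * s⁻¹⁻¹ = x := by group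
    rwa [h2] at h1
  have hEN : ∀ s ∈ S, s ∈ Subgroup.normalizer (E : Set Ω) := by
    have key : ∀ s ∈ S, ∀ x ∈ E, s * x * s⁻¹ ∈ E := by
      intro s hs x hx
      rw [hE] at hx ⊢
      refine ⟨S.mul_mem (S.mul_mem hs hx.1) (S.inv_mem hs), Subgroup.mem_centralizer_iff.2 fun y hy => ?_⟩
      have h1 := hnorm s⁻¹ (S.inv_mem hs) y hy
      have h2 := Subgroup.mem_centralizer_iff.1 hx.2 _ h1
      calc y * (s * x * s⁻¹) = s * ((s⁻¹ * y * s⁻¹⁻¹) * x) * s⁻¹ := by group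
        _ = s * (x * (s⁻¹ * y * s⁻¹⁻¹)) * s⁻¹ := by rw [h2]
        _ = s * x * s⁻¹ * y := by group
    intro s hs
    rw [Subgroup.mem_normalizer_iff]
    intro x
    refine ⟨key s hs x, fun h => ?_⟩
    have h1 := key s⁻¹ (S.inv_mem hs) _ h
    have h2 : s⁻¹ * (s * x * s⁻¹) * s⁻¹⁻¹ = x := by group
    rwa [h2] at h1
  have hfn : ∀ Q ≤ S, (∀ s ∈ S, s ∈ Subgroup.normalizer (Q : Set Ω)) → F.IsFullyNormalized Q := by
    intro Q hQ hN
    refine ⟨hQ, fun R hR => ?_⟩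
    have h1 : normalizerIn S Q = S := inf_eq_left.2 fun s hs => hN s hs
    rw [h1]
    exact Nat.card_le_card_of_injective _ (Subgroup.inclusion_injective (normalizerIn_le S R))
  have hEn := hfn E hES hEN
  have hZ2n := hfn Z2 hZ2S hZ2N
  -- the extension of `φ`
  obtain ⟨e, he, hex⟩ : ∃ e : Z2 ≃* Z2, IsIso F e ∧ ∀ x : Z2, ((e x : Z2) : Ω) = φ x := by
    obtain ⟨e, he, hex⟩ := exists_iso_of_mem F hφ
    have h1 : ∀ Q : Subgroup Ω, ∀ e : Z2 ≃* Q, Q = Z2 → IsIso F e → (∀ x, ((e x : Q) : Ω) = φ x) →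
        ∃ e : Z2 ≃* Z2, IsIso F e ∧ ∀ x : Z2, ((e x : Z2) : Ω) = φ x := by
      rintro Q e rfl he hex
      exact ⟨e, he, hex⟩
    exact h1 _ e hφr he hex
  have hEN2 : E ≤ Subgroup.normalizer (Z2 : Set Ω) := fun s hs => hZ2N s (hES hs)
  obtain ⟨ψ, hψ, hψx⟩ := receptive_extend' (receptive_of_fullyNormalized hS hF hZ2n) he hZ2E hES hEN2 (by
    intro g hg
    have h1 : conjAut Z2 (hEN2 hg) = 1 := by
      ext x
      rw [conjAut_apply]
      rw [hE] at hg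
      have h2 := Subgroup.mem_centralizer_iff.1 hg.2 x x.2
      rw [← h2, mul_assoc, mul_inv_cancel, mul_one]
      rfl
    rw [h1, map_one]
    exact Subgroup.one_mem _)
  have hψE : ∀ x, ψ x ∈ E := by
    intro x
    have h1 := apply_mem F hψ x
    suffices h : ψ x ∈ S ⊓ Subgroup.centralizer (Z2 : Set Ω) from hE.ge h
    refine ⟨h1, Subgroup.mem_centralizer_iff.2 fun y hy => ?_⟩
    obtain ⟨w, hw⟩ : ∃ w : Z2, e w = ⟨y, hy⟩ := ⟨e.symm ⟨y, hy⟩, MulEquiv.apply_symm_apply _ _⟩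
    have h2 := hψx w
    rw [hw] at h2
    have h3 : ψ ⟨w, hZ2E w.2⟩ = y := h2
    rw [← h3, ← map_mul, ← map_mul]
    congr 1
    apply Subtype.ext
    have h4 : (x : Ω) ∈ S ⊓ Subgroup.centralizer (Z2 : Set Ω) := hE ▸ x.2
    exact Subgroup.mem_centralizer_iff.1 h4.2 w w.2
  let α : MulAut E := MulEquiv.ofBijective (ψ.codRestrict E hψE) (by
    apply Finite.injective_iff_bijective.1
    intro a b hab'
    exact F.injective_of_mem hψ (congrArg Subtype.val hab'))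
  have hαx : ∀ x : E, ((α x : E) : Ω) = ψ x := fun x => rfl
  have hα : α ∈ F.autGroup E := by
    refine (H86.FusBasic.mem_autGroup F hES).2 ?_
    exact mem_of_agree F hψ le_rfl fun _ _ => rfl
  -- centric
  have hcen : centralizerIn S E ≤ E := by
    intro x hx
    have h1 := mem_centralizerIn.1 hx
    rw [hE]
    refine ⟨h1.1, Subgroup.mem_centralizer_iff.2 fun y hy => ?_⟩
    exact h1.2 y (hZ2E hy)
  rcases essential_dichotomy hS hF hlt hEn with ⟨-, hcl⟩ | ⟨h, -⟩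
  swap
  · exact h
  exfalso
  -- everything in `Aut_F(E)` preserves `Z`
  have hZE : Z ≤ E := hZZ2.trans hZ2E
  let K : Subgroup (MulAut E) :=
    { carrier := {β | ∀ x : E, (x : Ω) ∈ Z ↔ ((β x : E) : Ω) ∈ Z}
      mul_mem' := by
        intro a b ha hb x
        rw [MulAut.mul_apply, ← ha, ← hb]
      one_mem' := fun x => Iff.rfl
      inv_mem' := by
        intro a ha x
        have h1 := ha (a⁻¹ x)
        rw [MulAut.apply_inv_self] at h1
        exact h1.symm }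
  have hKe : extSet F E ⊆ K := by
    rintro β ⟨Q, hEQ, θ, hθ, hθx⟩ x
    have hQS : Q ≤ S := le_of_mem F hθ
    have hfQ : Finite Q := finite_of_le hQS
    have hQ : Q = S := by
      apply Subgroup.eq_of_le_of_card_ge hQS
      have h1 : E.relIndex Q * Q.relIndex S = E.relIndex S := Subgroup.relIndex_mul_relIndex _ _ _ hEQ.le hQS
      have h2 : E.relIndex S = p := hidx
      rw [h2] at h1
      have h3 : E.relIndex Q ≠ 1 := by
        intro h
        exact not_le_of_gt hEQ (Subgroup.relIndex_eq_one.1 h)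
      have h4 : Q.relIndex S = 1 := by
        rcases (Nat.dvd_prime hp.out).1 (Dvd.intro _ h1 : E.relIndex Q ∣ p) with h5 | h5
        · exact absurd h5 h3
        · rw [h5] at h1
          exact Nat.eq_of_mul_eq_mul_left hp.out.pos (by rw [h1, mul_one])
      have h5 := Subgroup.relIndex_eq_one.1 h4
      exact Nat.card_le_card_of_injective _ (Subgroup.inclusion_injective h5)
    subst hQ
    have hZmem : ∀ x, x ∈ Z ↔ x ∈ Q ∧ ∀ s ∈ Q, s * x = x * s := by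
      intro x
      rw [hZ]
      constructor
      · rintro ⟨y, hy, rfl⟩
        exact ⟨y.2, fun s hs => congrArg Subtype.val (Subgroup.mem_center_iff.1 hy ⟨s, hs⟩)⟩
      · rintro ⟨hx, h⟩
        exact ⟨⟨x, hx⟩, Subgroup.mem_center_iff.2 fun s => Subtype.ext (h s s.2), rfl⟩
    have hθi := F.injective_of_mem hθ
    have hθm : ∀ s : Q, θ s ∈ Q := fun s => apply_mem F hθ s
    have hsurj : ∀ s ∈ Q, ∃ t : Q, θ t = s := by
      intro s hs
      have hb : Function.Bijective (θ.codRestrict Q hθm) := Finite.injective_iff_bijective.1 (by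
        intro a b hab'
        exact hθi (congrArg Subtype.val hab'))
      obtain ⟨t, ht⟩ := hb.2 ⟨s, hs⟩
      exact ⟨t, congrArg Subtype.val ht⟩
    have h1 := hθx x
    rw [← h1, hZmem, hZmem]
    constructor
    · rintro ⟨-, h⟩
      refine ⟨hθm _, fun s hs => ?_⟩
      obtain ⟨t, rfl⟩ := hsurj s hs
      rw [← map_mul, ← map_mul]
      congr 1
      exact Subtype.ext (h t t.2)
    · rintro ⟨-, h⟩
      refine ⟨hES x.2, fun s hs => ?_⟩
      have h2 := h (θ ⟨s, hs⟩) (hθm _)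
      rw [← map_mul, ← map_mul] at h2
      exact congrArg Subtype.val (hθi h2)
  have hαK : α ∈ K := by
    have : Subgroup.closure (extSet F E) ≤ K := (Subgroup.closure_le _).2 hKe
    rw [hcl] at this
    exact this hα
  obtain ⟨z, hz, hzZ, hzn⟩ := hmove
  apply hzn
  have h1 := (hαK ⟨z, hZ2E hz⟩).1 hzZ
  rw [hαx, hψx ⟨z, hz⟩, hex] at h1
  exact h1

end H89.Z2Ess
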